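import Cfsg.Prelude.Def_Solvable
import Mathlib.GroupTheory.Sylow
import Mathlib.GroupTheory.Complement
import Mathlib.GroupTheory.Subgroup.Centralizer
import Mathlib.Data.Set.Card
import Mathlib.Algebra.BigOperators.Group.Finset.Basic
import Mathlib.Tactic.Group

/-!
Elementary theory of Frobenius complements and fixed-point-free actions.
No character theory is used here.
-/

set_option autoImplicit false
set_option linter.style.haveILetI false

open scoped Pointwise

namespace CfsgLib.Frobenius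

variable {G : Type*} [Group G] {H : Subgroup G}

theorem mem_conjSMul_iff {g x : G} {H : Subgroup G} :
    x ∈ MulAut.conj g • H ↔ g⁻¹ * x * g ∈ H := by
  rw [Subgroup.mem_pointwise_smul_iff_inv_smul_mem]
  simp [MulAut.smul_def]

theorem card_conjSMul (g : G) (H : Subgroup G) :
    Nat.card (MulAut.conj g • H : Subgroup G) = Nat.card H :=
  (Nat.card_congr (Subgroup.equivSMul (MulAut.conj g) H).toEquiv).symm

theorem index_conjSMul [Finite G] (g : G) (H : Subgroup G) :
    (MulAut.conj g • H : Subgroup G).index = H.index := by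
  apply Nat.eq_of_mul_eq_mul_left (Nat.card_pos (α := H))
  rw [H.card_mul_index, ← card_conjSMul g H, Subgroup.card_mul_index]

/-! ### Complements -/

theorem mem_of_conj_mem (hH : Cfsg.IsFrobeniusComplement H) {g x : G} (hx : x ∈ H)
    (hx' : g⁻¹ * x * g ∈ H) (hx1 : x ≠ 1) : g ∈ H := by
  by_contra hg
  have h : x ∈ H ⊓ (MulAut.conj g • H) := ⟨hx, mem_conjSMul_iff.2 hx'⟩
  rw [hH.2.2 g hg, Subgroup.mem_bot] at h
  exact hx1 h

theorem centralizer_le (hH : Cfsg.IsFrobeniusComplement H) {x : G} (hx : x ∈ H) (hx1 : x ≠ 1) :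
    Subgroup.centralizer ({x} : Set G) ≤ H := fun g hg => by
  refine mem_of_conj_mem hH hx ?_ hx1
  rw [Subgroup.mem_centralizer_singleton_iff] at hg
  rwa [mul_assoc, ← hg, inv_mul_cancel_left]

theorem exists_ne_one (hH : Cfsg.IsFrobeniusComplement H) : ∃ x ∈ H, x ≠ 1 := by
  rcases H.bot_or_exists_ne_one with h | h
  · exact absurd h hH.1
  · exact h

theorem normalizer_eq (hH : Cfsg.IsFrobeniusComplement H) :
    Subgroup.normalizer (H : Set G) = H := by
  refine le_antisymm (fun g hg => ?_) Subgroup.le_normalizer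
  obtain ⟨x, hx, hx1⟩ := exists_ne_one hH
  exact mem_of_conj_mem hH hx (Subgroup.mem_normalizer_iff''.1 hg x |>.1 hx) hx1

theorem conj (hH : Cfsg.IsFrobeniusComplement H) (g : G) :
    Cfsg.IsFrobeniusComplement (MulAut.conj g • H) := by
  refine ⟨?_, ?_, fun a ha => ?_⟩
  · intro h
    obtain ⟨x, hx, hx1⟩ := exists_ne_one hH
    have : g * x * g⁻¹ ∈ MulAut.conj g • H := mem_conjSMul_iff.2 (by simpa [mul_assoc] using hx)
    rw [h, Subgroup.mem_bot, conj_eq_one_iff] at this
    exact hx1 this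
  · intro h
    apply hH.2.1
    rw [eq_top_iff]
    intro x _
    have : g * x * g⁻¹ ∈ MulAut.conj g • H := by rw [h]; trivial
    simpa [mem_conjSMul_iff, mul_assoc] using this
  · rw [eq_bot_iff]
    intro y hy
    rw [Subgroup.mem_inf, mem_conjSMul_iff, mem_conjSMul_iff, mem_conjSMul_iff] at hy
    rw [Subgroup.mem_bot]
    by_contra hy1
    refine ha (mem_conjSMul_iff.2 (mem_of_conj_mem hH hy.1 ?_ ?_))
    · simpa [mul_assoc] using hy.2
    · intro h
      exact hy1 (by simpa [mul_assoc] using congrArg (fun t => g * t * g⁻¹) h)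

theorem conj_mem_kernel {x : G} (hx : x ∈ Cfsg.frobeniusKernel H) (g : G) :
    g * x * g⁻¹ ∈ Cfsg.frobeniusKernel H := by
  rcases hx with rfl | hx
  · exact Or.inl (by simp)
  · refine Or.inr fun a ha => hx (g⁻¹ * a) ?_
    rw [mem_conjSMul_iff] at ha ⊢
    simpa [mul_assoc] using ha

theorem eq_one_of_mem_kernel_of_mem {x g : G} (hx : x ∈ Cfsg.frobeniusKernel H)
    (hx' : x ∈ MulAut.conj g • H) : x = 1 :=
  hx.resolve_right fun h => h g hx'

theorem eq_one_of_mem_kernel_of_mem' {x : G} (hx : x ∈ Cfsg.frobeniusKernel H) (hx' : x ∈ H) :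
    x = 1 :=
  eq_one_of_mem_kernel_of_mem (g := 1) hx (mem_conjSMul_iff.2 (by simpa using hx'))

theorem frobeniusKernel_conjSMul (g : G) :
    Cfsg.frobeniusKernel (MulAut.conj g • H) = Cfsg.frobeniusKernel H := by
  ext x
  refine or_congr_right ⟨fun h a ha => h (a * g⁻¹) ?_, fun h a ha => h (a * g) ?_⟩ <;>
    simp only [mem_conjSMul_iff] at ha ⊢ <;> simpa [mul_assoc] using ha

theorem ncard_kernel [Finite G] (hH : Cfsg.IsFrobeniusComplement H) :
    (Cfsg.frobeniusKernel H).ncard = H.index := by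
  let f : (G ⧸ H) × {h : H // (h : G) ≠ 1} → G := fun t => t.1.out * t.2.1 * t.1.out⁻¹
  have hinj : Function.Injective f := by
    rintro ⟨q, ⟨⟨a, ha⟩, ha1⟩⟩ ⟨r, ⟨⟨b, hb⟩, hb1⟩⟩ h
    simp only [f] at h
    have hm : q.out⁻¹ * r.out ∈ H := by
      refine mem_of_conj_mem hH ha ?_ ha1
      have h1 : a = q.out⁻¹ * (r.out * b * r.out⁻¹) * q.out := by rw [← h]; group
      rw [show (q.out⁻¹ * r.out)⁻¹ * a * (q.out⁻¹ * r.out) = b by rw [h1]; group]
      exact hb
    have hqr : q = r := by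
      rw [← QuotientGroup.out_eq' q, ← QuotientGroup.out_eq' r]
      exact QuotientGroup.eq.2 hm
    subst hqr
    obtain rfl : a = b := by simpa using h
    rfl
  have hrange : Set.range f = (Cfsg.frobeniusKernel H)ᶜ := by
    ext x
    constructor
    · rintro ⟨⟨q, ⟨⟨a, ha⟩, ha1⟩⟩, rfl⟩ hker
      have hm : q.out * a * q.out⁻¹ ∈ MulAut.conj q.out • H := by
        rw [mem_conjSMul_iff]; simpa [mul_assoc] using ha
      exact ha1 (conj_eq_one_iff.1 (eq_one_of_mem_kernel_of_mem hker hm))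
    · intro hx
      rw [Set.mem_compl_iff, Cfsg.frobeniusKernel, Set.mem_ofPred_eq, not_or] at hx
      obtain ⟨hx1, hx⟩ := hx
      push Not at hx
      obtain ⟨g, hg⟩ := hx
      rw [mem_conjSMul_iff] at hg
      have hm : (QuotientGroup.mk (s := H) g).out⁻¹ * x * (QuotientGroup.mk (s := H) g).out ∈ H := by
        obtain ⟨h, hh⟩ := QuotientGroup.mk_out_eq_mul H g
        rw [hh]
        have := H.mul_mem (H.mul_mem (H.inv_mem h.2) hg) h.2
        simpa [mul_assoc] using this
      refine ⟨⟨QuotientGroup.mk g, ⟨⟨_, hm⟩, ?_⟩⟩, ?_⟩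
      · intro h
        exact hx1 (by simpa [mul_inv_eq_one, mul_assoc, mul_eq_one_iff_eq_inv] using h)
      · simp only [f]; group
  have h1 : (Cfsg.frobeniusKernel H)ᶜ.ncard = H.index * (Nat.card H - 1) := by
    rw [← hrange, ← Nat.card_coe_set_eq, Nat.card_range_of_injective hinj, Nat.card_prod,
      ← Subgroup.index_eq_card]
    congr 1
    have hs : {h : H | (h : G) ≠ 1} = ({1} : Set H)ᶜ := by ext y; simp
    rw [← Set.coe_ofPred, Nat.card_coe_set_eq, hs, Set.ncard_compl, Set.ncard_singleton]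
  have h2 := Set.ncard_add_ncard_compl (Cfsg.frobeniusKernel H)
  rw [h1, ← H.card_mul_index] at h2
  have h3 : 0 < Nat.card H := Nat.card_pos
  obtain ⟨k, hk⟩ : ∃ k, Nat.card H = k + 1 := ⟨Nat.card H - 1, by omega⟩
  rw [hk, Nat.add_sub_cancel, Nat.succ_mul, mul_comm H.index k] at h2
  omega

theorem card_kernel [Finite G] (hH : Cfsg.IsFrobeniusComplement H) :
    Nat.card (Cfsg.frobeniusKernel H) = H.index := by
  rw [Nat.card_coe_set_eq, ncard_kernel hH]

theorem ncard_kernel_compl [Finite G] (hH : Cfsg.IsFrobeniusComplement H) :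
    (Cfsg.frobeniusKernel H)ᶜ.ncard + H.index = Nat.card G := by
  rw [← ncard_kernel hH, add_comm, Set.ncard_add_ncard_compl]

theorem coprime_card_index [Finite G] (hH : Cfsg.IsFrobeniusComplement H) :
    (Nat.card H).Coprime H.index := by
  refine Nat.coprime_of_dvd fun p hp hpH hpi => ?_
  haveI : Fact p.Prime := ⟨hp⟩
  let P : Sylow p H := default
  set P' := (P : Subgroup H).map H.subtype with hP'
  have hP'ne : P' ≠ ⊥ := by
    rw [hP', Ne, Subgroup.map_eq_bot_iff_of_injective _ H.subtype_injective]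
    exact P.ne_bot_of_dvd_card hpH
  -- the normalizer of `P'` is contained in `H`
  have hN : Subgroup.normalizer (P' : Set G) ≤ H := by
    intro g hg
    obtain ⟨x, hx, hx1⟩ := (Subgroup.bot_or_exists_ne_one P').resolve_left hP'ne
    exact mem_of_conj_mem hH (Subgroup.map_subtype_le _ hx)
      (Subgroup.map_subtype_le _ ((Subgroup.mem_normalizer_iff''.1 hg x).1 hx)) hx1
  obtain ⟨n, hn⟩ := IsPGroup.iff_card.1 (P.isPGroup'.map H.subtype)
  have hdvd : p ^ (n + 1) ∣ Nat.card G := by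
    rw [← H.card_mul_index, pow_succ]
    refine mul_dvd_mul ?_ hpi
    rw [← hn]
    exact Subgroup.card_dvd_of_le (Subgroup.map_subtype_le _)
  have h1 : p ^ (n + 1) ∣ Nat.card (Subgroup.normalizer (P' : Set G)) :=
    Sylow.prime_pow_dvd_card_normalizer hdvd hn
  have h2 : p ^ (n + 1) ∣ Nat.card P := P.pow_dvd_card_of_pow_dvd_card
    (h1.trans (Subgroup.card_dvd_of_le hN))
  have h3 : Nat.card P = p ^ n :=
    (Subgroup.card_map_of_injective (K := (P : Subgroup H)) H.subtype_injective).symm.trans hn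
  have h4 : 0 < p ^ n := pow_pos hp.pos n
  have h5 := Nat.le_of_dvd (by omega) h2
  rw [h3] at h5
  have := Nat.pow_lt_pow_right hp.one_lt (show n < n + 1 by omega)
  omega

theorem not_dvd_orderOf_of_mem_kernel [Finite G] (hH : Cfsg.IsFrobeniusComplement H) {x : G}
    (hx : x ∈ Cfsg.frobeniusKernel H) {p : ℕ} (hp : p.Prime) (hpH : p ∣ Nat.card H) :
    ¬ p ∣ orderOf x := by
  intro hpx
  haveI : Fact p.Prime := ⟨hp⟩
  set y := x ^ (orderOf x / p) with hy
  have hord : orderOf y = p := by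
    rw [hy, orderOf_pow_of_dvd (Nat.pos_iff_ne_zero.1 (Nat.div_pos (Nat.le_of_dvd (orderOf_pos x) hpx)
      hp.pos)) (Nat.div_dvd_of_dvd hpx), Nat.div_div_self hpx (orderOf_pos x).ne']
  have hyp : IsPGroup p (Subgroup.zpowers y) :=
    IsPGroup.of_card (n := 1) (by rw [Nat.card_zpowers, hord, pow_one])
  obtain ⟨Q, hQ⟩ := hyp.exists_le_sylow
  -- a Sylow subgroup of `H` is one of `G`
  let P : Sylow p H := default
  have hidx : ¬ p ∣ ((P : Subgroup H).map H.subtype).index := by
    rw [Subgroup.index_map_subtype]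
    intro h
    rcases hp.dvd_mul.1 h with h | h
    · exact P.not_dvd_index h
    · exact (hp.coprime_iff_not_dvd.1 ((coprime_card_index hH).coprime_dvd_left hpH)) h
  let P' : Sylow p G := (P.isPGroup'.map H.subtype).toSylow hidx
  obtain ⟨g, hg⟩ := MulAction.exists_smul_eq G P' Q
  have hQH : (Q : Subgroup G) ≤ MulAut.conj g • H := by
    rw [← hg, Sylow.coe_subgroup_smul]
    exact Subgroup.pointwise_smul_le_pointwise_smul_iff.2 (Subgroup.map_subtype_le _)
  have hyH : y ∈ MulAut.conj g • H := hQH (hQ (Subgroup.mem_zpowers y))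
  have hy1 : y ≠ 1 := fun h => by rw [h, orderOf_one] at hord; exact hp.one_lt.ne hord
  have hxH : x ∈ MulAut.conj g • H :=
    centralizer_le (conj hH g) hyH hy1 (Subgroup.mem_centralizer_singleton_iff.2
      (Commute.self_pow x _).eq)
  rw [eq_one_of_mem_kernel_of_mem hx hxH, orderOf_one, Nat.dvd_one] at hpx
  exact hp.one_lt.ne' hpx

theorem orderOf_coprime_of_mem_kernel [Finite G] (hH : Cfsg.IsFrobeniusComplement H) {x : G}
    (hx : x ∈ Cfsg.frobeniusKernel H) : (orderOf x).Coprime (Nat.card H) :=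
  Nat.coprime_of_dvd fun _ hp h1 h2 => not_dvd_orderOf_of_mem_kernel hH hx hp h2 h1

theorem index_ge_two (hH : Cfsg.IsFrobeniusComplement H) [Finite G] : 2 ≤ H.index := by
  have h1 := Subgroup.index_ne_zero_of_finite (H := H)
  have h2 : H.index ≠ 1 := fun h => hH.2.1 (Subgroup.index_eq_one.1 h)
  omega

theorem card_ge_two (hH : Cfsg.IsFrobeniusComplement H) [Finite G] : 2 ≤ Nat.card H :=
  (Subgroup.one_lt_card_iff_ne_bot H).2 hH.1

/-- Restriction of a Frobenius complement to a subgroup. -/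
theorem subgroupOf (hH : Cfsg.IsFrobeniusComplement H) {K : Subgroup G} (h1 : H ⊓ K ≠ ⊥)
    (h2 : ¬ K ≤ H) : Cfsg.IsFrobeniusComplement (H.subgroupOf K) := by
  refine ⟨?_, fun h => h2 (Subgroup.subgroupOf_eq_top.1 h), fun g hg => ?_⟩
  · rwa [Ne, Subgroup.subgroupOf_eq_bot, disjoint_iff]
  · rw [eq_bot_iff]
    intro y hy
    rw [Subgroup.mem_inf, mem_conjSMul_iff, Subgroup.mem_subgroupOf, Subgroup.mem_subgroupOf] at hy
    rw [Subgroup.mem_bot]
    by_contra hy1
    refine hg (Subgroup.mem_subgroupOf.2 (mem_of_conj_mem hH hy.1 ?_ ?_))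
    · simpa using hy.2
    · simpa using hy1

/-- A subgroup meeting the Frobenius kernel trivially and `H` nontrivially lies in `H`. -/
theorem le_of_inf_ne_bot [Finite G] (hH : Cfsg.IsFrobeniusComplement H) {K : Subgroup G}
    (hK : ∀ x ∈ K, x ∈ Cfsg.frobeniusKernel H → x = 1) (hne : H ⊓ K ≠ ⊥) : K ≤ H := by
  by_contra hle
  have hA := subgroupOf hH hne hle
  set A := H.subgroupOf K with hAdef
  have hiA := ncard_kernel_compl hA
  -- an element of `K` outside the `K`-conjugates of `H ⊓ K`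
  obtain ⟨y, hy, hy1⟩ : ∃ y : K, y ∈ Cfsg.frobeniusKernel A ∧ y ≠ 1 := by
    by_contra h
    push Not at h
    have hs : Cfsg.frobeniusKernel A = {1} :=
      Set.eq_singleton_iff_unique_mem.2 ⟨Or.inl rfl, h⟩
    have := ncard_kernel hA
    rw [hs, Set.ncard_singleton] at this
    have := index_ge_two hA
    omega
  obtain ⟨g, hg⟩ : ∃ g : G, (y : G) ∈ MulAut.conj g • H := by
    by_contra h
    push Not at h
    exact hy1 (Subtype.ext (hK y y.2 (Or.inr h)))
  set H' := MulAut.conj g • H with hH'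
  have hle' : ¬ K ≤ H' := by
    intro h
    obtain ⟨x, ⟨hxH, hxK⟩, hx1⟩ := (Subgroup.bot_or_exists_ne_one _).resolve_left hne
    have hgH : g ∈ H := mem_of_conj_mem hH hxH (mem_conjSMul_iff.1 (h hxK)) hx1
    refine hle (fun z hz => ?_)
    have h1 := mem_conjSMul_iff.1 (h hz)
    have := H.mul_mem (H.mul_mem hgH h1) (H.inv_mem hgH)
    simpa [mul_assoc] using this
  have hne' : H' ⊓ K ≠ ⊥ := fun h => hy1 (Subtype.ext (by
    have : (y : G) ∈ H' ⊓ K := ⟨hg, y.2⟩
    rwa [h, Subgroup.mem_bot] at this))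
  have hB := subgroupOf (conj hH g) hne' hle'
  set B := H'.subgroupOf K with hBdef
  have hiB := ncard_kernel_compl hB
  have hdisj : Disjoint (Cfsg.frobeniusKernel A)ᶜ (Cfsg.frobeniusKernel B)ᶜ := by
    rw [Set.disjoint_left]
    intro z hzA hzB
    simp only [Cfsg.frobeniusKernel, Set.mem_compl_iff, Set.mem_ofPred_eq, not_or] at hzA hzB
    obtain ⟨hz1, hzA⟩ := hzA
    obtain ⟨-, hzB⟩ := hzB
    push Not at hzA hzB
    obtain ⟨a, ha⟩ := hzA
    obtain ⟨b, hb⟩ := hzB
    simp only [mem_conjSMul_iff, hAdef, hBdef, hH', Subgroup.mem_subgroupOf, Subgroup.coe_mul,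
      Subgroup.coe_inv] at ha hb
    have hab : (a : G)⁻¹ * b * g ∈ H := by
      refine mem_of_conj_mem hH ha ?_ ?_
      · simpa [mul_assoc] using hb
      · simpa [mul_inv_eq_one, mul_assoc, mul_eq_one_iff_eq_inv] using hz1
    -- `y` would be conjugate in `K` into `H`
    refine hy1 (eq_one_of_mem_kernel_of_mem (g := b⁻¹ * a) hy ?_)
    rw [mem_conjSMul_iff, Subgroup.mem_subgroupOf]
    have hyg := mem_conjSMul_iff.1 hg
    have := H.mul_mem (H.mul_mem hab hyg) (H.inv_mem hab)
    simpa [mul_assoc] using this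
  have hun : (Cfsg.frobeniusKernel A)ᶜ ∪ (Cfsg.frobeniusKernel B)ᶜ ⊆ {(1 : K)}ᶜ := by
    rintro z (hz | hz) (rfl : z = 1) <;> exact hz (Or.inl rfl)
  have h3 := Set.ncard_le_ncard hun
  rw [Set.ncard_union_eq hdisj, Set.ncard_compl {(1 : K)}, Set.ncard_singleton] at h3
  have h4 : 2 * A.index ≤ Nat.card K := by
    rw [← A.card_mul_index]; exact Nat.mul_le_mul_right _ (card_ge_two hA)
  have h5 : 2 * B.index ≤ Nat.card K := by
    rw [← B.card_mul_index]; exact Nat.mul_le_mul_right _ (card_ge_two hB)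
  have h6 : 0 < Nat.card K := Nat.card_pos
  omega

/-- A subgroup containing no nontrivial element of the Frobenius kernel lies in a conjugate of
the complement. -/
theorem exists_le_conj [Finite G] (hH : Cfsg.IsFrobeniusComplement H) {K : Subgroup G}
    (hK : ∀ x ∈ K, x ∈ Cfsg.frobeniusKernel H → x = 1) : ∃ g : G, K ≤ MulAut.conj g • H := by
  rcases K.bot_or_exists_ne_one with rfl | ⟨x, hx, hx1⟩
  · exact ⟨1, bot_le⟩
  obtain ⟨g, hg⟩ : ∃ g : G, x ∈ MulAut.conj g • H := by
    by_contra h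
    push Not at h
    exact hx1 (hK x hx (Or.inr h))
  refine ⟨g, le_of_inf_ne_bot (conj hH g) (by rwa [frobeniusKernel_conjSMul]) fun h => hx1 ?_⟩
  have : x ∈ MulAut.conj g • H ⊓ K := ⟨hg, hx⟩
  rwa [h, Subgroup.mem_bot] at this

/-- A subgroup whose order divides that of the complement lies in one of its conjugates. -/
theorem exists_le_conj_of_card_dvd [Finite G] (hH : Cfsg.IsFrobeniusComplement H) {K : Subgroup G}
    (hK : Nat.card K ∣ Nat.card H) : ∃ g : G, K ≤ MulAut.conj g • H :=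
  exists_le_conj hH fun x hx hx' => orderOf_eq_one_iff.1 <| Nat.eq_one_of_dvd_coprimes
    ((orderOf_coprime_of_mem_kernel hH hx').coprime_dvd_right hK) dvd_rfl
    (Subgroup.orderOf_dvd_natCard K hx)

/-- Of two Frobenius complements, one with the not larger order is contained in a conjugate of the
other. -/
theorem exists_conj_le_of_card_le [Finite G] {H₀ : Subgroup G} (hH : Cfsg.IsFrobeniusComplement H)
    (hH₀ : Cfsg.IsFrobeniusComplement H₀) (hle : Nat.card H₀ ≤ Nat.card H) :
    ∃ g : G, MulAut.conj g • H₀ ≤ H := by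
  suffices hK : ∀ x ∈ H₀, x ∈ Cfsg.frobeniusKernel H → x = 1 by
    obtain ⟨g, hg⟩ := exists_le_conj hH hK
    refine ⟨g⁻¹, ?_⟩
    have := Subgroup.pointwise_smul_le_pointwise_smul_iff (a := (MulAut.conj g)⁻¹).2 hg
    rwa [inv_smul_smul, ← map_inv] at this
  intro e he hek
  by_contra he1
  let f : G ⧸ H₀ → G := fun q => q.out * e * q.out⁻¹
  have hinj : Function.Injective f := fun q r h => by
    simp only [f] at h
    have hm : q.out⁻¹ * r.out ∈ H₀ := by
      refine mem_of_conj_mem hH₀ he ?_ he1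
      rw [show (q.out⁻¹ * r.out)⁻¹ * e * (q.out⁻¹ * r.out) = r.out⁻¹ * (q.out * e * q.out⁻¹) * r.out
        by group, h, show r.out⁻¹ * (r.out * e * r.out⁻¹) * r.out = e by group]
      exact he
    rw [← QuotientGroup.out_eq' q, ← QuotientGroup.out_eq' r]
    exact QuotientGroup.eq.2 hm
  have hsub : Set.range f ⊆ Cfsg.frobeniusKernel H \ {1} := by
    rintro _ ⟨q, rfl⟩
    exact ⟨conj_mem_kernel hek _, fun h => he1 (conj_eq_one_iff.1 h)⟩
  have h1 := Set.ncard_le_ncard hsub
  rw [← Nat.card_coe_set_eq, Nat.card_range_of_injective hinj, ← Subgroup.index_eq_card,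
    Set.ncard_sdiff_singleton_of_mem (show (1 : G) ∈ Cfsg.frobeniusKernel H from Or.inl rfl),
    ncard_kernel hH] at h1
  have h2 : H.index ≤ H₀.index := by
    refine Nat.le_of_mul_le_mul_left ?_ (Nat.card_pos (α := H₀))
    rw [H₀.card_mul_index, ← H.card_mul_index]
    exact Nat.mul_le_mul_right _ hle
  have := index_ge_two hH
  omega

/-! ### Complements and fixed-point-free action on a normal complement -/

variable {K : Subgroup G}

theorem commute_of_fpf {K H : Subgroup G}
    (hfpf : ∀ h ∈ H, h ≠ 1 → K ⊓ Subgroup.centralizer {h} = ⊥) {h k : G} (hh : h ∈ H) (h1 : h ≠ 1)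
    (hk : k ∈ K) (hc : Commute k h) : k = 1 := by
  have : k ∈ K ⊓ Subgroup.centralizer {h} :=
    ⟨hk, Subgroup.mem_centralizer_singleton_iff.2 hc.eq⟩
  rwa [hfpf h hh h1, Subgroup.mem_bot] at this

theorem isFrobeniusComplement_of_fpf [K.Normal] (hc : Subgroup.IsComplement' K H) (hK : K ≠ ⊥)
    (hH : H ≠ ⊥) (hfpf : ∀ h ∈ H, h ≠ 1 → K ⊓ Subgroup.centralizer {h} = ⊥) :
    Cfsg.IsFrobeniusComplement H := by
  refine ⟨hH, fun h => hK ?_, fun g hg => ?_⟩
  · subst h
    simpa using hc.disjoint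
  rw [eq_bot_iff]
  intro x hx
  rw [Subgroup.mem_inf, mem_conjSMul_iff] at hx
  rw [Subgroup.mem_bot]
  by_contra hx1
  obtain ⟨⟨k, h⟩, rfl⟩ := hc.2 g
  simp only at hx hg
  set y := (k : G)⁻¹ * x * k with hy
  have hyH : y ∈ H := by
    have := H.mul_mem (H.mul_mem h.2 hx.2) (H.inv_mem h.2)
    simpa [hy, mul_assoc] using this
  have hxy : x⁻¹ * y = 1 := by
    refine Subgroup.disjoint_def.1 hc.disjoint ?_ (H.mul_mem (H.inv_mem hx.1) hyH)
    have h2 := K.mul_mem (Subgroup.Normal.conj_mem ‹K.Normal› _ (K.inv_mem k.2) x⁻¹) k.2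
    simpa [hy, mul_assoc] using h2
  have hcomm : Commute (k : G) x := by
    rw [inv_mul_eq_one, hy] at hxy
    show (k : G) * x = x * k
    conv_lhs => rw [hxy]
    group
  have hk1 := commute_of_fpf hfpf hx.1 hx1 k.2 hcomm
  exact hg (by simpa [hk1] using h.2)

theorem fpf_of_isFrobeniusComplement [K.Normal] (hc : Subgroup.IsComplement' K H)
    (hF : Cfsg.IsFrobeniusComplement H) {h : G} (hh : h ∈ H) (h1 : h ≠ 1) :
    K ⊓ Subgroup.centralizer {h} = ⊥ := by
  rw [eq_bot_iff]
  rintro k ⟨hk, hkc⟩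
  exact Subgroup.disjoint_def.1 hc.disjoint hk (centralizer_le hF hh h1 hkc)

theorem kernel_eq_of_isComplement' [Finite G] [K.Normal] (hc : Subgroup.IsComplement' K H)
    (hF : Cfsg.IsFrobeniusComplement H) : (K : Set G) = Cfsg.frobeniusKernel H := by
  refine Set.eq_of_subset_of_ncard_le (fun x hx => ?_) ?_
  · by_cases hx1 : x = 1
    · exact Or.inl hx1
    refine Or.inr fun g hg => hx1 ?_
    rw [mem_conjSMul_iff] at hg
    have h2 : g⁻¹ * x * g ∈ K := by
      simpa using Subgroup.Normal.conj_mem ‹K.Normal› x hx g⁻¹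
    simpa [mul_assoc, inv_mul_eq_one, mul_eq_one_iff_eq_inv] using
      Subgroup.disjoint_def.1 hc.disjoint h2 hg
  · rw [ncard_kernel hF, hc.index_eq_card]
    exact le_of_eq (Nat.card_coe_set_eq (K : Set G))

/-- A subgroup with carrier the Frobenius kernel is a normal complement. -/
theorem normal_isComplement'_of_coe_eq [Finite G] (hF : Cfsg.IsFrobeniusComplement H)
    {N : Subgroup G} (hN : (N : Set G) = Cfsg.frobeniusKernel H) :
    N.Normal ∧ Subgroup.IsComplement' N H := by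
  refine ⟨⟨fun x hx g => ?_⟩, Subgroup.isComplement'_of_card_mul_and_disjoint ?_ ?_⟩
  · rw [← SetLike.mem_coe, hN] at hx ⊢
    exact conj_mem_kernel hx g
  · rw [show Nat.card N = H.index by rw [← card_kernel hF, ← hN]; rfl, mul_comm, H.card_mul_index]
  · exact Subgroup.disjoint_def.2 fun {x} hx hx' =>
      eq_one_of_mem_kernel_of_mem' (hN ▸ hx) hx'

end CfsgLib.Frobenius
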