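import Cfsg.Agent.Lib.Frobenius.FixedDim
import Cfsg.Agent.Lib.Solvable.CoprimeAbelian
import Mathlib.RingTheory.LittleWedderburn
import Mathlib.LinearAlgebra.Dimension.StrongRankCondition
import Mathlib.LinearAlgebra.FreeModule.Finite.Matrix

/-!
# Frobenius groups of automorphisms with a small fixed space of a complement of prime order
-/

set_option autoImplicit false
set_option linter.style.haveILetI false

open scoped commutatorElement

namespace CfsgLib.Frobenius

variable {ℓ : ℕ} [Fact ℓ.Prime] {X : Type*} [Group X] [Finite X] {V K R : Subgroup X}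

/-- If a Frobenius group `K R`, `|R|` prime, acts on an elementary abelian group `V` of order
`ℓ ^ |R|` irreducibly for `K`, then `K` induces an abelian group on `V`. -/
theorem commutator_le_centralizer_of_irreducible
    (hab : IsMulCommutative V) (hexp : ∀ v ∈ V, v ^ ℓ = 1)
    (hKV : K ≤ Subgroup.normalizer (V : Set X)) (hRV : R ≤ Subgroup.normalizer (V : Set X))
    (hRK : R ≤ Subgroup.normalizer (K : Set X)) (hK : K ≠ ⊥) (hR : (Nat.card R).Prime)
    (hKR : K ⊓ R = ⊥) (hfpf : ∀ r ∈ R, r ≠ 1 → K ⊓ Subgroup.centralizer {r} = ⊥)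
    (hℓ : ¬ ℓ ∣ Nat.card ↥(K ⊔ R)) (hcard : Nat.card V = ℓ ^ Nat.card R)
    (hirr : ∀ B ≤ V, K ≤ Subgroup.normalizer (B : Set X) → B = ⊥ ∨ B = V) :
    ⁅K, K⁆ ≤ Subgroup.centralizer (V : Set X) := by
  classical
  have hR1 : R ≠ ⊥ := fun h => hR.one_lt.ne' (by rw [h, Subgroup.card_bot])
  obtain ⟨hn, hc, hF⟩ := frobenius_sup hRK hK hR1 hKR hfpf
  haveI := hn
  letI : CommGroup V :=
    { (inferInstance : Group V) with mul_comm := fun a b => Subtype.ext (setLike_mul_comm a.2 b.2) }
  have hW : K ⊔ R ≤ Subgroup.normalizer (V : Set X) := sup_le hKV hRV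
  set G := ↥(K ⊔ R)
  let φ : G →* MulAut V := V.normalizerMonoidHom.comp (Subgroup.inclusion hW)
  letI : Module (ZMod ℓ) (Additive V) := AddCommGroup.zmodModule (n := ℓ)
    (fun x => Additive.toMul.injective (Subtype.ext (hexp _ x.toMul.2)))
  haveI : FiniteDimensional (ZMod ℓ) (Additive V) := Module.Finite.of_finite
  have hfr : Module.finrank (ZMod ℓ) (Additive V) = Nat.card R := by
    refine Nat.pow_right_injective (Fact.out : ℓ.Prime).two_le ?_
    show ℓ ^ _ = ℓ ^ _
    rw [← hcard, ← Nat.card_congr (Additive.toMul : Additive V ≃ V),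
      Module.natCard_eq_pow_finrank (K := ZMod ℓ) (V := Additive V), Nat.card_zmod]
  let e := (AddMonoidHom.toZModLinearMapEquiv ℓ :
    (Additive V →+ Additive V) ≃+ (Additive V →ₗ[ZMod ℓ] Additive V))
  haveI : Finite (Additive V →+ Additive V) :=
    Finite.of_injective (fun f => (f : Additive V → Additive V)) DFunLike.coe_injective
  have hEcard : Nat.card (AddMonoid.End (Additive V)) = ℓ ^ (Nat.card R * Nat.card R) := by
    rw [← hfr, ← Module.finrank_linearMap (ZMod ℓ) (ZMod ℓ) (Additive V) (Additive V)]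
    show Nat.card (Additive V →+ Additive V) = _
    rw [Nat.card_congr e.toEquiv,
      Module.natCard_eq_pow_finrank (K := ZMod ℓ) (V := Additive V →ₗ[ZMod ℓ] Additive V),
      Nat.card_zmod]
  let A := Multiplicative (AddMonoid.End (Additive V))
  haveI : Finite (AddMonoid.End (Additive V)) :=
    inferInstanceAs (Finite (Additive V →+ Additive V))
  have hAexp : ∀ a : A, a ^ ℓ = 1 := fun a => by
    apply Multiplicative.toAdd.injective
    rw [toAdd_pow, toAdd_one]
    refine AddMonoidHom.ext fun x => ?_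
    show ℓ • (Multiplicative.toAdd a x) = 0
    exact Additive.toMul.injective (Subtype.ext (hexp _ (Multiplicative.toAdd a x).toMul.2))
  let act : G →* AddMonoid.End (Additive V) :=
    { toFun := fun g => MonoidHom.toAdditive (φ g).toMonoidHom
      map_one' := by rw [map_one]; rfl
      map_mul' := fun g h => by rw [map_mul]; rfl }
  let conjA : G → A →* A := fun g =>
    { toFun := fun f => Multiplicative.ofAdd (act g * Multiplicative.toAdd f * act g⁻¹)
      map_one' := by simp
      map_mul' := fun f f' => by rw [← ofAdd_add, toAdd_mul, mul_add, add_mul] }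
  have conjA1 : ∀ f, conjA 1 f = f := fun f => by simp [conjA]
  have conjAm : ∀ g h f, conjA (g * h) f = conjA g (conjA h f) := fun g h f => by
    simp [conjA, mul_assoc]
  let ψ : G →* MulAut A := MonoidHom.mk'
    (fun g =>
      { toFun := conjA g
        invFun := conjA g⁻¹
        left_inv := fun f => by rw [← conjAm, inv_mul_cancel, conjA1]
        right_inv := fun f => by rw [← conjAm, mul_inv_cancel, conjA1]
        map_mul' := map_mul (conjA g) })
    (fun g h => MulEquiv.ext fun f => conjAm g h f)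
  obtain ⟨d, hd, key⟩ := exists_frobenius_dim (ℓ := ℓ) hAexp ψ hℓ hc hF
  -- the commuting ring
  let E : Subring (AddMonoid.End (Additive V)) :=
    Subring.centralizer (act '' (K.subgroupOf (K ⊔ R) : Set G))
  have hfix : ∀ f : A, (∀ s ∈ K.subgroupOf (K ⊔ R), ψ s f = f) ↔ Multiplicative.toAdd f ∈ E := by
    intro f
    rw [Subring.mem_centralizer_iff]
    constructor
    · rintro h _ ⟨s, hs, rfl⟩
      have h1 : act s * Multiplicative.toAdd f * act s⁻¹ = Multiplicative.toAdd f :=
        congrArg Multiplicative.toAdd (h s hs)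
      calc act s * Multiplicative.toAdd f
          = act s * Multiplicative.toAdd f * (act s⁻¹ * act s) := by
            rw [← map_mul, inv_mul_cancel, map_one, mul_one]
        _ = Multiplicative.toAdd f * act s := by rw [← mul_assoc, h1]
    · intro h s hs
      apply Multiplicative.toAdd.injective
      show act s * Multiplicative.toAdd f * act s⁻¹ = Multiplicative.toAdd f
      rw [h _ ⟨s, hs, rfl⟩, mul_assoc, ← map_mul, mul_inv_cancel, map_one, mul_one]
  have hdK : Nat.card E = ℓ ^ d (K.subgroupOf (K ⊔ R)) := by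
    rw [← hd]
    exact (Nat.card_congr (Equiv.subtypeEquiv Multiplicative.toAdd hfix)).symm
  have hdbot : d ⊥ = Nat.card R * Nat.card R := by
    refine Nat.pow_right_injective (Fact.out : ℓ.Prime).two_le ?_
    show ℓ ^ _ = ℓ ^ _
    rw [← hd, ← hEcard]
    refine (Nat.card_congr (Equiv.subtypeUnivEquiv fun a s hs => ?_)).trans
      (Nat.card_congr Multiplicative.toAdd)
    rw [Subgroup.mem_bot.1 hs, map_one]
    rfl
  have hRc : Nat.card ↥(R.subgroupOf (K ⊔ R)) = Nat.card R :=
    Nat.card_congr (Subgroup.subgroupOfEquivOfLe le_sup_right).toEquiv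
  rw [hRc, hdbot] at key
  have hdvd : Nat.card R ∣ d (K.subgroupOf (K ⊔ R)) := by
    have h1 : Nat.card R ∣ Nat.card R * d ⊤ + Nat.card R * Nat.card R :=
      dvd_add (dvd_mul_right _ _) (dvd_mul_right _ _)
    rw [key] at h1
    exact (Nat.dvd_add_right (dvd_mul_right _ _)).1 h1
  haveI hVnt : Nontrivial V := by
    rw [← Finite.one_lt_card_iff_nontrivial, hcard]
    exact Nat.one_lt_pow hR.ne_zero (Fact.out : ℓ.Prime).one_lt
  obtain ⟨v₀, hv₀⟩ := exists_ne (1 : V)
  set a₀ : Additive V := Additive.ofMul v₀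
  have ha₀ : a₀ ≠ 0 := fun h => hv₀ (Additive.ofMul.injective h)
  haveI : Nontrivial (AddMonoid.End (Additive V)) :=
    ⟨⟨1, 0, fun h => ha₀ (DFunLike.congr_fun h a₀)⟩⟩
  haveI : Finite E := Finite.of_injective _ Subtype.val_injective
  haveI : Nontrivial E := ⟨⟨1, 0, fun h => ha₀ (DFunLike.congr_fun (congrArg Subtype.val h) a₀)⟩⟩
  have hd0 : d (K.subgroupOf (K ⊔ R)) ≠ 0 := fun h => by
    have := Finite.one_lt_card (α := E)
    rw [hdK, h, pow_zero] at this
    omega
  -- nonzero elements of `E` are injective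
  have hinj : ∀ f : E, f ≠ 0 → ∀ a, f.1 a = 0 → a = 0 := by
    intro f hf a ha
    let B : Subgroup V := (AddSubgroup.toSubgroup' (AddMonoidHom.ker (f.1 : Additive V →+ Additive V)))
    have hB : ∀ v : V, v ∈ B ↔ f.1 (Additive.ofMul v) = 0 := fun v => Iff.rfl
    have hKB : K ≤ Subgroup.normalizer ((B.map V.subtype : Subgroup X) : Set X) := by
      have key2 : ∀ k ∈ K, ∀ v ∈ B.map V.subtype, k * v * k⁻¹ ∈ B.map V.subtype := by
        rintro k hk _ ⟨v, hv, rfl⟩
        refine ⟨φ ⟨k, Subgroup.mem_sup_left hk⟩ v, ?_, rfl⟩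
        rw [SetLike.mem_coe, hB] at hv ⊢
        have h1 := DFunLike.congr_fun
          (Subring.mem_centralizer_iff.1 f.2 _ ⟨⟨k, Subgroup.mem_sup_left hk⟩, hk, rfl⟩)
          (Additive.ofMul v)
        refine h1.symm.trans ?_
        show act _ (f.1 (Additive.ofMul v)) = 0
        rw [hv, map_zero]
      intro k hk
      rw [Subgroup.mem_normalizer_iff]
      intro v
      refine ⟨key2 k hk v, fun h => ?_⟩
      have := key2 _ (inv_mem hk) _ h
      simpa [mul_assoc] using this
    rcases hirr _ (Subgroup.map_subtype_le B) hKB with h | h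
    · have : (a.toMul : X) ∈ B.map V.subtype := ⟨a.toMul, ha, rfl⟩
      rw [h, Subgroup.mem_bot] at this
      exact Additive.toMul.injective (Subtype.ext this)
    · refine absurd (Subtype.ext (AddMonoidHom.ext fun x => ?_)) hf
      have : (x.toMul : X) ∈ B.map V.subtype := by rw [h]; exact x.toMul.2
      obtain ⟨y, hy, hyx⟩ := this
      rw [show x = Additive.ofMul y from (congrArg Additive.ofMul (Subtype.ext hyx)).symm]
      exact hy
  haveI : NoZeroDivisors E := ⟨fun {f g} h => by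
    by_contra hcon
    push Not at hcon
    exact ha₀ (hinj g hcon.2 a₀ (hinj f hcon.1 _ (DFunLike.congr_fun (congrArg Subtype.val h) a₀)))⟩
  haveI : IsDomain E := NoZeroDivisors.to_isDomain E
  have hcomm : ∀ f g : E, f * g = g * f := (Finite.isDomain_to_isField E).mul_comm
  have hbij : Function.Bijective fun f : E => f.1 a₀ := by
    have hi : Function.Injective fun f : E => f.1 a₀ := fun f g h => by
      by_contra hne
      exact ha₀ (hinj (f - g) (sub_ne_zero.2 hne) a₀ (sub_eq_zero.2 h))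
    refine ⟨hi, ?_⟩
    haveI : Fintype E := Fintype.ofFinite _
    haveI : Fintype (Additive V) := Fintype.ofFinite _
    have hle : Fintype.card (Additive V) ≤ Fintype.card E := by
      rw [← Nat.card_eq_fintype_card, ← Nat.card_eq_fintype_card,
        Nat.card_congr (Additive.toMul : Additive V ≃ V), hcard, hdK]
      exact Nat.pow_le_pow_right (Fact.out : ℓ.Prime).pos (Nat.le_of_dvd (Nat.pos_of_ne_zero hd0) hdvd)
    exact ((Fintype.bijective_iff_injective_and_card _).2
      ⟨hi, le_antisymm (Fintype.card_le_of_injective _ hi) hle⟩).2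
  have hKK : ∀ k ∈ K.subgroupOf (K ⊔ R), ∀ k' ∈ K.subgroupOf (K ⊔ R), ∀ a,
      act k (act k' a) = act k' (act k a) := by
    intro k hk k' hk' a
    obtain ⟨f, rfl⟩ := hbij.2 a
    obtain ⟨y, hy⟩ := hbij.2 (act k a₀)
    obtain ⟨x, hx⟩ := hbij.2 (act k' a₀)
    simp only at hy hx ⊢
    have hcm : ∀ (g : E) (s : G), s ∈ K.subgroupOf (K ⊔ R) → ∀ b, act s (g.1 b) = g.1 (act s b) :=
      fun g s hs b => DFunLike.congr_fun (Subring.mem_centralizer_iff.1 g.2 _ ⟨s, hs, rfl⟩) b
    rw [hcm f k' hk', hcm f k hk, hcm f k hk, hcm f k' hk', ← hx, hcm x k hk, ← hy, hcm y k' hk', ← hx]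
    exact congrArg f.1 (DFunLike.congr_fun (congrArg Subtype.val (hcomm x y)) a₀)
  rw [Subgroup.commutator_le]
  intro k hk k' hk' v hv
  have h1 := hKK ⟨k, Subgroup.mem_sup_left hk⟩ hk ⟨k', Subgroup.mem_sup_left hk'⟩ hk'
    (Additive.ofMul (⟨k'⁻¹ * (k⁻¹ * v * k) * k', by
      have e1 := (Subgroup.mem_normalizer_iff.1 (hKV (inv_mem hk)) v).1 hv
      have e2 := (Subgroup.mem_normalizer_iff.1 (hKV (inv_mem hk')) _).1 e1
      simpa using e2⟩ : V))
  have h2 : k * (k' * (k'⁻¹ * (k⁻¹ * v * k) * k') * k'⁻¹) * k⁻¹ =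
      k' * (k * (k'⁻¹ * (k⁻¹ * v * k) * k') * k⁻¹) * k'⁻¹ :=
    congrArg (fun z : Additive V => ((z.toMul : V) : X)) h1
  have h3 : k' * (k * (k'⁻¹ * (k⁻¹ * v * k) * k') * k⁻¹) * k'⁻¹ = v := by rw [← h2]; group
  calc v * ⁅k, k'⁆ = v * ⁅k', k⁆⁻¹ := by rw [commutatorElement_inv]
    _ = ⁅k', k⁆⁻¹ * (⁅k', k⁆ * v * ⁅k', k⁆⁻¹) := by group
    _ = ⁅k, k'⁆ * v := by
      rw [commutatorElement_inv]
      congr 1
      rw [commutatorElement_def, commutatorElement_def]
      exact Eq.trans (by group) h3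

/-- If a Frobenius group `K R` with `|R|` prime acts coprimely on an elementary abelian `ℓ`-group
with `|C(R)| = ℓ`, then `⁅K, K⁆` acts trivially. -/
theorem commutator_le_centralizer_of_card_fixed
    (hab : IsMulCommutative V) (hexp : ∀ v ∈ V, v ^ ℓ = 1)
    (hKV : K ≤ Subgroup.normalizer (V : Set X)) (hRV : R ≤ Subgroup.normalizer (V : Set X))
    (hRK : R ≤ Subgroup.normalizer (K : Set X)) (hK : K ≠ ⊥) (hR : (Nat.card R).Prime)
    (hKR : K ⊓ R = ⊥) (hfpf : ∀ r ∈ R, r ≠ 1 → K ⊓ Subgroup.centralizer {r} = ⊥)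
    (hℓ : ¬ ℓ ∣ Nat.card ↥(K ⊔ R))
    (hCV : Nat.card ↥(V ⊓ Subgroup.centralizer (R : Set X)) = ℓ) :
    ⁅K, K⁆ ≤ Subgroup.centralizer (V : Set X) := by
  classical
  haveI := hab
  have hR1 : R ≠ ⊥ := fun h => hR.one_lt.ne' (by rw [h, Subgroup.card_bot])
  have hℓp : ℓ.Prime := Fact.out
  have hpg : IsPGroup ℓ V := fun v => ⟨1, Subtype.ext (by rw [pow_one]; exact hexp v v.2)⟩
  have hcop : (Nat.card K).Coprime (Nat.card V) := by
    obtain ⟨n, hn⟩ := IsPGroup.iff_card.1 hpg
    rw [hn]
    exact (Nat.Coprime.pow_right _ ((hℓp.coprime_iff_not_dvd.2 fun h =>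
      hℓ (h.trans (Subgroup.card_dvd_of_le le_sup_left))).symm))
  have hsplit := CfsgLib.Solvable.centralizer_sup_commutator_eq (V := V) (A := K) hKV hcop
  have hdis := CfsgLib.Solvable.centralizer_inf_commutator_eq_bot (V := V) (A := K) hKV hcop
  -- any invariant subgroup without fixed points of `K` is small
  have hsize : ∀ U ≤ V, U ≠ ⊥ → K ≤ Subgroup.normalizer (U : Set X) →
      R ≤ Subgroup.normalizer (U : Set X) → U ⊓ Subgroup.centralizer (K : Set X) = ⊥ →
      Nat.card U = ℓ ^ Nat.card R := by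
    intro U hUV hU1 hKU hRU hUK
    haveI habU : IsMulCommutative U :=
      ⟨⟨fun a b => Subtype.ext (setLike_mul_comm (hUV a.2) (hUV b.2))⟩⟩
    have h := frobenius_fixed_card (ℓ := ℓ) habU (fun v hv => hexp v (hUV hv)) hKU hRU hRK hK hR1
      hKR hfpf hℓ
    have h0 : U ⊓ Subgroup.centralizer ((K ⊔ R : Subgroup X) : Set X) = ⊥ :=
      eq_bot_iff.2 (le_trans (inf_le_inf_left _ (Subgroup.centralizer_le (SetLike.coe_subset_coe.2 le_sup_left))) hUK.le)
    rw [h0, hUK, Subgroup.card_bot, one_pow, one_mul, mul_one] at h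
    rw [h]
    congr 1
    have hdvd : Nat.card ↥(U ⊓ Subgroup.centralizer (R : Set X)) ∣ ℓ :=
      (Subgroup.card_dvd_of_le (inf_le_inf_right (Subgroup.centralizer (R : Set X)) hUV)).trans
        hCV.dvd
    rcases (Nat.dvd_prime hℓp).1 hdvd with h1 | h1
    · rw [h1, one_pow, Subgroup.card_eq_one] at h
      exact absurd h hU1
    · exact h1
  -- reduce to the commutator part
  rw [Subgroup.le_centralizer_iff, ← hsplit]
  refine sup_le ?_ ?_
  · exact inf_le_right.trans (Subgroup.centralizer_le (Subgroup.commutator_le_self K))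
  rw [Subgroup.le_centralizer_iff]
  set W := ⁅V, K⁆ with hWdef
  have hWV : W ≤ V := Subgroup.le_normalizer_iff_commutator_le_left.1 hKV
  by_cases hW1 : W = ⊥
  · rw [hW1]
    exact fun g _ v hv => by rw [Subgroup.mem_bot.1 hv]; simp
  have hKW : K ≤ Subgroup.normalizer (W : Set X) :=
    CfsgLib.Solvable.le_normalizer_commutator_right V K
  have hRW : R ≤ Subgroup.normalizer (W : Set X) := by
    intro r hr
    rw [Subgroup.mem_normalizer_iff_map_conj_eq]
    rw [hWdef, Subgroup.map_commutator, Subgroup.mem_normalizer_iff_map_conj_eq.1 (hRV hr),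
      Subgroup.mem_normalizer_iff_map_conj_eq.1 (hRK hr)]
  have hWK : W ⊓ Subgroup.centralizer (K : Set X) = ⊥ := by
    rw [eq_bot_iff, ← hdis]
    exact le_inf (le_inf (inf_le_left.trans hWV) inf_le_right) inf_le_left
  haveI habW : IsMulCommutative W :=
    ⟨⟨fun a b => Subtype.ext (setLike_mul_comm (hWV a.2) (hWV b.2))⟩⟩
  have hWc := hsize W hWV hW1 hKW hRW hWK
  obtain ⟨B, hB⟩ := (Set.toFinite {B : Subgroup X | B ≤ W ∧ B ≠ ⊥ ∧
    K ≤ Subgroup.normalizer (B : Set X)}).exists_minimal ⟨W, le_rfl, hW1, hKW⟩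
  by_cases hBW : B = W
  · refine commutator_le_centralizer_of_irreducible habW (fun v hv => hexp v (hWV hv)) hKW hRW hRK hK
      hR hKR hfpf hℓ hWc fun C hC hKC => ?_
    by_cases hC1 : C = ⊥
    · exact Or.inl hC1
    · exact Or.inr (le_antisymm hC (hBW.symm.le.trans (hB.2 ⟨hC, hC1, hKC⟩ (hBW ▸ hC))))
  -- the conjugates of `B`
  let cj : X → Subgroup X := fun x => B.map (MulAut.conj x).toMonoidHom
  have hmin : ∀ x ∈ K ⊔ R, cj x ≤ W ∧ K ≤ Subgroup.normalizer (cj x : Set X) ∧
      Nat.card (cj x) = Nat.card B ∧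
      ∀ C ≤ cj x, K ≤ Subgroup.normalizer (C : Set X) → C = ⊥ ∨ C = cj x := by
    intro x hx
    have hxW : x ∈ Subgroup.normalizer (W : Set X) := (sup_le hKW hRW) hx
    have hxK : x ∈ Subgroup.normalizer (K : Set X) := (sup_le Subgroup.le_normalizer hRK) hx
    have hKmap : ∀ {y : X}, y ∈ Subgroup.normalizer (K : Set X) → ∀ {C : Subgroup X},
        K ≤ Subgroup.normalizer (C : Set X) →
        K ≤ Subgroup.normalizer ((C.map (MulAut.conj y).toMonoidHom : Subgroup X) : Set X) := by
      intro y hy C hC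
      have e : Subgroup.normalizer ((C.map (MulAut.conj y).toMonoidHom : Subgroup X) : Set X) =
          (Subgroup.normalizer (C : Set X)).map (MulAut.conj y).toMonoidHom := by
        rw [← Subgroup.map_equiv_normalizer_eq C (MulAut.conj y)]
      rw [e, ← Subgroup.mem_normalizer_iff_map_conj_eq.1 hy]
      exact Subgroup.map_mono hC
    refine ⟨?_, hKmap hxK hB.1.2.2, Subgroup.card_map_of_injective (MulAut.conj x).injective, ?_⟩
    · rw [← Subgroup.mem_normalizer_iff_map_conj_eq.1 hxW]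
      exact Subgroup.map_mono hB.1.1
    · intro C hC hKC
      by_cases hC1 : C = ⊥
      · exact Or.inl hC1
      right
      have hxinv : x⁻¹ ∈ Subgroup.normalizer (K : Set X) := inv_mem hxK
      have hback : (cj x).map (MulAut.conj x⁻¹).toMonoidHom = B := by
        ext z
        simp [cj, mul_assoc]
      have h1 : C.map (MulAut.conj x⁻¹).toMonoidHom ≤ B := hback ▸ Subgroup.map_mono hC
      have h2 : C.map (MulAut.conj x⁻¹).toMonoidHom ≠ ⊥ := by
        rwa [Ne, Subgroup.map_eq_bot_iff_of_injective _ (MulAut.conj x⁻¹).injective]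
      have h3 := le_antisymm h1 (hB.2 ⟨h1.trans hB.1.1, h2, hKmap hxinv hKC⟩ h1)
      exact Subgroup.map_injective (MulAut.conj x⁻¹).injective (h3.trans hback.symm)
  -- cardinality of joins of conjugates
  haveI : Fintype X := Fintype.ofFinite X
  have hpow : ∀ s : Finset X, (∀ x ∈ s, x ∈ K ⊔ R) →
      ∃ n, Nat.card ↥(s.sup cj) = Nat.card B ^ n ∧ s.sup cj ≤ W ∧
        K ≤ Subgroup.normalizer ((s.sup cj : Subgroup X) : Set X) := by
    intro s
    induction s using Finset.induction with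
    | empty =>
      intro _
      refine ⟨0, ?_, ?_, ?_⟩
      · simp
      · simp
      · rw [Finset.sup_empty, Subgroup.normalizer_eq_top (⊥ : Subgroup X)]
        exact le_top
    | insert x t _ ih =>
      intro hs
      obtain ⟨n, hn, hle, hKn⟩ := ih fun y hy => hs y (Finset.mem_insert_of_mem hy)
      obtain ⟨hxW, hxK, hxc, hxmin⟩ := hmin x (hs x (Finset.mem_insert_self x t))
      rw [Finset.sup_insert]
      have hnormab : ∀ {C : Subgroup X}, C ≤ W → C ≤ Subgroup.normalizer ((t.sup cj : Subgroup X) : Set X) :=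
        fun {C} hC c hc => Subgroup.mem_normalizer_iff.2 fun z => by
          constructor
          · intro hz
            rwa [setLike_mul_comm (hC hc) (hle hz), mul_inv_cancel_right]
          · intro hz
            have h1 : c * z * c⁻¹ ∈ W := hle hz
            have h2 : z = c * z * c⁻¹ := by
              calc z = c⁻¹ * (c * z * c⁻¹) * c := by group
                _ = c⁻¹ * (c * (c * z * c⁻¹)) := by
                  rw [mul_assoc, ← setLike_mul_comm (hC hc) h1]
                _ = c * z * c⁻¹ := by group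
            rwa [h2]
      have hKsup : K ≤ Subgroup.normalizer ((cj x ⊔ t.sup cj : Subgroup X) : Set X) := by
        intro k hk
        rw [Subgroup.mem_normalizer_iff_map_conj_eq, Subgroup.map_sup,
          Subgroup.mem_normalizer_iff_map_conj_eq.1 (hxK hk),
          Subgroup.mem_normalizer_iff_map_conj_eq.1 (hKn hk)]
      rcases hxmin (cj x ⊓ t.sup cj) inf_le_left
        (fun k hk => Subgroup.mem_normalizer_iff.2 fun z => and_congr
          (Subgroup.mem_normalizer_iff.1 (hxK hk) z) (Subgroup.mem_normalizer_iff.1 (hKn hk) z)) with h | h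
      · refine ⟨n + 1, ?_, sup_le hxW hle, hKsup⟩
        rw [sup_comm, CfsgLib.Solvable.card_sup_of_disjoint (hnormab hxW)
          (disjoint_iff.2 (by rw [inf_comm]; exact h)), hn, hxc, pow_succ]
      · rw [sup_eq_right.2 (inf_eq_left.1 h)]
        exact ⟨n, hn, hle, hKn⟩
  set s : Finset X := Finset.univ.filter fun x => x ∈ K ⊔ R
  obtain ⟨n, hn, hUW, hKU⟩ := hpow s fun x hx => (Finset.mem_filter.1 hx).2
  set U := s.sup cj with hUdef
  have hBU : B ≤ U := by
    refine le_trans (le_of_eq ?_) (Finset.le_sup (f := cj)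
      (Finset.mem_filter.2 ⟨Finset.mem_univ (1 : X), one_mem _⟩))
    ext z
    simp [cj]
  have hRU : R ≤ Subgroup.normalizer (U : Set X) := by
    intro r hr
    have key3 : ∀ r ∈ R, U.map (MulAut.conj r).toMonoidHom ≤ U := by
      intro r hr
      rw [Subgroup.map_le_iff_le_comap, hUdef]
      refine Finset.sup_le fun x hx => ?_
      rw [← Subgroup.map_le_iff_le_comap, Subgroup.map_map]
      refine le_trans (le_of_eq ?_) (Finset.le_sup (f := cj) (b := r * x) (Finset.mem_filter.2
        ⟨Finset.mem_univ _, mul_mem (Subgroup.mem_sup_right hr) (Finset.mem_filter.1 hx).2⟩))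
      show B.map _ = B.map _
      congr 1
      ext z
      simp [mul_assoc]
    rw [Subgroup.mem_normalizer_iff_map_conj_eq]
    refine le_antisymm (key3 r hr) fun z hz => ?_
    refine ⟨r⁻¹ * z * r, key3 r⁻¹ (inv_mem hr) ⟨z, hz, by simp⟩, by simp [mul_assoc]⟩
  have hUc := hsize U (hUW.trans hWV) (fun h => hB.1.2.1 (eq_bot_iff.2 (h ▸ hBU))) hKU hRU
    (eq_bot_iff.2 (hWK ▸ inf_le_inf_right _ hUW))
  have hUeq : U = W := Subgroup.eq_of_le_of_card_ge hUW (hWc.trans hUc.symm).le
  -- the order of `B`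
  obtain ⟨t, ht⟩ := IsPGroup.iff_card.1 (hpg.to_le (hB.1.1.trans hWV))
  have ht1 : t = 1 := by
    have h1 : t * n = Nat.card R := by
      refine Nat.pow_right_injective hℓp.two_le ?_
      show ℓ ^ _ = ℓ ^ _
      rw [pow_mul, ← ht, ← hn, hUc]
    rcases (Nat.dvd_prime hR).1 ⟨n, h1.symm⟩ with h2 | h2
    · exact h2
    · exfalso
      refine hBW (Subgroup.eq_of_le_of_card_ge hB.1.1 ?_)
      rw [hWc, ht, h2]
  rw [ht1, pow_one] at ht
  rw [← hUeq, Subgroup.le_centralizer_iff, hUdef]
  refine Finset.sup_le fun x hx => ?_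
  obtain ⟨hxW, hxK, hxc, -⟩ := hmin x (Finset.mem_filter.1 hx).2
  rw [Subgroup.le_centralizer_iff, Subgroup.commutator_le]
  intro k hk k' hk' z hz
  haveI : Fact (Nat.card (cj x)).Prime := ⟨by rw [hxc, ht]; exact hℓp⟩
  haveI : IsCyclic (cj x) := isCyclic_of_prime_card (p := Nat.card (cj x)) rfl
  let ψ : ↥(Subgroup.normalizer (cj x : Set X)) →* MulAut (cj x) := (cj x).normalizerMonoidHom
  have hcm : ψ ⟨k, hxK hk⟩ * ψ ⟨k', hxK hk'⟩ = ψ ⟨k', hxK hk'⟩ * ψ ⟨k, hxK hk⟩ := by
    obtain ⟨g, hg⟩ := IsCyclic.exists_generator (α := cj x)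
    obtain ⟨i, hi⟩ := Subgroup.mem_zpowers_iff.1 (hg (ψ ⟨k, hxK hk⟩ g))
    obtain ⟨j, hj⟩ := Subgroup.mem_zpowers_iff.1 (hg (ψ ⟨k', hxK hk'⟩ g))
    refine MulEquiv.ext fun y => ?_
    obtain ⟨m, rfl⟩ := Subgroup.mem_zpowers_iff.1 (hg y)
    simp only [MulAut.mul_apply, map_zpow, ← hi, ← hj, ← zpow_mul]
    congr 1
    ring
  have hc1 : ψ ⁅(⟨k, hxK hk⟩ : ↥(Subgroup.normalizer (cj x : Set X))), ⟨k', hxK hk'⟩⁆ = 1 := by
    rw [map_commutatorElement, commutatorElement_eq_one_iff_mul_comm, hcm]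
  have h4 := congrArg (fun a : cj x => (a : X)) (DFunLike.congr_fun hc1 ⟨z, hz⟩)
  exact (mul_inv_eq_iff_eq_mul.1 h4).symm

end CfsgLib.Frobenius
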