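import Cfsg.Agent.Lib.Frobenius.Theorem
import Mathlib.GroupTheory.Nilpotent
import Mathlib.GroupTheory.FixedPointFree

/-!
Nilpotency of Frobenius kernels from a criterion for fixed-point-free automorphisms of prime order
(the criterion is a hypothesis here).
-/

set_option autoImplicit false
set_option linter.style.haveILetI false

open scoped Pointwise

namespace CfsgLib.Frobenius

universe u

/-- Thompson's criterion as a hypothesis. -/
def FpfPrimeOrderNilpotent (K : Type u) [Group K] : Prop :=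
  ∀ φ : K ≃* K, MonoidHom.FixedPointFree (φ : K →* K) → ∀ p : ℕ, p.Prime → orderOf φ = p →
    Group.IsNilpotent K

variable {G : Type u} [Group G] [Finite G]

/-- A normal complement with fixed-point-free action is nilpotent, given Thompson's criterion. -/
theorem isNilpotent_of_fpf_of_criterion {K H : Subgroup G} [K.Normal] (hH : H ≠ ⊥)
    (hfpf : ∀ h ∈ H, h ≠ 1 → K ⊓ Subgroup.centralizer {h} = ⊥)
    (hT : FpfPrimeOrderNilpotent K) : Group.IsNilpotent K := by
  by_cases hK : K = ⊥
  · subst hK
    infer_instance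
  obtain ⟨p, hp, hpd⟩ := Nat.exists_prime_and_dvd (n := Nat.card H)
    (fun e => hH (Subgroup.card_eq_one.1 e))
  haveI : Fact p.Prime := ⟨hp⟩
  obtain ⟨h, hh⟩ := exists_prime_orderOf_dvd_card' (G := H) p hpd
  rw [← Subgroup.orderOf_coe] at hh
  have h1 : (h : G) ≠ 1 := fun e => by rw [e, orderOf_one] at hh; exact hp.one_lt.ne hh
  let φ : K ≃* K := MulAut.conjNormal (H := K) (h : G)
  have hφ : MonoidHom.FixedPointFree (φ : K →* K) := by
    intro k hk
    refine Subtype.ext (Subgroup.mem_bot.1 ?_)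
    rw [← hfpf h h.2 h1]
    refine ⟨k.2, Subgroup.mem_centralizer_singleton_iff.2 ?_⟩
    have hk' : (h : G) * k * (h : G)⁻¹ = k := by
      have := congrArg Subtype.val hk
      simpa [φ, MulAut.conjNormal_apply] using this
    exact (mul_inv_eq_iff_eq_mul.1 hk').symm
  refine hT φ hφ p hp ?_
  have hpow : φ ^ p = 1 := by
    show (MulAut.conjNormal (H := K) (h : G)) ^ p = 1
    rw [← map_pow, ← hh, pow_orderOf_eq_one, map_one]
  refine orderOf_eq_prime hpow fun e => ?_
  obtain ⟨k, hk, hk1⟩ := (K.bot_or_exists_ne_one).resolve_left hK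
  refine hk1 (congrArg Subtype.val (hφ ⟨k, hk⟩ ?_))
  show φ ⟨k, hk⟩ = ⟨k, hk⟩
  rw [e]
  rfl

/-- The Frobenius kernel is nilpotent, given Thompson's criterion. -/
theorem kernel_nilpotent_of_criterion {H : Subgroup G} (hH : Cfsg.IsFrobeniusComplement H)
    (hT : ∀ (K : Subgroup G), FpfPrimeOrderNilpotent K) :
    ∃ N : Subgroup G, (N : Set G) = Cfsg.frobeniusKernel H ∧ N.Normal ∧ Group.IsNilpotent N := by
  obtain ⟨N, hN, hNn, hNc⟩ := exists_kernel_subgroup hH
  haveI := hNn
  exact ⟨N, hN, hNn, isNilpotent_of_fpf_of_criterion hH.1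
    (fun h hh h1 => fpf_of_isFrobeniusComplement hNc hH hh h1) (hT N)⟩

end CfsgLib.Frobenius
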