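import Cfsg.Agent.Lib.Frobenius.Basic
import Mathlib.GroupTheory.SchurZassenhaus
import Mathlib.GroupTheory.SpecificGroups.Cyclic
import Mathlib.GroupTheory.Subgroup.Center
import Mathlib.Algebra.BigOperators.Finprod

/-!
Groups acting fixed-point-freely: coprimality, partitions, abelian subgroups and subgroups of
order `p * q` are cyclic, invariant abelian subgroups.
-/

set_option autoImplicit false
set_option linter.style.haveILetI false

open scoped Pointwise

namespace CfsgLib.Frobenius

/-- A partition of the nontrivial elements multiplies up. -/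
theorem prod_partition {α ι M : Type*} [CommMonoid M] [DecidableEq α] [Fintype ι] (S : Finset α)
    (B : ι → Finset α) (hB : ∀ i, B i ⊆ S) (hpart : ∀ a ∈ S, ∃! i, a ∈ B i) (F : α → M) :
    ∏ i, ∏ a ∈ B i, F a = ∏ a ∈ S, F a := by
  classical
  have h1 : ∀ i, ∏ a ∈ B i, F a = ∏ a ∈ S, if a ∈ B i then F a else 1 := fun i => by
    rw [Finset.prod_ite_mem, Finset.inter_eq_right.2 (hB i)]
  simp only [h1]
  rw [Finset.prod_comm]
  refine Finset.prod_congr rfl fun a ha => ?_
  obtain ⟨i, hi, huniq⟩ := hpart a ha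
  rw [Finset.prod_eq_single i (fun j _ hj => if_neg fun h => hj (huniq j h))
    (fun h => absurd (Finset.mem_univ i) h), if_pos hi]

variable {G : Type*} [Group G] [Finite G]

/-- A group acting fixed-point-freely has order coprime to that of the group acted on. -/
theorem coprime_card_of_fpf {A V : Subgroup G} (hAV : A ≤ Subgroup.normalizer (V : Set G))
    (hfpf : ∀ a ∈ A, a ≠ 1 → V ⊓ Subgroup.centralizer {a} = ⊥) :
    (Nat.card A).Coprime (Nat.card V) := by
  refine Nat.coprime_of_dvd fun p hp hA hV => ?_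
  haveI : Fact p.Prime := ⟨hp⟩
  obtain ⟨a, ha⟩ := exists_prime_orderOf_dvd_card' (G := A) p hA
  have hn : ∀ b : Subgroup.zpowers (a : G), (b : G) ∈ Subgroup.normalizer (V : Set G) :=
    fun b => hAV ((Subgroup.zpowers_le.2 a.2) b.2)
  letI act : MulAction (Subgroup.zpowers (a : G)) V :=
    { smul := fun b v => ⟨(b : G) * v * (b : G)⁻¹,
        (Subgroup.mem_normalizer_iff.1 (hn b) v).1 v.2⟩
      one_smul := fun v => Subtype.ext (show (1 : G) * v * (1 : G)⁻¹ = v by group)
      mul_smul := fun b c v => Subtype.ext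
        (show ((b * c : Subgroup.zpowers (a : G)) : G) * v * ((b * c : Subgroup.zpowers (a : G)) : G)⁻¹
          = (b : G) * ((c : G) * v * (c : G)⁻¹) * (b : G)⁻¹ by rw [Subgroup.coe_mul]; group) }
  have hP : IsPGroup p (Subgroup.zpowers (a : G)) :=
    IsPGroup.of_card (n := 1) (by rw [Nat.card_zpowers, Subgroup.orderOf_coe, ha, pow_one])
  have h1 : (1 : V) ∈ MulAction.fixedPoints (Subgroup.zpowers (a : G)) V := fun b =>
    Subtype.ext (show (b : G) * (1 : G) * (b : G)⁻¹ = 1 by group)
  obtain ⟨v, hv, hne⟩ := hP.exists_fixed_point_of_prime_dvd_card_of_fixed_point V hV h1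
  refine hne (Subtype.ext ?_).symm
  have hfix : (a : G) * v * (a : G)⁻¹ = v :=
    congrArg Subtype.val (hv ⟨a, Subgroup.mem_zpowers _⟩)
  refine commute_of_fpf hfpf a.2 ?_ v.2 (mul_inv_eq_iff_eq_mul.1 hfix).symm
  intro h
  rw [← Subgroup.orderOf_coe, h, orderOf_one] at ha
  exact hp.one_lt.ne ha

variable {A V : Subgroup G}

section Norm

variable [IsMulCommutative V]

/-- If `A` acts fixed-point-freely on the abelian `V` and the nontrivial elements of `A` are
partitioned by nontrivial subgroups `B i`, then `v ^ card ι = v`. -/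
theorem pow_card_family_eq_self (hAV : A ≤ Subgroup.normalizer (V : Set G))
    (hfpf : ∀ a ∈ A, a ≠ 1 → V ⊓ Subgroup.centralizer {a} = ⊥) (hA : A ≠ ⊥)
    {ι : Type*} [Fintype ι] (B : ι → Subgroup G) (hBA : ∀ i, B i ≤ A) (hB : ∀ i, B i ≠ ⊥)
    (hpart : ∀ a ∈ A, a ≠ 1 → ∃! i, a ∈ B i) {v : G} (hv : v ∈ V) :
    v ^ Fintype.card ι = v := by
  classical
  haveI : Fintype G := Fintype.ofFinite G
  letI : CommGroup V :=
    { (inferInstance : Group V) with mul_comm := fun a b => Subtype.ext (setLike_mul_comm a.2 b.2) }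
  let F : G → V := fun a => if h : a ∈ Subgroup.normalizer (V : Set G) then
    ⟨a * v * a⁻¹, (Subgroup.mem_normalizer_iff.1 h v).1 hv⟩ else 1
  have hF1 : F 1 = ⟨v, hv⟩ := by
    simp only [F, dif_pos (one_mem _)]
    exact Subtype.ext (by simp)
  -- products over nontrivial subgroups vanish
  have hnorm : ∀ S : Subgroup G, S ≤ A → S ≠ ⊥ →
      F 1 * ∏ a ∈ (Finset.univ.filter (fun a => a ∈ S)).erase 1, F a = 1 := by
    intro S hS hne
    rw [Finset.mul_prod_erase _ _ (Finset.mem_filter.2 ⟨Finset.mem_univ _, S.one_mem⟩)]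
    obtain ⟨b, hb, hb1⟩ := (S.bot_or_exists_ne_one).resolve_left hne
    have hbn : b ∈ Subgroup.normalizer (V : Set G) := hAV (hS hb)
    let cb : V →* V :=
      { toFun := fun w => ⟨b * w * b⁻¹, (Subgroup.mem_normalizer_iff.1 hbn w).1 w.2⟩
        map_one' := Subtype.ext (by simp)
        map_mul' := fun w w' => Subtype.ext (by simp only [Subgroup.coe_mul]; group) }
    set P := ∏ a ∈ Finset.univ.filter (fun a => a ∈ S), F a with hP
    have hfix : cb P = P := by
      rw [hP, map_prod]
      refine Finset.prod_bij (fun a _ => b * a) (fun a ha => ?_) (fun _ _ _ _ h => by simpa using h)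
        (fun a ha => ⟨b⁻¹ * a, ?_, by simp⟩) (fun a ha => ?_)
      · simp only [Finset.mem_filter, Finset.mem_univ, true_and] at ha ⊢
        exact S.mul_mem hb ha
      · simp only [Finset.mem_filter, Finset.mem_univ, true_and] at ha ⊢
        exact S.mul_mem (S.inv_mem hb) ha
      · simp only [Finset.mem_filter, Finset.mem_univ, true_and] at ha
        simp only [F, dif_pos (hAV (hS ha)), dif_pos (hAV (hS (S.mul_mem hb ha)))]
        exact Subtype.ext (show b * (a * v * a⁻¹) * b⁻¹ = b * a * v * (b * a)⁻¹ by group)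
    have hfix' : b * (P : G) * b⁻¹ = P := congrArg Subtype.val hfix
    exact Subtype.ext (commute_of_fpf hfpf (hS hb) hb1 P.2 (mul_inv_eq_iff_eq_mul.1 hfix').symm)
  have hA' := hnorm A le_rfl hA
  rw [← prod_partition _ (fun i => (Finset.univ.filter (fun a => a ∈ B i)).erase 1)] at hA'
  · have h2 : F 1 ^ Fintype.card ι *
        ∏ i, ∏ a ∈ (Finset.univ.filter (fun a => a ∈ B i)).erase 1, F a = 1 := by
      rw [← Finset.card_univ, ← Finset.prod_const, ← Finset.prod_mul_distrib]
      exact Finset.prod_eq_one fun i _ => hnorm _ (hBA i) (hB i)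
    have h3 := mul_right_cancel (h2.trans hA'.symm)
    rw [hF1] at h3
    simpa using congrArg Subtype.val h3
  · intro i a ha
    simp only [Finset.mem_erase, Finset.mem_filter, Finset.mem_univ, true_and] at ha ⊢
    exact ⟨ha.1, hBA i ha.2⟩
  · intro a ha
    simp only [Finset.mem_erase, Finset.mem_filter, Finset.mem_univ, true_and] at ha
    obtain ⟨i, hi, huniq⟩ := hpart a ha.2 ha.1
    refine ⟨i, by simp [hi, ha.1], fun j hj => huniq j ?_⟩
    simp only [Finset.mem_erase, Finset.mem_filter, Finset.mem_univ, true_and] at hj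
    exact hj.2

/-- No elementary abelian group of order `p ^ 2` acts fixed-point-freely. -/
theorem eq_bot_of_elementary_fpf (hAV : A ≤ Subgroup.normalizer (V : Set G))
    (hfpf : ∀ a ∈ A, a ≠ 1 → V ⊓ Subgroup.centralizer {a} = ⊥) {p : ℕ} (hp : p.Prime)
    (hcard : Nat.card A = p ^ 2) (hexp : ∀ a ∈ A, a ^ p = 1) : V = ⊥ := by
  classical
  haveI : Fintype G := Fintype.ofFinite G
  haveI : Fact p.Prime := ⟨hp⟩
  let ι := {S : Subgroup G // S ≤ A ∧ Nat.card S = p}
  haveI : Fintype ι := Fintype.ofFinite ι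
  have hne : ∀ i : ι, i.1 ≠ ⊥ := fun i h => by
    have := i.2.2; rw [h, Subgroup.card_bot] at this; exact hp.one_lt.ne this
  have hord : ∀ a ∈ A, a ≠ 1 → orderOf a = p := fun a ha ha1 =>
    orderOf_eq_prime (hexp a ha) ha1
  have hpart : ∀ a ∈ A, a ≠ 1 → ∃! i : ι, a ∈ i.1 := by
    intro a ha ha1
    refine ⟨⟨Subgroup.zpowers a, Subgroup.zpowers_le.2 ha, by rw [Nat.card_zpowers, hord a ha ha1]⟩,
      Subgroup.mem_zpowers a, fun j hj => Subtype.ext ?_⟩
    refine (Subgroup.eq_of_le_of_card_ge (Subgroup.zpowers_le.2 hj) ?_).symm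
    rw [j.2.2, Nat.card_zpowers, hord a ha ha1]
  have hA : A ≠ ⊥ := fun h => by
    rw [h, Subgroup.card_bot] at hcard
    exact (Nat.one_lt_pow two_ne_zero hp.one_lt).ne hcard
  have hcount : Fintype.card ι = p + 1 := by
    have h := prod_partition (M := ℕ) ((Finset.univ.filter (fun a => a ∈ A)).erase 1)
      (fun i : ι => (Finset.univ.filter (fun a => a ∈ i.1)).erase 1) ?_ ?_ (fun _ => 2)
    · have hc : ∀ S : Subgroup G, ((Finset.univ.filter (fun a => a ∈ S)).erase 1).card =
          Nat.card S - 1 := fun S => by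
        rw [Finset.card_erase_of_mem (by simp [S.one_mem]), Nat.card_eq_fintype_card,
          Fintype.card_subtype]
      simp only [Finset.prod_const, hc, fun i : ι => i.2.2] at h
      rw [Finset.card_univ, hcard, ← pow_mul] at h
      have h' := Nat.pow_right_injective le_rfl h
      have h2 : p ^ 2 - 1 = (p - 1) * (p + 1) := by
        rw [mul_comm, ← Nat.sq_sub_sq, one_pow]
      rw [h2] at h'
      exact Nat.eq_of_mul_eq_mul_left (by have := hp.two_le; omega) h'
    · intro i a ha
      simp only [Finset.mem_erase, Finset.mem_filter, Finset.mem_univ, true_and] at ha ⊢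
      exact ⟨ha.1, i.2.1 ha.2⟩
    · intro a ha
      simp only [Finset.mem_erase, Finset.mem_filter, Finset.mem_univ, true_and] at ha
      obtain ⟨i, hi, huniq⟩ := hpart a ha.2 ha.1
      refine ⟨i, by simp [hi, ha.1], fun j hj => huniq j ?_⟩
      simp only [Finset.mem_erase, Finset.mem_filter, Finset.mem_univ, true_and] at hj
      exact hj.2
  rw [eq_bot_iff]
  intro v hv
  have h := pow_card_family_eq_self hAV hfpf hA (fun i : ι => i.1) (fun i => i.2.1) hne hpart hv
  rw [hcount, pow_succ, mul_eq_right] at h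
  have hcop : (orderOf v).Coprime p := by
    refine Nat.Coprime.coprime_dvd_left (Subgroup.orderOf_dvd_natCard V hv) ?_
    refine ((coprime_card_of_fpf hAV hfpf).coprime_dvd_left ?_).symm
    rw [hcard]; exact dvd_pow_self p two_ne_zero
  rw [Subgroup.mem_bot, ← orderOf_eq_one_iff]
  exact Nat.eq_one_of_dvd_coprimes hcop dvd_rfl (orderOf_dvd_of_pow_eq_one h)

end Norm

/-- A finite commutative group whose prime exponent subgroups are small is cyclic; otherwise it
contains an elementary abelian subgroup of order `p ^ 2`. -/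
theorem exists_elementary_of_not_isCyclic {A : Subgroup G} [IsMulCommutative A]
    (hA : ¬ IsCyclic A) :
    ∃ p : ℕ, p.Prime ∧ ∃ E : Subgroup G, E ≤ A ∧ Nat.card E = p ^ 2 ∧ ∀ e ∈ E, e ^ p = 1 := by
  classical
  haveI : Fintype A := Fintype.ofFinite A
  by_contra hno
  push Not at hno
  apply hA
  -- at most `p` solutions of `x ^ p = 1`
  have hsmall : ∀ p : ℕ, p.Prime → (Finset.univ.filter (fun a : A => a ^ p = 1)).card ≤ p := by
    intro p hp
    haveI : Fact p.Prime := ⟨hp⟩
    by_contra hgt
    push Not at hgt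
    obtain ⟨a, ha, ha1⟩ := Finset.exists_mem_ne (by have := hp.two_le; omega :
      1 < (Finset.univ.filter (fun a : A => a ^ p = 1)).card) 1
    simp only [Finset.mem_filter, Finset.mem_univ, true_and] at ha
    have hca : Nat.card (Subgroup.zpowers a) = p := by
      rw [Nat.card_zpowers, orderOf_eq_prime ha ha1]
    obtain ⟨b, hb, hbn⟩ : ∃ b ∈ Finset.univ.filter (fun a : A => a ^ p = 1),
        b ∉ Subgroup.zpowers a := by
      by_contra hh
      push Not at hh
      have hle : (Finset.univ.filter (fun a : A => a ^ p = 1)).card ≤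
          (Finset.univ.filter (fun b : A => b ∈ Subgroup.zpowers a)).card :=
        Finset.card_le_card fun x hx => by simp [hh x hx]
      rw [← Fintype.card_subtype (fun b : A => b ∈ Subgroup.zpowers a),
        ← Nat.card_eq_fintype_card, hca] at hle
      omega
    simp only [Finset.mem_filter, Finset.mem_univ, true_and] at hb
    let T : Subgroup A :=
      { carrier := {x | x ^ p = 1}
        one_mem' := one_pow p
        mul_mem' := fun {x y} hx hy => by
          show (x * y) ^ p = 1
          rw [show (x * y) ^ p = x ^ p * y ^ p from (show Commute x y from Subtype.ext (setLike_mul_comm x.2 y.2)).mul_pow p, hx, hy, one_mul]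
        inv_mem' := fun {x} hx => by
          show x⁻¹ ^ p = 1
          rw [inv_pow, hx, inv_one] }
    have hT : IsPGroup p T := fun x => ⟨1, Subtype.ext (by rw [pow_one, Subgroup.coe_pow]; exact x.2)⟩
    obtain ⟨n, hn⟩ := IsPGroup.iff_card.1 hT
    have hn2 : 2 ≤ n := by
      by_contra hlt
      push Not at hlt
      have hle : Subgroup.zpowers a ≤ T := Subgroup.zpowers_le.2 ha
      refine hbn ?_
      have : Subgroup.zpowers a = T := Subgroup.eq_of_le_of_card_ge hle (by
        rw [hn, hca]
        calc p ^ n ≤ p ^ 1 := Nat.pow_le_pow_right hp.pos (by omega)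
          _ = p := pow_one p)
      rw [this]; exact hb
    obtain ⟨E, hE⟩ := Sylow.exists_subgroup_card_pow_prime (G := T) p
      (hn ▸ pow_dvd_pow p hn2 : p ^ 2 ∣ Nat.card T)
    obtain ⟨e, he, hne⟩ := hno p hp ((E.map T.subtype).map A.subtype) (Subgroup.map_subtype_le _)
      (by rw [Subgroup.card_map_of_injective A.subtype_injective,
        Subgroup.card_map_of_injective T.subtype_injective, hE])
    rw [Subgroup.mem_map] at he
    obtain ⟨x, hx, rfl⟩ := he
    obtain ⟨y, -, rfl⟩ := Subgroup.mem_map.1 hx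
    exact hne (by rw [← map_pow, show (T.subtype y) ^ p = 1 from y.2, map_one])
  -- at most `n` solutions of `x ^ n = 1`
  have key : ∀ n : ℕ, 0 < n → (Finset.univ.filter (fun a : A => a ^ n = 1)).card ≤ n := by
    intro n
    induction n using Nat.strong_induction_on with
    | _ n ih =>
      intro hn
      by_cases h1 : n = 1
      · subst h1
        rw [show (Finset.univ.filter (fun a : A => a ^ 1 = 1)) = {1} by ext; simp]
        simp
      obtain ⟨p, hp, m, rfl⟩ := Nat.exists_prime_and_dvd h1
      have hm : 0 < m := Nat.pos_of_mul_pos_left hn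
      have him := ih m (lt_mul_of_one_lt_left hm hp.one_lt) hm
      refine le_trans (Finset.card_le_mul_card_image_of_maps_to
        (t := Finset.univ.filter (fun a : A => a ^ m = 1)) (f := fun a => a ^ p) ?_ p ?_) ?_
      · intro a ha
        simp only [Finset.coe_filter, Finset.mem_univ, true_and, Set.mem_ofPred_eq,
          Finset.mem_filter] at ha ⊢
        rw [← pow_mul, ha]
      · intro c _
        rcases (Finset.filter (fun a => a ^ p = c)
          (Finset.univ.filter (fun a : A => a ^ (p * m) = 1))).eq_empty_or_nonempty with h | ⟨x, hx⟩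
        · simp [h]
        · simp only [Finset.mem_filter] at hx
          refine le_trans ?_ (hsmall p hp)
          refine Finset.card_le_card_of_injOn (fun y => x⁻¹ * y) (fun y hy => ?_)
            (fun y _ z _ h => by simpa using h)
          simp only [Finset.mem_filter, Finset.coe_filter, Set.mem_ofPred_eq, Finset.mem_univ,
            true_and] at hy ⊢
          rw [(show Commute x⁻¹ y from Subtype.ext (setLike_mul_comm (x⁻¹).2 y.2)).mul_pow, inv_pow, hx.2, hy.2, inv_mul_cancel]
      · exact Nat.mul_le_mul_left p him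
  exact isCyclic_of_card_pow_eq_one_le key

/-- An abelian group acting fixed-point-freely on a nontrivial abelian group is cyclic. -/
theorem isCyclic_of_commutative_fpf [IsMulCommutative V] [IsMulCommutative A] (hV : V ≠ ⊥)
    (hAV : A ≤ Subgroup.normalizer (V : Set G))
    (hfpf : ∀ a ∈ A, a ≠ 1 → V ⊓ Subgroup.centralizer {a} = ⊥) : IsCyclic A := by
  by_contra h
  obtain ⟨p, hp, E, hEA, hE, hexp⟩ := exists_elementary_of_not_isCyclic h
  exact hV (eq_bot_of_elementary_fpf (le_trans hEA hAV) (fun a ha => hfpf a (hEA ha)) hp hE hexp)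

/-- A group of order `p * q` acting fixed-point-freely on a nontrivial abelian group is cyclic. -/
theorem isCyclic_of_card_mul_fpf [IsMulCommutative V] (hV : V ≠ ⊥)
    (hAV : A ≤ Subgroup.normalizer (V : Set G))
    (hfpf : ∀ a ∈ A, a ≠ 1 → V ⊓ Subgroup.centralizer {a} = ⊥) {p q : ℕ} (hp : p.Prime)
    (hq : q.Prime) (hcard : Nat.card A = p * q) : IsCyclic A := by
  classical
  wlog hle : p ≤ q generalizing p q
  · exact this hq hp (by rw [hcard, mul_comm]) (le_of_not_ge hle)
  haveI : Fact p.Prime := ⟨hp⟩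
  haveI : Fact q.Prime := ⟨hq⟩
  rcases hle.eq_or_lt with rfl | hlt
  · haveI : IsMulCommutative A :=
      IsPGroup.isMulCommutative_of_card_eq_prime_sq (by rw [hcard, sq])
    exact isCyclic_of_commutative_fpf hV hAV hfpf
  by_contra hcyc
  apply hV
  have hpq : p ≠ q := hlt.ne
  have hcq : ∀ Q : Sylow q A, Nat.card Q = q := by
    intro Q
    rw [Q.card_eq_multiplicity, hcard, Nat.factorization_mul hp.ne_zero hq.ne_zero,
      Finsupp.add_apply, hp.factorization, hq.factorization, Finsupp.single_eq_of_ne hpq.symm,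
      Finsupp.single_eq_same, zero_add, pow_one]
  have hcp : ∀ Q : Sylow p A, Nat.card Q = p := by
    intro Q
    rw [Q.card_eq_multiplicity, hcard, Nat.factorization_mul hp.ne_zero hq.ne_zero,
      Finsupp.add_apply, hp.factorization, hq.factorization, Finsupp.single_eq_of_ne hpq,
      Finsupp.single_eq_same, add_zero, pow_one]
  -- there is one Sylow `q`-subgroup
  have hnq : Nat.card (Sylow q A) = 1 := by
    let Q : Sylow q A := default
    have hidx : (Q : Subgroup A).index = p := by
      have h := (Q : Subgroup A).card_mul_index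
      rw [hcq Q, hcard, mul_comm p q] at h
      exact Nat.eq_of_mul_eq_mul_left hq.pos h
    have hd : Nat.card (Sylow q A) ∣ p := hidx ▸ Q.card_dvd_index
    rcases (Nat.dvd_prime hp).1 hd with h | h
    · exact h
    · exfalso
      have hmod := card_sylow_modEq_one q A
      rw [h, Nat.ModEq, Nat.mod_eq_of_lt hlt, Nat.mod_eq_of_lt hq.one_lt] at hmod
      exact hp.one_lt.ne' hmod
  have hnp : Nat.card (Sylow p A) ∣ q := by
    let P : Sylow p A := default
    have h := (P : Subgroup A).card_mul_index
    rw [hcp P, hcard] at h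
    exact Nat.eq_of_mul_eq_mul_left hp.pos h ▸ P.card_dvd_index
  let B : Sylow q A ⊕ Sylow p A → Subgroup G :=
    Sum.elim (fun Q => (Q : Subgroup A).map A.subtype) (fun P => (P : Subgroup A).map A.subtype)
  haveI : Fintype (Sylow q A ⊕ Sylow p A) := Fintype.ofFinite _
  have hpart : ∀ a ∈ A, a ≠ 1 → ∃! i, a ∈ B i := by
    intro a ha ha1
    set x : A := ⟨a, ha⟩ with hxdef
    have hx1 : x ≠ 1 := fun h => ha1 (congrArg Subtype.val h)
    have hxa : ∀ S : Subgroup A, a ∈ S.map A.subtype ↔ x ∈ S := fun S => by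
      rw [show a = A.subtype x from rfl, Subgroup.mem_map_iff_mem A.subtype_injective]
    have hd : orderOf x ∣ p * q := hcard ▸ orderOf_dvd_natCard x
    have hcases : orderOf x = p ∨ orderOf x = q := by
      obtain ⟨r, s, hr, hs, hrs⟩ := Nat.dvd_mul.1 hd
      replace hr := (Nat.dvd_prime hp).1 hr
      replace hs := (Nat.dvd_prime hq).1 hs
      rcases hr with rfl | rfl <;> rcases hs with rfl | rfl
      · exact absurd (orderOf_eq_one_iff.1 (by simpa using hrs.symm)) hx1
      · exact Or.inr (by simpa using hrs.symm)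
      · exact Or.inl (by simpa using hrs.symm)
      · exact absurd (isCyclic_of_orderOf_eq_card x (by rw [← hrs, hcard])) hcyc
    have hmem : ∀ {r : ℕ} [Fact r.Prime] (S : Sylow r A), x ∈ (S : Subgroup A) →
        Nat.card S = r → orderOf x = r := fun {r} _ S hS hc =>
      ((Nat.dvd_prime Fact.out).1 (hc ▸ Subgroup.orderOf_dvd_natCard _ hS)).resolve_left
        (fun h => hx1 (orderOf_eq_one_iff.1 h))
    have hex : ∀ {r : ℕ} [Fact r.Prime], orderOf x = r → (∀ S : Sylow r A, Nat.card S = r) →
        ∃! S : Sylow r A, x ∈ (S : Subgroup A) := by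
      intro r _ hr hall
      have hP : IsPGroup r (Subgroup.zpowers x) :=
        IsPGroup.of_card (n := 1) (by rw [Nat.card_zpowers, hr, pow_one])
      obtain ⟨S, hS⟩ := hP.exists_le_sylow
      refine ⟨S, hS (Subgroup.mem_zpowers x), fun T hT => Sylow.ext ?_⟩
      have e1 := Subgroup.eq_of_le_of_card_ge hS
        (by rw [Nat.card_zpowers, hr]; exact (hall S).le)
      have e2 := Subgroup.eq_of_le_of_card_ge (Subgroup.zpowers_le.2 hT)
        (by rw [Nat.card_zpowers, hr]; exact (hall T).le)
      rw [← e1, ← e2]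
    rcases hcases with hr | hr
    · obtain ⟨S, hS, huniq⟩ := hex hr hcp
      refine ⟨Sum.inr S, (hxa _).2 hS, ?_⟩
      rintro (T | T) hT
      · exact absurd (hr.symm.trans (hmem T ((hxa _).1 hT) (hcq T))) hpq
      · rw [huniq T ((hxa _).1 hT)]
    · obtain ⟨S, hS, huniq⟩ := hex hr hcq
      refine ⟨Sum.inl S, (hxa _).2 hS, ?_⟩
      rintro (T | T) hT
      · rw [huniq T ((hxa _).1 hT)]
      · exact absurd (hr.symm.trans (hmem T ((hxa _).1 hT) (hcp T))) hpq.symm
  have hA : A ≠ ⊥ := fun h => by
    rw [h, Subgroup.card_bot] at hcard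
    exact hp.one_lt.ne (Nat.eq_one_of_mul_eq_one_right hcard.symm).symm
  have hBA : ∀ i, B i ≤ A := by rintro (T | T) <;> exact Subgroup.map_subtype_le _
  have hBne : ∀ i, B i ≠ ⊥ := by
    rintro (T | T) h <;>
      simp only [B, Sum.elim_inl, Sum.elim_inr,
        Subgroup.map_eq_bot_iff_of_injective _ A.subtype_injective] at h
    · exact hq.one_lt.ne (Subgroup.card_bot.symm.trans (h ▸ hcq T))
    · exact hp.one_lt.ne (Subgroup.card_bot.symm.trans (h ▸ hcp T))
  rw [eq_bot_iff]
  intro v hv
  have h := pow_card_family_eq_self hAV hfpf hA B hBA hBne hpart hv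
  rw [← Nat.card_eq_fintype_card, Nat.card_sum, hnq, pow_add, pow_one, mul_eq_left] at h
  have hcop : (orderOf v).Coprime q := by
    refine Nat.Coprime.coprime_dvd_left (Subgroup.orderOf_dvd_natCard V hv) ?_
    exact ((coprime_card_of_fpf hAV hfpf).coprime_dvd_left (hcard ▸ dvd_mul_left q p)).symm
  rw [Subgroup.mem_bot, ← orderOf_eq_one_iff]
  exact Nat.eq_one_of_dvd_coprimes hcop dvd_rfl ((orderOf_dvd_of_pow_eq_one h).trans hnp)

/-- If `H` is a fixed-point-free complement of the normal subgroup `K`, then for each prime `q`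
dividing `|K|` some nontrivial abelian `q`-subgroup of `K` is normalized by `H`. -/
theorem exists_invariant_abelian {K H : Subgroup G} [K.Normal] (hc : Subgroup.IsComplement' K H)
    (hH : H ≠ ⊥) (hfpf : ∀ h ∈ H, h ≠ 1 → K ⊓ Subgroup.centralizer {h} = ⊥) {q : ℕ} [Fact q.Prime]
    (hqK : q ∣ Nat.card K) :
    ∃ V : Subgroup G, V ≤ K ∧ V ≠ ⊥ ∧ IsMulCommutative V ∧ IsPGroup q V ∧
      H ≤ Subgroup.normalizer (V : Set G) := by
  have hK : K ≠ ⊥ := fun h => by
    rw [h, Subgroup.card_bot, Nat.dvd_one] at hqK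
    exact (Fact.out : q.Prime).one_lt.ne hqK.symm
  have hF := isFrobeniusComplement_of_fpf hc hK hH hfpf
  let S : Sylow q K := default
  set S' : Subgroup G := (S : Subgroup K).map K.subtype with hS'
  set N := Subgroup.normalizer (S' : Set G) with hN
  have hfrat : N ⊔ K = ⊤ := Sylow.normalizer_sup_eq_top S
  -- a complement of `N ⊓ K` in `N`
  have hrel : (K.subgroupOf N).index = Nat.card H := by
    change K.relIndex N = Nat.card H
    rw [← Subgroup.relIndex_sup_right, hfrat, Subgroup.relIndex_top_right, hc.symm.index_eq_card]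
  have hcop : (Nat.card (K.subgroupOf N)).Coprime (K.subgroupOf N).index := by
    rw [hrel]
    refine Nat.Coprime.coprime_dvd_left (Subgroup.card_comap_dvd_of_injective _ _ N.subtype_injective) ?_
    rw [← hc.index_eq_card]
    exact (coprime_card_index hF).symm
  obtain ⟨L, hL⟩ := Subgroup.exists_right_complement'_of_coprime hcop
  have hLcard : Nat.card (L.map N.subtype : Subgroup G) = Nat.card H := by
    rw [Subgroup.card_map_of_injective N.subtype_injective, ← hrel, hL.symm.index_eq_card]
  obtain ⟨g, hg⟩ := exists_le_conj_of_card_dvd hF hLcard.dvd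
  have heq := Subgroup.eq_of_le_of_card_ge hg (by rw [card_conjSMul, hLcard])
  have hgN : MulAut.conj g • H ≤ N := heq ▸ Subgroup.map_subtype_le L
  -- the centre of the Sylow subgroup
  set Z : Subgroup G := S' ⊓ Subgroup.centralizer (S' : Set G) with hZ
  have hZne : Z ≠ ⊥ := by
    haveI : Nontrivial S' := (Subgroup.nontrivial_iff_ne_bot _).2 (by
      rw [hS', Ne, Subgroup.map_eq_bot_iff_of_injective _ K.subtype_injective]
      exact S.ne_bot_of_dvd_card hqK)
    haveI := (S.isPGroup'.map K.subtype).center_nontrivial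
    obtain ⟨z, hz⟩ := exists_ne (1 : Subgroup.center S')
    intro h
    refine hz (Subtype.ext (Subtype.ext ?_))
    have : ((z : S') : G) ∈ Z :=
      ⟨(z : S').2, fun y hy => congrArg Subtype.val (Subgroup.mem_center_iff.1 z.2 ⟨y, hy⟩)⟩
    rwa [h, Subgroup.mem_bot] at this
  haveI : IsMulCommutative Z := Subgroup.le_centralizer_iff_isMulCommutative.1
    (le_trans inf_le_right (Subgroup.centralizer_le inf_le_left))
  have hNZ : N ≤ Subgroup.normalizer (Z : Set G) := by
    intro n hn
    rw [hN, Subgroup.mem_normalizer_iff] at hn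
    rw [Subgroup.mem_normalizer_iff]
    intro z
    simp only [hZ, Subgroup.mem_inf, Subgroup.mem_centralizer_iff, ← hn z]
    refine and_congr_right fun _ => ⟨fun h y hy => ?_, fun h y hy => ?_⟩
    · have hy' : n⁻¹ * y * n ∈ S' := (hn _).2 (by simpa [mul_assoc] using hy)
      calc y * (n * z * n⁻¹) = n * (n⁻¹ * y * n * z) * n⁻¹ := by group
        _ = n * (z * (n⁻¹ * y * n)) * n⁻¹ := by rw [h _ hy']
        _ = n * z * n⁻¹ * y := by group
    · have := h _ ((hn y).1 hy)
      simp [mul_assoc] at this
      rw [← mul_assoc, ← mul_assoc] at this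
      exact mul_right_cancel this
  refine ⟨MulAut.conj g⁻¹ • Z, ?_, ?_, ?_, ?_, ?_⟩
  · intro x hx
    rw [mem_conjSMul_iff, inv_inv] at hx
    have := Subgroup.Normal.conj_mem ‹K.Normal› _ (Subgroup.map_subtype_le _ hx.1) g⁻¹
    simpa [mul_assoc] using this
  · intro h
    apply hZne
    rw [← Subgroup.card_eq_one, ← card_conjSMul g⁻¹ Z, h, Subgroup.card_bot]
  · refine ⟨⟨fun a b => ?_⟩⟩
    have hab := setLike_mul_comm (mem_conjSMul_iff.1 a.2) (mem_conjSMul_iff.1 b.2)
    simp [mul_assoc] at hab
    rw [← mul_assoc, ← mul_assoc] at hab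
    exact Subtype.ext (mul_right_cancel hab)
  · exact ((S.isPGroup'.map K.subtype).to_le inf_le_left).of_equiv
      (Subgroup.equivSMul (MulAut.conj g⁻¹) Z)
  · intro h hh
    have hghg : g * h * g⁻¹ ∈ Subgroup.normalizer (Z : Set G) :=
      hNZ (hgN (mem_conjSMul_iff.2 (by simpa [mul_assoc] using hh)))
    rw [Subgroup.mem_normalizer_iff] at hghg ⊢
    intro x
    simp only [mem_conjSMul_iff, inv_inv]
    rw [hghg]
    simp [mul_assoc]

end CfsgLib.Frobenius
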