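import Cfsg.Agent.Lib.Frobenius.Complement
import Cfsg.Agent.Lib.Solvable.CoprimeAbelian
import Cfsg.Agent.S0016
import Mathlib.GroupTheory.SpecificGroups.ZGroup
import Mathlib.GroupTheory.IsPerfect

/-!
Sylow subgroups and centre of a fixed-point-free complement.
-/

set_option autoImplicit false
set_option linter.style.haveILetI false

open scoped Pointwise

namespace CfsgLib.Frobenius

/-- Two subgroups of the same prime order of a cyclic group are equal. -/
theorem eq_of_card_eq_prime_of_isCyclic {C : Type*} [Group C] [Finite C] [IsCyclic C] {p : ℕ}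
    (hp : p.Prime) {X Y : Subgroup C} (hX : Nat.card X = p) (hY : Nat.card Y = p) : X = Y := by
  classical
  haveI : Fintype C := Fintype.ofFinite C
  have hle := IsCyclic.card_pow_eq_one_le (α := C) (n := p) hp.pos
  have hsub : ∀ Z : Subgroup C, Nat.card Z = p →
      Finset.univ.filter (fun a => a ∈ Z) = Finset.univ.filter (fun a : C => a ^ p = 1) := by
    intro Z hZ
    refine Finset.eq_of_subset_of_card_le (fun a ha => ?_) ?_
    · simp only [Finset.mem_filter, Finset.mem_univ, true_and] at ha ⊢
      exact orderOf_dvd_iff_pow_eq_one.1 (hZ ▸ Z.orderOf_dvd_natCard ha)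
    · refine hle.trans (le_of_eq (hZ.symm.trans ?_))
      rw [Nat.card_eq_fintype_card, Fintype.card_subtype]
  ext a
  simpa using Finset.ext_iff.1 ((hsub X hX).trans (hsub Y hY).symm) a

variable {G : Type*} [Group G] [Finite G] {K H : Subgroup G} [K.Normal]

/-- In a fixed-point-free complement a `p`-subgroup has only one subgroup of order `p`. -/
theorem unique_subgroup_order_prime (hc : Subgroup.IsComplement' K H) (hK : K ≠ ⊥)
    (hfpf : ∀ h ∈ H, h ≠ 1 → K ⊓ Subgroup.centralizer {h} = ⊥) {p : ℕ} [hp : Fact p.Prime]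
    (P : Subgroup H) (hP : IsPGroup p P) (X Y : Subgroup P) (hX : Nat.card X = p)
    (hY : Nat.card Y = p) : X = Y := by
  haveI : Nontrivial P := by
    by_contra h
    rw [not_nontrivial_iff_subsingleton] at h
    haveI : Subsingleton X := inferInstance
    rw [Nat.card_eq_one_iff_unique.2 ⟨inferInstance, ⟨1⟩⟩] at hX
    exact hp.out.one_lt.ne hX
  haveI := hP.center_nontrivial
  obtain ⟨z, hz⟩ := exists_prime_orderOf_dvd_card' (G := Subgroup.center P) p
    (((hP.to_subgroup _).card_eq_or_dvd).resolve_left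
      (fun h => (Finite.one_lt_card (α := Subgroup.center P)).ne' h))
  set Z := Subgroup.zpowers (z : P) with hZ
  have hZcard : Nat.card Z = p := by rw [hZ, Nat.card_zpowers, Subgroup.orderOf_coe, hz]
  have key : ∀ W : Subgroup P, Nat.card W = p → W = Z := by
    intro W hW
    haveI : IsCyclic W := isCyclic_of_prime_card (p := p) hW
    have hWc : IsMulCommutative W := IsCyclic.isMulCommutative
    have hZW : Z ≤ Subgroup.centralizer (W : Set P) := by
      refine le_trans ?_ (Subgroup.center_le_centralizer _)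
      rw [hZ, Subgroup.zpowers_le]
      exact z.2
    haveI : IsMulCommutative (W ⊔ Z : Subgroup P) := by
      rw [← Subgroup.le_centralizer_iff_isMulCommutative]
      refine sup_le ?_ ?_ <;> rw [Subgroup.le_centralizer_iff, sup_le_iff]
      · exact ⟨Subgroup.le_centralizer W, hZW⟩
      · refine ⟨Subgroup.le_centralizer_iff.1 hZW, ?_⟩
        rw [hZ]; exact Subgroup.le_centralizer _
    set M := ((W ⊔ Z : Subgroup P).map P.subtype).map H.subtype with hM
    haveI : IsMulCommutative M := by
      rw [← Subgroup.le_centralizer_iff_isMulCommutative]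
      rintro _ ⟨a, ⟨a', ha', rfl⟩, rfl⟩ _ ⟨b, ⟨b', hb', rfl⟩, rfl⟩
      exact congrArg (fun t : P => ((t : H) : G)) (setLike_mul_comm hb' ha')
    haveI := isCyclic_of_commutative_le hc hK hfpf (A := M) (Subgroup.map_subtype_le _)
    haveI : IsCyclic (W ⊔ Z : Subgroup P) :=
      ((Subgroup.equivMapOfInjective (W ⊔ Z) _ P.subtype_injective).trans
        (Subgroup.equivMapOfInjective _ _ H.subtype_injective)).isCyclic.2 inferInstance
    have heq : W.subgroupOf (W ⊔ Z) = Z.subgroupOf (W ⊔ Z) :=
      eq_of_card_eq_prime_of_isCyclic hp.out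
        (by rw [Nat.card_congr (Subgroup.subgroupOfEquivOfLe le_sup_left).toEquiv, hW])
        (by rw [Nat.card_congr (Subgroup.subgroupOfEquivOfLe le_sup_right).toEquiv, hZcard])
    rw [Subgroup.subgroupOf_inj, inf_eq_left.2 le_sup_left, inf_eq_left.2 le_sup_right] at heq
    exact heq
  rw [key X hX, key Y hY]

/-- Sylow subgroups of a fixed-point-free complement are cyclic or generalized quaternion. -/
theorem sylow_cyclic_or_quaternion (hc : Subgroup.IsComplement' K H) (hK : K ≠ ⊥)
    (hfpf : ∀ h ∈ H, h ≠ 1 → K ⊓ Subgroup.centralizer {h} = ⊥) {p : ℕ} [Fact p.Prime]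
    (P : Subgroup H) (hP : IsPGroup p P) :
    IsCyclic P ∨ (p = 2 ∧ ∃ n : ℕ, Nonempty (P ≃* QuaternionGroup (2 ^ n))) :=
  Cfsg.Agent.S0016.result p hP (unique_subgroup_order_prime hc hK hfpf P hP)

/-- A fixed-point-free complement has nontrivial centre. -/
theorem center_ne_bot (hc : Subgroup.IsComplement' K H) (hK : K ≠ ⊥) (hH : H ≠ ⊥)
    (hfpf : ∀ h ∈ H, h ≠ 1 → K ⊓ Subgroup.centralizer {h} = ⊥) : Subgroup.center H ≠ ⊥ := by
  haveI : Nontrivial H := (Subgroup.nontrivial_iff_ne_bot H).2 hH
  have hex : ∀ x : H, x ≠ 1 → (∀ y : H, y * x = x * y) → Subgroup.center H ≠ ⊥ :=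
    fun x hx hcomm h => hx (by
      have := Subgroup.mem_center_iff.2 hcomm
      rwa [h, Subgroup.mem_bot] at this)
  by_cases heven : 2 ∣ Nat.card H
  · obtain ⟨⟨s, hs, hs2, huniq, -⟩, -⟩ := unique_involution hc hK hfpf heven
    refine hex ⟨s, hs⟩ ?_ fun y => ?_
    · intro h
      have : s = 1 := congrArg Subtype.val h
      rw [this, orderOf_one] at hs2
      omega
    · have h := huniq ((y : G) * s * (y : G)⁻¹) (H.mul_mem (H.mul_mem y.2 hs) (H.inv_mem y.2))
        (by rw [← MulAut.conj_apply, MulEquiv.orderOf_eq, hs2])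
      exact Subtype.ext (mul_inv_eq_iff_eq_mul.1 h)
  haveI : IsZGroup H := ⟨fun p hp P => by
    haveI : Fact p.Prime := ⟨hp⟩
    rcases sylow_cyclic_or_quaternion hc hK hfpf (P : Subgroup H) P.isPGroup' with h | ⟨h2, n, ⟨e⟩⟩
    · exact h
    · exfalso
      apply heven
      have h1 : 2 ∣ Nat.card P := by
        rw [Nat.card_congr e.toEquiv, Nat.card_eq_fintype_card, QuaternionGroup.card]
        exact dvd_mul_of_dvd_left (by norm_num) _
      exact h1.trans (Subgroup.card_subgroup_dvd_card _)⟩
  set N := commutator H with hN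
  obtain ⟨B, hB⟩ := Subgroup.exists_right_complement'_of_coprime (IsZGroup.coprime_commutator_index H)
  have hBne : B ≠ ⊥ := by
    intro h
    have hlt : N < ⊤ := IsZGroup.commutator_lt H
    rw [h, Subgroup.isComplement'_bot_right] at hB
    exact hlt.ne hB
  haveI : IsMulCommutative B := ⟨⟨fun a b => by
    have h1 : ((a * b * a⁻¹ * b⁻¹ : B) : H) ∈ N :=
      Subgroup.commutator_mem_commutator (Subgroup.mem_top (a : H)) (Subgroup.mem_top (b : H))
    have h2 : a * b * a⁻¹ * b⁻¹ = 1 := Subtype.ext
      (Subgroup.disjoint_def.1 hB.disjoint h1 (a * b * a⁻¹ * b⁻¹ : B).2)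
    rwa [mul_inv_eq_one, mul_inv_eq_iff_eq_mul] at h2⟩⟩
  obtain ⟨q, hq, hqd⟩ := Nat.exists_prime_and_dvd (n := Nat.card B)
    (fun h => hBne (Subgroup.card_eq_one.1 h))
  haveI : Fact q.Prime := ⟨hq⟩
  obtain ⟨b, hb⟩ := exists_prime_orderOf_dvd_card' (G := B) q hqd
  rw [← Subgroup.orderOf_coe] at hb
  haveI hNc : IsCyclic N := IsZGroup.isCyclic_commutator H
  haveI : IsMulCommutative N := IsCyclic.isMulCommutative
  have hcopN : (Nat.card (Subgroup.zpowers (b : H))).Coprime (Nat.card N) := by
    refine ((IsZGroup.coprime_commutator_index H).coprime_dvd_right ?_).symm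
    rw [← hN, hB.symm.index_eq_card]
    exact Subgroup.card_dvd_of_le (Subgroup.zpowers_le.2 b.2)
  have hbN : Subgroup.zpowers (b : H) ≤ Subgroup.centralizer (N : Set H) := by
    refine CfsgLib.Solvable.le_centralizer_of_fix_prime_order
      (by rw [Subgroup.normalizer_eq_top]; exact le_top) hcopN fun y hy hyp a ha => ?_
    haveI : Fact (orderOf y).Prime := ⟨hyp⟩
    set Y := Subgroup.zpowers y with hY
    haveI : Y.Normal := by
      refine ⟨fun x hx g => ?_⟩
      have hyN : ∀ z ∈ Y, z ∈ N := Subgroup.zpowers_le.2 hy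
      haveI : N.Normal := by rw [hN]; infer_instance
      set Y' := MulAut.conj g • Y with hY'
      have hle : Y' ≤ N := by
        intro z hz
        rw [hY', mem_conjSMul_iff] at hz
        simpa [mul_assoc] using Subgroup.Normal.conj_mem ‹N.Normal› _ (hyN _ hz) g
      have heq : Y'.subgroupOf N = Y.subgroupOf N :=
        eq_of_card_eq_prime_of_isCyclic hyp
          (by rw [Nat.card_congr (Subgroup.subgroupOfEquivOfLe hle).toEquiv, hY', card_conjSMul,
            hY, Nat.card_zpowers])
          (by rw [Nat.card_congr (Subgroup.subgroupOfEquivOfLe hyN).toEquiv, hY, Nat.card_zpowers])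
      rw [Subgroup.subgroupOf_inj, inf_eq_left.2 hle, inf_eq_left.2 (show Y ≤ N from hyN)] at heq
      rw [← heq, hY', mem_conjSMul_iff]
      simpa [mul_assoc] using hx
    set M := Y ⊔ Subgroup.zpowers (b : H) with hM
    have hyH : orderOf y ∣ Nat.card N := N.orderOf_dvd_natCard hy
    have hcard : Nat.card M = orderOf y * q := by
      have hdis : Disjoint Y (Subgroup.zpowers (b : H)) := by
        apply Subgroup.disjoint_of_coprime_natCard
        rw [hY, Nat.card_zpowers]
        exact (hcopN.coprime_dvd_right hyH).symm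
      rw [hM, CfsgLib.Solvable.card_sup_of_disjoint (by rw [Subgroup.normalizer_eq_top]; exact le_top)
        hdis, hY, Nat.card_zpowers, Nat.card_zpowers, hb]
    haveI : IsCyclic (M.map H.subtype) := isCyclic_of_card_mul_le hc hK hfpf hyp hq
      (Subgroup.map_subtype_le _)
      (by rw [Subgroup.card_map_of_injective H.subtype_injective, hcard])
    haveI : IsCyclic M := (Subgroup.equivMapOfInjective M _ H.subtype_injective).isCyclic.2 inferInstance
    haveI : IsMulCommutative M := IsCyclic.isMulCommutative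
    exact setLike_mul_comm (s := M) (Subgroup.mem_sup_right ha)
      (Subgroup.mem_sup_left (Subgroup.mem_zpowers y))
  refine hex b (fun h => ?_) fun y => ?_
  · rw [h, orderOf_one] at hb
    exact hq.one_lt.ne hb
  · obtain ⟨⟨⟨u, hu⟩, ⟨v, hv⟩⟩, rfl⟩ := hB.2 y
    have h1 : Commute u (b : H) := (hbN (Subgroup.mem_zpowers _)) u hu
    have h2 : Commute v (b : H) := setLike_mul_comm hv b.2
    exact (h1.mul_left h2).eq

end CfsgLib.Frobenius
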