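import Cfsg.Agent.Lib.Frobenius.Basic

/-!
Frobenius complements of even order: the kernel is an abelian subgroup inverted by the involution.
-/

set_option autoImplicit false
set_option linter.style.haveILetI false

open scoped Pointwise

namespace CfsgLib.Frobenius

variable {G : Type*} [Group G] [Finite G] {H : Subgroup G}

theorem inverts_kernel (hH : Cfsg.IsFrobeniusComplement H) {t : G} (ht : t ∈ H) (ht1 : t ≠ 1)
    (ht2 : t * t = 1) {x : G} (hx : x ∈ Cfsg.frobeniusKernel H) :
    t * x * t = x⁻¹ ∧ (x = 1 ∨ ∃ g, x = t * (g * t * g⁻¹)) := by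
  classical
  let f : G ⧸ H → G := fun q =>
    if q = QuotientGroup.mk 1 then 1 else t * (q.out * t * q.out⁻¹)
  have htinv : t⁻¹ = t := inv_eq_of_mul_eq_one_right ht2
  have hout : ∀ q : G ⧸ H, q ≠ QuotientGroup.mk 1 → q.out ∉ H := by
    intro q hq hm
    apply hq
    rw [← QuotientGroup.out_eq' q]
    exact QuotientGroup.eq.2 (by simpa using hm)
  have hne : ∀ q : G ⧸ H, q ≠ QuotientGroup.mk 1 → t * (q.out * t * q.out⁻¹) ≠ 1 := by
    intro q hq h
    refine hout q hq ?_
    have h' : q.out * t * q.out⁻¹ = t := (inv_eq_of_mul_eq_one_right h).symm.trans htinv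
    refine centralizer_le hH ht ht1 (Subgroup.mem_centralizer_singleton_iff.2 ?_)
    exact mul_inv_eq_iff_eq_mul.1 h'
  have hker : ∀ q : G ⧸ H, f q ∈ Cfsg.frobeniusKernel H := by
    intro q
    by_cases hq : q = QuotientGroup.mk 1
    · simp [f, hq, Cfsg.frobeniusKernel]
    simp only [f, if_neg hq]
    set s := q.out * t * q.out⁻¹ with hs
    refine Or.inr fun b hb => ?_
    have hu1 : t * s ≠ 1 := hne q hq
    rw [mem_conjSMul_iff] at hb
    have hs2 : s * s = 1 := by
      rw [hs, show q.out * t * q.out⁻¹ * (q.out * t * q.out⁻¹) = q.out * (t * t) * q.out⁻¹ by group,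
        ht2]; group
    have hbt : b⁻¹ * t * b ∈ H := by
      -- `t` inverts `t * s`, hence normalizes the conjugate
      refine mem_of_conj_mem hH hb ?_ ?_
      · have := H.inv_mem hb
        have e : (b⁻¹ * t * b)⁻¹ * (b⁻¹ * (t * s) * b) * (b⁻¹ * t * b) =
            (b⁻¹ * (t * s) * b)⁻¹ := by
          rw [inv_eq_of_mul_eq_one_right (show (b⁻¹ * t * b) * (b⁻¹ * t * b) = 1 by
            rw [show b⁻¹ * t * b * (b⁻¹ * t * b) = b⁻¹ * (t * t) * b by group, ht2]; group)]
          rw [show (b⁻¹ * (t * s) * b)⁻¹ = b⁻¹ * (s⁻¹ * t⁻¹) * b by group, htinv,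
            inv_eq_of_mul_eq_one_right hs2,
            show b⁻¹ * t * b * (b⁻¹ * (t * s) * b) * (b⁻¹ * t * b) = b⁻¹ * ((t * t) * s * t) * b
              by group, ht2, one_mul]
        rwa [e]
      · intro h
        exact hu1 (by simpa [mul_assoc] using congrArg (fun z => b * z * b⁻¹) h)
    have hbH : b ∈ H := mem_of_conj_mem hH ht hbt ht1
    have htsH : t * s ∈ H := by
      have := H.mul_mem (H.mul_mem hbH hb) (H.inv_mem hbH)
      simpa [mul_assoc] using this
    have hsH : s ∈ H := by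
      have := H.mul_mem (H.inv_mem ht) htsH
      simpa using this
    refine hout q hq (mem_of_conj_mem hH hsH ?_ ?_)
    · simpa [hs, mul_assoc] using ht
    · intro h
      rw [hs, conj_eq_one_iff] at h
      exact ht1 h
  have hinj : Function.Injective f := by
    intro q r h
    by_cases hq : q = QuotientGroup.mk 1
    · by_cases hr : r = QuotientGroup.mk 1
      · rw [hq, hr]
      · simp only [f, if_pos hq, if_neg hr] at h
        exact absurd h.symm (hne r hr)
    · by_cases hr : r = QuotientGroup.mk 1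
      · simp only [f, if_pos hr, if_neg hq] at h
        exact absurd h (hne q hq)
      · simp only [f, if_neg hq, if_neg hr, mul_right_inj] at h
        have hm : q.out⁻¹ * r.out ∈ H := by
          refine mem_of_conj_mem hH ht ?_ ht1
          rw [show (q.out⁻¹ * r.out)⁻¹ * t * (q.out⁻¹ * r.out) =
            r.out⁻¹ * (q.out * t * q.out⁻¹) * r.out by group, h,
            show r.out⁻¹ * (r.out * t * r.out⁻¹) * r.out = t by group]
          exact ht
        rw [← QuotientGroup.out_eq' q, ← QuotientGroup.out_eq' r]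
        exact QuotientGroup.eq.2 hm
  have hrange : Set.range f = Cfsg.frobeniusKernel H := by
    refine Set.eq_of_subset_of_ncard_le (Set.range_subset_iff.2 hker) ?_
    rw [ncard_kernel hH, ← Nat.card_coe_set_eq, Nat.card_range_of_injective hinj,
      Subgroup.index_eq_card]
  rw [← hrange] at hx
  obtain ⟨q, rfl⟩ := hx
  by_cases hq : q = QuotientGroup.mk 1
  · simp only [f, if_pos hq]
    exact ⟨by simp [ht2], Or.inl trivial⟩
  · simp only [f, if_neg hq]
    refine ⟨?_, Or.inr ⟨_, rfl⟩⟩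
    have h2 : q.out * t * q.out⁻¹ * (q.out * t * q.out⁻¹) = 1 := by
      rw [show q.out * t * q.out⁻¹ * (q.out * t * q.out⁻¹) = q.out * (t * t) * q.out⁻¹ by group,
        ht2]; group
    rw [mul_inv_rev, inv_eq_of_mul_eq_one_right h2, htinv, ← mul_assoc t t, ht2, one_mul]

theorem conj_inverts_kernel (hH : Cfsg.IsFrobeniusComplement H) {t : G} (ht : t ∈ H) (ht1 : t ≠ 1)
    (ht2 : t * t = 1) (g : G) {x : G} (hx : x ∈ Cfsg.frobeniusKernel H) :
    (g * t * g⁻¹) * x * (g * t * g⁻¹) = x⁻¹ := by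
  have h := (inverts_kernel hH ht ht1 ht2 (conj_mem_kernel hx g⁻¹)).1
  rw [inv_inv] at h
  calc (g * t * g⁻¹) * x * (g * t * g⁻¹) = g * (t * (g⁻¹ * x * g) * t) * g⁻¹ := by group
    _ = x⁻¹ := by rw [h]; group

theorem kernel_commute (hH : Cfsg.IsFrobeniusComplement H) {t : G} (ht : t ∈ H) (ht1 : t ≠ 1)
    (ht2 : t * t = 1) {x y : G} (hx : x ∈ Cfsg.frobeniusKernel H)
    (hy : y ∈ Cfsg.frobeniusKernel H) : Commute x y := by
  rcases (inverts_kernel hH ht ht1 ht2 hx).2 with rfl | ⟨g, rfl⟩
  · exact Commute.one_left y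
  have h1 := conj_inverts_kernel hH ht ht1 ht2 g hy
  have h2 := (inverts_kernel hH ht ht1 ht2 hy).1
  have hs2 : g * t * g⁻¹ * (g * t * g⁻¹) = 1 := by
    rw [show g * t * g⁻¹ * (g * t * g⁻¹) = g * (t * t) * g⁻¹ by group, ht2]; group
  set s := g * t * g⁻¹ with hs
  have h3 : s * y = y⁻¹ * s := by rw [← h1, mul_assoc (s * y) s s, hs2, mul_one]
  have h4 : t * y⁻¹ = y * t := by
    rw [← h2, mul_assoc t y t, ← mul_assoc t t, ht2, one_mul]
  show t * s * y = y * (t * s)
  rw [mul_assoc, h3, ← mul_assoc, h4, mul_assoc]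

theorem kernel_mul_mem (hH : Cfsg.IsFrobeniusComplement H) {t : G} (ht : t ∈ H) (ht1 : t ≠ 1)
    (ht2 : t * t = 1) {x y : G} (hx : x ∈ Cfsg.frobeniusKernel H)
    (hy : y ∈ Cfsg.frobeniusKernel H) : x * y ∈ Cfsg.frobeniusKernel H := by
  by_cases hu : x * y = 1
  · exact Or.inl hu
  refine Or.inr fun a ha => ?_
  have hc := kernel_commute hH ht ht1 ht2 hx hy
  by_cases hx1 : x = 1
  · subst hx1
    rw [one_mul] at ha hu
    exact hu (eq_one_of_mem_kernel_of_mem hy ha)
  have hcu : x ∈ Subgroup.centralizer ({x * y} : Set G) :=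
    Subgroup.mem_centralizer_singleton_iff.2 ((Commute.refl x).mul_right hc).eq
  exact hx1 (eq_one_of_mem_kernel_of_mem hx (centralizer_le (conj hH a) ha hu hcu))

end CfsgLib.Frobenius
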