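import Cfsg.Agent.Lib.Frobenius.Fpf
import Cfsg.Agent.Lib.Frobenius.Involution

/-!
Structure of a fixed-point-free complement: abelian subgroups and subgroups of order `p * q` are
cyclic; a complement of even order has a unique involution, which inverts the abelian kernel.
-/

set_option autoImplicit false
set_option linter.style.haveILetI false

open scoped Pointwise

namespace CfsgLib.Frobenius

variable {G : Type*} [Group G] [Finite G] {K H : Subgroup G} [K.Normal]

theorem exists_invariant_abelian' (hc : Subgroup.IsComplement' K H) (hK : K ≠ ⊥) (hH : H ≠ ⊥)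
    (hfpf : ∀ h ∈ H, h ≠ 1 → K ⊓ Subgroup.centralizer {h} = ⊥) :
    ∃ V : Subgroup G, V ≠ ⊥ ∧ IsMulCommutative V ∧ H ≤ Subgroup.normalizer (V : Set G) ∧
      ∀ h ∈ H, h ≠ 1 → V ⊓ Subgroup.centralizer {h} = ⊥ := by
  obtain ⟨q, hq, hqd⟩ := Nat.exists_prime_and_dvd (n := Nat.card K)
    (fun h => hK (Subgroup.card_eq_one.1 h))
  haveI : Fact q.Prime := ⟨hq⟩
  obtain ⟨V, hVK, hV, hcomm, -, hn⟩ := exists_invariant_abelian hc hH hfpf hqd
  exact ⟨V, hV, hcomm, hn, fun h hh h1 =>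
    eq_bot_iff.2 (le_trans (inf_le_inf_right _ hVK) (hfpf h hh h1).le)⟩

/-- Abelian subgroups of a fixed-point-free complement are cyclic. -/
theorem isCyclic_of_commutative_le (hc : Subgroup.IsComplement' K H) (hK : K ≠ ⊥)
    (hfpf : ∀ h ∈ H, h ≠ 1 → K ⊓ Subgroup.centralizer {h} = ⊥) {A : Subgroup G}
    [IsMulCommutative A] (hA : A ≤ H) : IsCyclic A := by
  by_cases hH : H = ⊥
  · subst hH
    obtain rfl := le_bot_iff.1 hA
    infer_instance
  obtain ⟨V, hV, hcomm, hn, hf⟩ := exists_invariant_abelian' hc hK hH hfpf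
  exact isCyclic_of_commutative_fpf hV (le_trans hA hn) (fun a ha => hf a (hA ha))

/-- Subgroups of order `p * q` of a fixed-point-free complement are cyclic. -/
theorem isCyclic_of_card_mul_le (hc : Subgroup.IsComplement' K H) (hK : K ≠ ⊥)
    (hfpf : ∀ h ∈ H, h ≠ 1 → K ⊓ Subgroup.centralizer {h} = ⊥) {p q : ℕ} (hp : p.Prime)
    (hq : q.Prime) {A : Subgroup G} (hA : A ≤ H) (hcard : Nat.card A = p * q) : IsCyclic A := by
  have hH : H ≠ ⊥ := by
    rintro rfl
    rw [le_bot_iff.1 hA, Subgroup.card_bot] at hcard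
    exact hp.one_lt.ne (Nat.eq_one_of_mul_eq_one_right hcard.symm).symm
  obtain ⟨V, hV, hcomm, hn, hf⟩ := exists_invariant_abelian' hc hK hH hfpf
  exact isCyclic_of_card_mul_fpf hV (le_trans hA hn) (fun a ha => hf a (hA ha)) hp hq hcard

/-- A fixed-point-free complement of even order has a unique involution, inverting the abelian
normal complement. -/
theorem unique_involution (hc : Subgroup.IsComplement' K H) (hK : K ≠ ⊥)
    (hfpf : ∀ h ∈ H, h ≠ 1 → K ⊓ Subgroup.centralizer {h} = ⊥) (heven : 2 ∣ Nat.card H) :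
    (∃ s ∈ H, orderOf s = 2 ∧ (∀ t ∈ H, orderOf t = 2 → t = s) ∧ ∀ k ∈ K, s * k * s⁻¹ = k⁻¹) ∧
      IsMulCommutative K := by
  haveI : Fact (Nat.Prime 2) := ⟨Nat.prime_two⟩
  obtain ⟨x, hx⟩ := exists_prime_orderOf_dvd_card' (G := H) 2 heven
  have hH : H ≠ ⊥ := fun h => by
    rw [h, Subgroup.card_bot, Nat.dvd_one] at heven
    exact absurd heven (by omega)
  have hF := isFrobeniusComplement_of_fpf hc hK hH hfpf
  have hker := kernel_eq_of_isComplement' hc hF
  have hinv : ∀ s ∈ H, orderOf s = 2 → ∀ k ∈ K, s * k * s⁻¹ = k⁻¹ := by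
    intro s hs hs2 k hk
    have hss : s * s = 1 := by rw [← sq, ← hs2, pow_orderOf_eq_one]
    have hs1 : s ≠ 1 := fun h => by rw [h, orderOf_one] at hs2; omega
    rw [inv_eq_of_mul_eq_one_right hss]
    exact (inverts_kernel hF hs hs1 hss (by rw [← hker]; exact hk)).1
  rw [← Subgroup.orderOf_coe] at hx
  refine ⟨⟨x, x.2, hx, fun t ht ht2 => ?_, hinv x x.2 hx⟩, ?_⟩
  · obtain ⟨k, hk, hk1⟩ := (K.bot_or_exists_ne_one).resolve_left hK
    by_contra hne
    have hu1 : (x : G)⁻¹ * t ≠ 1 := fun h => hne (inv_mul_eq_one.1 h).symm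
    refine hk1 (commute_of_fpf hfpf (H.mul_mem (H.inv_mem x.2) ht) hu1 hk ?_)
    have h1 := hinv x x.2 hx k hk
    have h2 := hinv t ht ht2 k hk
    have h3 : (x : G) * k * (x : G)⁻¹ = t * k * t⁻¹ := h1.trans h2.symm
    show k * ((x : G)⁻¹ * t) = (x : G)⁻¹ * t * k
    calc k * ((x : G)⁻¹ * t) = (x : G)⁻¹ * ((x : G) * k * (x : G)⁻¹) * t := by group
      _ = (x : G)⁻¹ * (t * k * t⁻¹) * t := by rw [h3]
      _ = (x : G)⁻¹ * t * k := by group
  · have hss : (x : G) * x = 1 := by rw [← sq, ← hx, pow_orderOf_eq_one]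
    have hx1 : (x : G) ≠ 1 := fun h => by rw [h, orderOf_one] at hx; omega
    exact ⟨⟨fun a b => Subtype.ext (kernel_commute hF x.2 hx1 hss
      (by rw [← hker]; exact a.2) (by rw [← hker]; exact b.2)).eq⟩⟩

end CfsgLib.Frobenius
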