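import Cfsg.Agent.S0042
import Cfsg.Agent.S0033
import Cfsg.Agent.Lib.Frobenius.ComplementSylow
import Cfsg.Agent.Lib.Frobenius.Complement
import Cfsg.Agent.Lib.FusionPStable.Local
import Cfsg.Agent.Lib.Solvable.Basic
import Mathlib

/-!
Facts about Frobenius groups given by a kernel subgroup, and `2`-Frobenius groups.
-/

set_option autoImplicit false

open Subgroup
open scoped Pointwise

namespace CfsgLib.TwoFrob

universe u

variable {G : Type u} [Group G] [Finite G]

/-- An element outside the kernel commutes with no nontrivial kernel element. -/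
theorem mem_kernel_of_commute {C : Subgroup G} (hC : Cfsg.IsFrobeniusComplement C) {N : Subgroup G}
    (hN : (N : Set G) = Cfsg.frobeniusKernel C) {n g : G} (hn : n ∈ N) (hn1 : n ≠ 1)
    (hc : Commute g n) : g ∈ N := by
  by_contra hg
  obtain ⟨hNn, hNC⟩ := CfsgLib.Frobenius.normal_isComplement'_of_coe_eq hC hN
  rw [← SetLike.mem_coe, hN] at hg
  simp only [Cfsg.frobeniusKernel, Set.mem_ofPred_eq, not_or, not_forall, not_not] at hg
  obtain ⟨hg1, x, hx⟩ := hg
  rw [CfsgLib.Frobenius.mem_conjSMul_iff] at hx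
  have hfix := CfsgLib.Frobenius.fpf_of_isFrobeniusComplement hNC hC hx
    (fun e => hg1 (by rw [show g = x * (x⁻¹ * g * x) * x⁻¹ by group, e]; group))
  have hmem : x⁻¹ * n * x ∈ N ⊓ Subgroup.centralizer {x⁻¹ * g * x} := by
    refine ⟨by simpa using hNn.conj_mem _ hn x⁻¹, Subgroup.mem_centralizer_singleton_iff.mpr ?_⟩
    rw [show x⁻¹ * n * x * (x⁻¹ * g * x) = x⁻¹ * (n * g) * x by group,
      show x⁻¹ * g * x * (x⁻¹ * n * x) = x⁻¹ * (g * n) * x by group, hc.eq]
  rw [hfix, Subgroup.mem_bot] at hmem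
  exact hn1 (by rw [show n = x * (x⁻¹ * n * x) * x⁻¹ by group, hmem]; group)

/-- A subgroup normalized fixed-point-freely by a nontrivial element is nilpotent. -/
theorem isNilpotent_of_fpf_element {U : Subgroup G} {y : G} (hy : y ≠ 1)
    (hyU : y ∈ normalizer (U : Set G))
    (hfpf : ∀ z ∈ Subgroup.zpowers y, z ≠ 1 → ∀ u ∈ U, Commute z u → u = 1) : Group.IsNilpotent U := by
  set W := normalizer (U : Set G)
  have hUW : U ≤ W := le_normalizer
  have : (U.subgroupOf W).Normal := normal_in_normalizer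
  have h := CfsgLib.Frobenius.isNilpotent_of_fpf_of_criterion (K := U.subgroupOf W)
    (H := (zpowers y).subgroupOf W) (fun h => hy (by
      have h1 : (⟨y, hyU⟩ : W) ∈ (zpowers y).subgroupOf W := mem_subgroupOf.mpr (mem_zpowers y)
      rw [h, mem_bot] at h1
      exact congrArg Subtype.val h1))
    (fun z hz hz1 => (eq_bot_iff_forall _).mpr fun u hu => Subtype.ext
      (hfpf z (mem_subgroupOf.mp hz) (fun e => hz1 (Subtype.ext e)) u (mem_subgroupOf.mp hu.1)
        (congrArg Subtype.val (mem_centralizer_singleton_iff.mp hu.2)).symm))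
    (fun φ hφ q hq ho => Cfsg.Agent.S0033.result φ hφ q hq ho)
  exact Group.nilpotent_of_mulEquiv (subgroupOfEquivOfLe hUW)

/-- Elements of coprime order in a nilpotent group commute. -/
theorem commute_of_nilpotent [Group.IsNilpotent G] {p q : ℕ} [Fact p.Prime] [Fact q.Prime]
    (hpq : p ≠ q) {x y : G} (hx : orderOf x = p) (hy : orderOf y = q) : Commute x y := by
  obtain ⟨P, hP⟩ := (IsPGroup.of_card (n := 1) (by rw [Nat.card_zpowers, hx, pow_one] :
    Nat.card (zpowers x) = p ^ 1)).exists_le_sylow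
  obtain ⟨Q, hQ⟩ := (IsPGroup.of_card (n := 1) (by rw [Nat.card_zpowers, hy, pow_one] :
    Nat.card (zpowers y) = q ^ 1)).exists_le_sylow
  have h1 : (P : Subgroup G).Normal :=
    (Group.isNilpotent_of_finite_tfae.out 0 3 rfl rfl).mp ‹Group.IsNilpotent G› p ‹_› P
  have h2 : (Q : Subgroup G).Normal :=
    (Group.isNilpotent_of_finite_tfae.out 0 3 rfl rfl).mp ‹Group.IsNilpotent G› q ‹_› Q
  exact commute_of_normal_of_disjoint _ _ h1 h2 (IsPGroup.disjoint_of_ne p q hpq _ _ P.2 Q.2) x y
    (hP (mem_zpowers x)) (hQ (mem_zpowers y))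

/-- Commuting elements of distinct prime orders give an element of order the product. -/
theorem exists_orderOf_mul {p q : ℕ} (hp : p.Prime) (hq : q.Prime) (hpq : p ≠ q) {x y : G}
    (hx : orderOf x = p) (hy : orderOf y = q) (hc : Commute x y) : ∃ g : G, orderOf g = p * q :=
  ⟨x * y, by rw [hc.orderOf_mul_eq_mul_orderOf_of_coprime
    (by rw [hx, hy]; exact (Nat.coprime_primes hp hq).mpr hpq), hx, hy]⟩

theorem exists_orderOf_of_cyclic {A : Type*} [Group A] [Finite A] [IsCyclic A] {n : ℕ}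
    (h : n ∣ Nat.card A) : ∃ a : A, orderOf a = n := by
  obtain ⟨a, ha⟩ := IsCyclic.exists_generator (α := A)
  have hc : orderOf a = Nat.card A := orderOf_eq_card_of_forall_mem_zpowers ha
  exact ⟨a ^ (orderOf a / n), orderOf_pow_orderOf_div (orderOf_pos a).ne' (hc ▸ h)⟩

theorem exists_orderOf_of_image {A : Type*} [Group A] (f : G →* A) (hf : Function.Surjective f)
    {n : ℕ} {a : A} (ha : orderOf a = n) : ∃ g : G, orderOf g = n := by
  obtain ⟨g, rfl⟩ := hf a
  exact ⟨g ^ (orderOf g / n), orderOf_pow_orderOf_div (orderOf_pos g).ne' (ha ▸ orderOf_map_dvd f g)⟩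

end CfsgLib.TwoFrob
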