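import Cfsg.Agent.Lib.Frobenius.Basic
import Cfsg.Agent.Lib.Char.Complete
import Cfsg.Agent.Lib.Char.Induced
import Cfsg.Agent.Lib.Char.Kernel

/-!
Frobenius' theorem: the Frobenius kernel is a normal subgroup.
-/

set_option autoImplicit false
set_option linter.style.haveILetI false

open scoped Pointwise ComplexConjugate

namespace CfsgLib.Frobenius

variable {G : Type*} [Group G] [Fintype G] {H : Subgroup G}

/-- A generalized character of norm one with positive degree is a character. -/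
theorem isCharacter_of_norm_one {θ : G → ℂ} (hθ : Cfsg.IsGeneralizedCharacter G θ)
    (hn : Cfsg.classInner θ θ = 1) {d : ℕ} (hd : 0 < d) (h1 : θ 1 = d) :
    Cfsg.IsCharacter G θ := by
  classical
  obtain ⟨a, b, ha, hb, rfl⟩ := hθ
  obtain ⟨m, rfl⟩ := CfsgLib.Char.IsCharacter.exists_nat_combination ha
  obtain ⟨m', rfl⟩ := CfsgLib.Char.IsCharacter.exists_nat_combination hb
  set z : Cfsg.IrrCharacter G → ℤ := fun ψ => (m ψ : ℤ) - m' ψ with hz
  have hsum : ((∑ ψ, (m ψ : ℂ) • (ψ : G → ℂ)) - ∑ ψ, (m' ψ : ℂ) • (ψ : G → ℂ)) =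
      ∑ ψ, (z ψ : ℂ) • (ψ : G → ℂ) := by
    rw [← Finset.sum_sub_distrib]
    exact Finset.sum_congr rfl fun ψ _ => by simp [hz, sub_smul]
  rw [hsum] at hn h1 ⊢
  rw [CfsgLib.Char.classInner_sum_smul_sum_smul] at hn
  have hz2 : ∑ ψ, z ψ * z ψ = 1 := by
    simp only [map_intCast] at hn
    exact_mod_cast hn
  obtain ⟨φ, hφ⟩ : ∃ φ, z φ ≠ 0 := by
    by_contra hcon
    push Not at hcon
    simp [hcon] at hz2
  have hrest : ∀ ψ, ψ ≠ φ → z ψ = 0 := by
    intro ψ hψ
    by_contra h0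
    have h2 := Finset.sum_le_sum_of_subset_of_nonneg (f := fun ψ => z ψ * z ψ)
      (Finset.subset_univ {φ, ψ}) (fun i _ _ => mul_self_nonneg (z i))
    rw [hz2, Finset.sum_pair hψ.symm] at h2
    have e1 : 0 < z φ * z φ := mul_self_pos.2 hφ
    have e2 : 0 < z ψ * z ψ := mul_self_pos.2 h0
    omega
  rw [Finset.sum_eq_single φ (fun ψ _ hψ => by simp [hrest ψ hψ]) (by simp)] at h1 ⊢
  have hsq : z φ * z φ = 1 := by
    rwa [Finset.sum_eq_single φ (fun ψ _ hψ => by simp [hrest ψ hψ]) (by simp)] at hz2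
  rcases mul_self_eq_one_iff.1 hsq with h | h
  · rw [h]
    simpa using CfsgLib.Char.IsIrrCharacter.isCharacter φ.2
  · exfalso
    obtain ⟨n, -, hn1⟩ := CfsgLib.Char.IsIrrCharacter.exists_degree φ.2
    rw [h, Pi.smul_apply, hn1, smul_eq_mul] at h1
    have h3 : ((-1 : ℤ) * n : ℤ) = d := by exact_mod_cast h1
    omega

/-- Values of induced functions of a Frobenius complement vanishing at `1`. -/
theorem indFun_coe_apply [Fintype H] (hH : Cfsg.IsFrobeniusComplement H) {φ : H → ℂ}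
    (hφ : Cfsg.IsClassFunction H φ) (h0 : φ 1 = 0) (h : H) : Cfsg.indFun H φ h = φ h := by
  classical
  by_cases h1 : h = 1
  · subst h1
    rw [Subgroup.coe_one, CfsgLib.Char.indFun_apply_one, h0, mul_zero]
  rw [CfsgLib.Char.indFun_apply]
  have hterm : ∀ x : G, Cfsg.extendByZero H φ (x⁻¹ * h * x) = if x ∈ H then φ h else 0 := by
    intro x
    split_ifs with hx
    · have hm : x⁻¹ * h * x ∈ H := H.mul_mem (H.mul_mem (H.inv_mem hx) h.2) hx
      rw [CfsgLib.Char.extendByZero_apply_mem H φ hm, ← hφ h ⟨x, hx⟩⁻¹]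
      congr 1
      exact Subtype.ext (by simp)
    · apply CfsgLib.Char.extendByZero_of_notMem
      intro hm
      refine hx (mem_of_conj_mem hH h.2 hm ?_)
      simpa using h1
  simp only [hterm]
  rw [← Finset.sum_filter, Finset.sum_const, nsmul_eq_mul, ← Fintype.card_subtype,
    ← Nat.card_eq_fintype_card]
  exact inv_mul_cancel_left₀ (Nat.cast_ne_zero.2 (Nat.card_pos (α := H)).ne') _

/-- Each irreducible representation of a Frobenius complement extends to the group, trivially on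
the Frobenius kernel. -/
theorem exists_extension (hH : Cfsg.IsFrobeniusComplement H) (h : H) (h1 : h ≠ 1) :
    ∃ (n : ℕ) (ρ : Representation ℂ G (Fin n → ℂ)),
      (∀ x ∈ Cfsg.frobeniusKernel H, ρ x = 1) ∧ ρ (h : G) ≠ 1 := by
  classical
  haveI : Fintype H := Fintype.ofFinite H
  obtain ⟨d, σ, hσ, hσh⟩ := CfsgLib.CharKernel.exists_irreducible_apply_ne_one h h1
  set χ := σ.character with hχdef
  have hχ : Cfsg.IsIrrCharacter H χ := ⟨d, σ, hσ, rfl⟩
  have hχone : χ 1 = (d : ℂ) := by simp [hχdef]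
  have hd : 0 < d := by
    simpa using CfsgLib.Char.finrank_pos_of_isIrreducible σ
  have hχne : χ h ≠ (d : ℂ) := fun e => hσh (by
    rw [show (1 : Module.End ℂ (Fin d → ℂ)) = LinearMap.id from rfl]
    exact (CfsgLib.Char.character_eq_degree_iff σ h).1 (by simpa [hχdef] using e))
  -- the trivial character
  have htriv : Cfsg.IsIrrCharacter H (fun _ => (1 : ℂ)) := by
    simpa using CfsgLib.Char.isIrrCharacter_monoidHom (1 : H →* ℂˣ)
  have hχtriv : χ ≠ fun _ => (1 : ℂ) := by
    intro e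
    have e1 := congrFun e 1
    rw [hχone] at e1
    exact hχne (by rw [congrFun e h, e1])
  have i0 : Cfsg.classInner χ χ = 1 := CfsgLib.Char.classInner_irr_self hχ
  have i1 : Cfsg.classInner χ (fun _ => (1 : ℂ)) = 0 :=
    CfsgLib.Char.classInner_irr_of_ne hχ htriv hχtriv
  have i2 : Cfsg.classInner (fun _ : H => (1 : ℂ)) χ = 0 :=
    CfsgLib.Char.classInner_irr_of_ne htriv hχ hχtriv.symm
  have i3 : Cfsg.classInner (fun _ : H => (1 : ℂ)) (fun _ => (1 : ℂ)) = 1 :=
    CfsgLib.Char.classInner_irr_self htriv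
  set φ : H → ℂ := χ - (d : ℂ) • (fun _ => (1 : ℂ)) with hφdef
  have hφc : Cfsg.IsClassFunction H φ := fun a b => by
    simp [hφdef, CfsgLib.Char.IsIrrCharacter.isClassFunction hχ a b]
  have hφ1 : φ 1 = 0 := by simp [hφdef, hχone]
  have hφgen : Cfsg.IsGeneralizedCharacter H φ := by
    refine ⟨χ, (d : ℂ) • (fun _ => (1 : ℂ)), CfsgLib.Char.IsIrrCharacter.isCharacter hχ, ?_, rfl⟩
    have := CfsgLib.Char.IsCharacter.nsmul (CfsgLib.Char.IsIrrCharacter.isCharacter htriv) d
    rwa [← Nat.cast_smul_eq_nsmul ℂ] at this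
  -- the candidate extension
  set θ : G → ℂ := Cfsg.indFun H φ + (d : ℂ) • (fun _ => (1 : ℂ)) with hθdef
  have hθgen : Cfsg.IsGeneralizedCharacter G θ := by
    obtain ⟨a, b, ha, hb, hab⟩ := CfsgLib.Char.IsGeneralizedCharacter.indFun H hφgen
    have := CfsgLib.Char.IsCharacter.nsmul (CfsgLib.Char.isCharacter_one (G := G)) d
    rw [← Nat.cast_smul_eq_nsmul ℂ] at this
    refine ⟨a + (d : ℂ) • (1 : G → ℂ), b, CfsgLib.Char.IsCharacter.add ha this, hb, ?_⟩
    rw [hθdef, hab]
    ext g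
    simp
    ring
  have hres : (fun k : H => Cfsg.indFun H φ k) = φ := funext (indFun_coe_apply hH hφc hφ1)
  have j0 : Cfsg.classInner (Cfsg.indFun H φ) (Cfsg.indFun H φ) = Cfsg.classInner φ φ := by
    rw [CfsgLib.Char.classInner_indFun H φ _ (CfsgLib.Char.isClassFunction_indFun H φ), hres]
  have j1 : Cfsg.classInner (Cfsg.indFun H φ) (fun _ : G => (1 : ℂ)) =
      Cfsg.classInner φ (fun _ : H => (1 : ℂ)) := by
    rw [CfsgLib.Char.classInner_indFun H φ _ (fun _ _ => rfl)]
  have j2 : Cfsg.classInner (fun _ : G => (1 : ℂ)) (Cfsg.indFun H φ) =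
      Cfsg.classInner (fun _ : H => (1 : ℂ)) φ := by
    rw [← CfsgLib.Char.classInner_conj_symm, j1, CfsgLib.Char.classInner_conj_symm]
  have j3 : Cfsg.classInner (fun _ : G => (1 : ℂ)) (fun _ => (1 : ℂ)) = 1 :=
    CfsgLib.Char.classInner_irr_self (by
      simpa using CfsgLib.Char.isIrrCharacter_monoidHom (1 : G →* ℂˣ))
  have hnorm : Cfsg.classInner θ θ = 1 := by
    simp only [hθdef, CfsgLib.Char.classInner_add_left, CfsgLib.Char.classInner_add_right,
      CfsgLib.Char.classInner_smul_left, CfsgLib.Char.classInner_smul_right]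
    rw [j0, j1, j2, j3]
    simp only [hφdef, CfsgLib.Char.classInner_sub_left, CfsgLib.Char.classInner_sub_right,
      CfsgLib.Char.classInner_smul_left, CfsgLib.Char.classInner_smul_right, i0, i1, i2, i3,
      map_natCast]
    ring
  have hθker : ∀ x ∈ Cfsg.frobeniusKernel H, θ x = (d : ℂ) := by
    intro x hx
    have : Cfsg.indFun H φ x = 0 := by
      by_cases hx1 : x = 1
      · rw [hx1, CfsgLib.Char.indFun_apply_one, hφ1, mul_zero]
      · refine CfsgLib.Char.indFun_eq_zero_of_forall_notMem H φ x fun g hg => hx1 ?_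
        exact eq_one_of_mem_kernel_of_mem hx (mem_conjSMul_iff.2 hg)
    simp [hθdef, this]
  have hθ1 : θ 1 = (d : ℂ) := hθker 1 (Or.inl rfl)
  obtain ⟨n, ρ, hρ⟩ := isCharacter_of_norm_one hθgen hnorm hd hθ1
  have hn : (n : ℂ) = d := by rw [← hθ1, ← hρ]; simp
  refine ⟨n, ρ, fun x hx => ?_, fun e => hχne ?_⟩
  · refine (CfsgLib.Char.character_eq_degree_iff ρ x).1 ?_
    rw [hρ, hθker x hx, ← hn]
    simp
  · have e1 : θ h = (d : ℂ) := by
      rw [← hρ, ← hn]
      simpa using (CfsgLib.Char.character_eq_degree_iff ρ (h : G)).2 e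
    have e2 := indFun_coe_apply hH hφc hφ1 h
    simp only [hθdef, Pi.add_apply, e2] at e1
    simpa [hφdef] using e1

omit [Fintype G] in
/-- Frobenius' theorem. -/
theorem exists_kernel_subgroup [Finite G] (hH : Cfsg.IsFrobeniusComplement H) :
    ∃ N : Subgroup G, (N : Set G) = Cfsg.frobeniusKernel H ∧ N.Normal ∧
      Subgroup.IsComplement' N H := by
  haveI : Fintype G := Fintype.ofFinite G
  choose n ρ hρk hρh using fun h : {h : H // h ≠ 1} => exists_extension hH h.1 h.2
  let N : Subgroup G := ⨅ i, (ρ i).ker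
  have hsub : Cfsg.frobeniusKernel H ⊆ (N : Set G) := fun x hx =>
    Subgroup.mem_iInf.2 fun i => hρk i x hx
  have hinf : ∀ x ∈ N, x ∈ H → x = 1 := by
    intro x hx hxH
    by_contra hx1
    exact hρh ⟨⟨x, hxH⟩, fun e => hx1 (congrArg Subtype.val e)⟩ (Subgroup.mem_iInf.1 hx _)
  have hle : Nat.card N ≤ H.index := by
    rw [Subgroup.index_eq_card]
    refine Nat.card_le_card_of_injective (fun x => QuotientGroup.mk (x : G)) fun x y e => ?_
    have := hinf _ (N.mul_mem (N.inv_mem x.2) y.2) (QuotientGroup.eq.1 e)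
    exact Subtype.ext (inv_mul_eq_one.1 this)
  have heq : (N : Set G) = Cfsg.frobeniusKernel H := by
    refine (Set.eq_of_subset_of_ncard_le hsub ?_).symm
    rw [ncard_kernel hH, ← Nat.card_coe_set_eq]
    exact hle
  exact ⟨N, heq, normal_isComplement'_of_coe_eq hH heq⟩

end CfsgLib.Frobenius
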