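import Cfsg.Agent.Lib.Frobenius.FpfRep
import Cfsg.Agent.Lib.Frobenius.Basic
import Mathlib.RingTheory.LocalRing.Module
import Mathlib.RingTheory.LocalRing.Basic
import Mathlib.RingTheory.Flat.Basic
import Mathlib.RingTheory.SimpleRing.Basic
import Mathlib.LinearAlgebra.Matrix.Rank
import Mathlib.LinearAlgebra.Trace
import Mathlib.LinearAlgebra.Projection

/-!
# Linear identities between dimensions of fixed-point spaces in coprime characteristic
-/

set_option autoImplicit false
set_option linter.style.haveILetI false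

namespace CfsgLib.Frobenius

universe w

variable {ℓ : ℕ} [Fact ℓ.Prime]

local notation "red" m => (ZMod.castHom (dvd_pow_self ℓ (Nat.succ_ne_zero m)) (ZMod ℓ))

theorem isUnit_of_red_ne_zero {m : ℕ} {x : ZMod (ℓ ^ (m + 1))} (hx : (red m) x ≠ 0) : IsUnit x := by
  haveI : NeZero (ℓ ^ (m + 1)) := ⟨pow_ne_zero _ (Fact.out : ℓ.Prime).ne_zero⟩
  rw [← ZMod.natCast_zmod_val x, map_natCast, Ne, ZMod.natCast_eq_zero_iff] at hx
  rw [← ZMod.natCast_zmod_val x, ZMod.isUnit_iff_coprime]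
  exact Nat.Coprime.pow_right _ ((Fact.out : ℓ.Prime).coprime_iff_not_dvd.2 hx).symm

theorem isLocalRing_zmod_prime_pow (m : ℕ) : IsLocalRing (ZMod (ℓ ^ (m + 1))) := by
  haveI : Fact (1 < ℓ ^ (m + 1)) :=
    ⟨Nat.one_lt_pow (Nat.succ_ne_zero m) (Fact.out : ℓ.Prime).one_lt⟩
  refine IsLocalRing.of_isUnit_or_isUnit_one_sub_self fun a => ?_
  by_cases ha : (red m) a = 0
  · exact Or.inr (isUnit_of_red_ne_zero (by rw [map_sub, map_one, ha, sub_zero]; exact one_ne_zero))
  · exact Or.inl (isUnit_of_red_ne_zero ha)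

/-- The trace of an idempotent over `ZMod (ℓ ^ (m + 1))` is the rank of its reduction. -/
theorem trace_idem_eq_rank {n m : ℕ} (E : Matrix (Fin n) (Fin n) (ZMod (ℓ ^ (m + 1))))
    (hE : E * E = E) :
    E.trace = ((E.map (red m)).rank : ZMod (ℓ ^ (m + 1))) := by
  classical
  haveI := isLocalRing_zmod_prime_pow (ℓ := ℓ) m
  haveI : NeZero (ℓ ^ (m + 1)) := ⟨pow_ne_zero _ (Fact.out : ℓ.Prime).ne_zero⟩
  have hfree : ∀ F : Matrix (Fin n) (Fin n) (ZMod (ℓ ^ (m + 1))), F * F = F →
      Module.Free (ZMod (ℓ ^ (m + 1))) (LinearMap.range (Matrix.mulVecLin F)) := by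
    intro F hF
    haveI : Module.Projective (ZMod (ℓ ^ (m + 1))) (LinearMap.range (Matrix.mulVecLin F)) := by
      refine Module.Projective.of_split (LinearMap.range (Matrix.mulVecLin F)).subtype
        (Matrix.mulVecLin F).rangeRestrict (LinearMap.ext ?_)
      rintro ⟨_, v, rfl⟩
      exact Subtype.ext (show F.mulVec (F.mulVec v) = F.mulVec v by rw [Matrix.mulVec_mulVec, hF])
    haveI : Module.Finite (ZMod (ℓ ^ (m + 1))) (LinearMap.range (Matrix.mulVecLin F)) := Module.Finite.of_finite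
    exact Module.free_of_flat_of_isLocalRing
  -- the rank cannot increase under reduction
  have hle : ∀ F : Matrix (Fin n) (Fin n) (ZMod (ℓ ^ (m + 1))), F * F = F →
      (F.map (red m)).rank ≤ Module.finrank (ZMod (ℓ ^ (m + 1))) (LinearMap.range (Matrix.mulVecLin F)) := by
    intro F hF
    haveI := hfree F hF
    haveI : Module.Finite (ZMod (ℓ ^ (m + 1))) (LinearMap.range (Matrix.mulVecLin F)) := Module.Finite.of_finite
    let b := Module.Free.chooseBasis (ZMod (ℓ ^ (m + 1))) (LinearMap.range (Matrix.mulVecLin F))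
    let w : Module.Free.ChooseBasisIndex (ZMod (ℓ ^ (m + 1))) (LinearMap.range (Matrix.mulVecLin F)) → Fin n → ZMod ℓ :=
      fun i j => (red m) ((b i : Fin n → (ZMod (ℓ ^ (m + 1)))) j)
    have hsub : LinearMap.range (Matrix.mulVecLin (F.map (red m))) ≤
        Submodule.span (ZMod ℓ) (Set.range w) := by
      rintro _ ⟨v, rfl⟩
      obtain ⟨v', rfl⟩ : ∃ v' : Fin n → (ZMod (ℓ ^ (m + 1))), (fun j => (red m) (v' j)) = v :=
        ⟨fun j => Function.surjInv (ZMod.castHom_surjective _) (v j),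
          funext fun j => Function.surjInv_eq (ZMod.castHom_surjective _) _⟩
      have h1 : (F.map (red m)).mulVec (fun j => (red m) (v' j)) =
          fun j => (red m) ((F.mulVec v') j) := funext fun j => (RingHom.map_mulVec (red m) F v' j).symm
      rw [Matrix.mulVecLin_apply, h1]
      set y : LinearMap.range (Matrix.mulVecLin F) := ⟨F.mulVec v', ⟨v', rfl⟩⟩ with hy
      have h2 : (fun j => (red m) ((F.mulVec v') j)) = ∑ i, (red m) (b.repr y i) • w i := by
        funext j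
        have h3 := congrArg (fun z : LinearMap.range (Matrix.mulVecLin F) => (z : Fin n → (ZMod (ℓ ^ (m + 1)))) j)
          (b.sum_repr y)
        simp only [Submodule.coe_sum, Submodule.coe_smul, Finset.sum_apply, Pi.smul_apply,
          smul_eq_mul] at h3
        rw [show (F.mulVec v') j = (y : Fin n → (ZMod (ℓ ^ (m + 1)))) j from rfl, ← h3, map_sum, Finset.sum_apply]
        simp [w, map_mul]
      rw [h2]
      exact Submodule.sum_mem _ fun i _ => Submodule.smul_mem _ _ (Submodule.subset_span ⟨i, rfl⟩)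
    refine (Submodule.finrank_mono hsub).trans ?_
    exact (finrank_range_le_card (R := ZMod ℓ) w).trans_eq
      (Module.finrank_eq_card_chooseBasisIndex _ _).symm
  -- the complementary idempotent
  have hE' : (1 - E) * (1 - E) = 1 - E := by rw [sub_mul, one_mul, mul_sub, mul_one, hE, sub_self, sub_zero]
  haveI := hfree E hE
  haveI := hfree (1 - E) hE'
  haveI : Module.Finite (ZMod (ℓ ^ (m + 1))) (LinearMap.range (Matrix.mulVecLin E)) := Module.Finite.of_finite
  haveI : Module.Finite (ZMod (ℓ ^ (m + 1))) (LinearMap.range (Matrix.mulVecLin (1 - E))) := Module.Finite.of_finite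
  have hker : LinearMap.ker (Matrix.mulVecLin E) = LinearMap.range (Matrix.mulVecLin (1 - E)) := by
    ext v
    rw [LinearMap.mem_ker, Matrix.mulVecLin_apply, LinearMap.mem_range]
    constructor
    · intro hv
      exact ⟨v, by rw [Matrix.mulVecLin_apply, Matrix.sub_mulVec, Matrix.one_mulVec, hv, sub_zero]⟩
    · rintro ⟨w, rfl⟩
      rw [Matrix.mulVecLin_apply, Matrix.mulVec_mulVec, mul_sub, mul_one, hE, sub_self,
        Matrix.zero_mulVec]
  have hproj : LinearMap.IsProj (LinearMap.range (Matrix.mulVecLin E)) (Matrix.mulVecLin E) := by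
    refine ⟨fun v => ⟨v, rfl⟩, ?_⟩
    rintro _ ⟨v, rfl⟩
    simp only [Matrix.mulVecLin_apply, Matrix.mulVec_mulVec, hE]
  haveI : Module.Free (ZMod (ℓ ^ (m + 1))) (LinearMap.ker (Matrix.mulVecLin E)) := by rw [hker]; infer_instance
  haveI : Module.Finite (ZMod (ℓ ^ (m + 1))) (LinearMap.ker (Matrix.mulVecLin E)) := Module.Finite.of_finite
  have hsum : Module.finrank (ZMod (ℓ ^ (m + 1))) (LinearMap.range (Matrix.mulVecLin E)) +
      Module.finrank (ZMod (ℓ ^ (m + 1))) (LinearMap.range (Matrix.mulVecLin (1 - E))) = n := by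
    rw [← hker, ← Module.finrank_prod,
      (Submodule.prodEquivOfIsCompl _ _ hproj.isCompl).finrank_eq, Module.finrank_fin_fun]
  have hsum' : n ≤ (E.map (red m)).rank + ((1 - E).map (red m)).rank := by
    have h1 : (E.map (red m)) + ((1 - E).map (red m)) = 1 := by
      have : (red m).mapMatrix E + (red m).mapMatrix (1 - E) = 1 := by
        rw [← map_add, add_sub_cancel, map_one]
      exact this
    calc n = (1 : Matrix (Fin n) (Fin n) (ZMod ℓ)).rank := by
            rw [Matrix.rank_one, Fintype.card_fin]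
      _ ≤ _ := by
        rw [← h1, Matrix.rank, Matrix.rank, Matrix.rank, Matrix.mulVecLin_add]
        exact (Submodule.finrank_mono (LinearMap.range_add_le _ _)).trans
          (Submodule.finrank_add_le_finrank_add_finrank _ _)
  have h2 := hle E hE
  have h3 := hle (1 - E) hE'
  have htr := hproj.trace
  rw [show (E.map (red m)).rank = Module.finrank (ZMod (ℓ ^ (m + 1))) (LinearMap.range (Matrix.mulVecLin E)) by omega,
    ← htr, LinearMap.trace_eq_matrix_trace (ZMod (ℓ ^ (m + 1))) (Pi.basisFun (ZMod (ℓ ^ (m + 1))) (Fin n)), LinearMap.toMatrix_eq_toMatrix']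
  congr 1
  exact (LinearMap.toMatrix'_toLin' E).symm

variable {G : Type*} [Group G] [Finite G]

omit [Finite G] in
/-- The averaged projection onto the fixed space has that fixed space as its range. -/
theorem rank_avg {n : ℕ} (ρ : G →* GL (Fin n) (ZMod ℓ)) (S : Subgroup G) [Fintype S]
    (hS : ((Fintype.card S : ℕ) : ZMod ℓ) ≠ 0) :
    ∀ T : Submodule (ZMod ℓ) (Fin n → ZMod ℓ),
      (∀ v, v ∈ T ↔ ∀ s ∈ S, (ρ s : Matrix (Fin n) (Fin n) (ZMod ℓ)).mulVec v = v) →
      ((Fintype.card S : ZMod ℓ)⁻¹ • ∑ s : S, (ρ s : Matrix (Fin n) (Fin n) (ZMod ℓ))).rank =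
        Module.finrank (ZMod ℓ) T := by
  intro T hT
  set P := (Fintype.card S : ZMod ℓ)⁻¹ • ∑ s : S, (ρ s : Matrix (Fin n) (Fin n) (ZMod ℓ))
  have hfix : ∀ s ∈ S, (ρ s : Matrix (Fin n) (Fin n) (ZMod ℓ)) * P = P := by
    intro s hs
    rw [mul_smul_comm, Finset.mul_sum]
    congr 1
    exact Fintype.sum_equiv (Equiv.mulLeft (⟨s, hs⟩ : S)) _ _ fun x => by simp
  have hrange : LinearMap.range (Matrix.mulVecLin P) = T := by
    refine le_antisymm ?_ fun v hv => ⟨v, ?_⟩
    · rintro _ ⟨v, rfl⟩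
      rw [hT]
      intro s hs
      rw [Matrix.mulVecLin_apply, Matrix.mulVec_mulVec, hfix s hs]
    · have h1 : ∀ s : S, (ρ s : Matrix (Fin n) (Fin n) (ZMod ℓ)).mulVec v = v :=
        fun s => (hT v).1 hv s s.2
      rw [Matrix.mulVecLin_apply, Matrix.smul_mulVec, Matrix.sum_mulVec]
      simp only [h1, Finset.sum_const, Finset.card_univ]
      rw [← Nat.cast_smul_eq_nsmul (ZMod ℓ), smul_smul, inv_mul_cancel₀ hS, one_smul]
  rw [Matrix.rank, hrange]

open Classical in
/-- If `∑ i, c i • [g ∈ S i] = 0` for every `g`, then the fixed space dimensions `d i` of the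
subgroups `S i` satisfy `∑ i, c i * |S i| * d i = 0`, in characteristic coprime to the group. -/
theorem fixed_dim_identity {n : ℕ} (ρ : G →* GL (Fin n) (ZMod ℓ)) (hℓ : ¬ ℓ ∣ Nat.card G)
    {ι : Type*} [Fintype ι] (S : ι → Subgroup G) (c : ι → ℤ)
    (hc : ∀ g : G, ∑ i, (if g ∈ S i then c i else 0) = 0)
    (T : ι → Submodule (ZMod ℓ) (Fin n → ZMod ℓ))
    (hT : ∀ i v, v ∈ T i ↔ ∀ s ∈ S i, (ρ s : Matrix (Fin n) (Fin n) (ZMod ℓ)).mulVec v = v) :
    ∑ i, c i * (Nat.card (S i) : ℤ) * (Module.finrank (ZMod ℓ) (T i) : ℤ) = 0 := by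
  haveI : Fintype G := Fintype.ofFinite G
  set z := ∑ i, c i * (Nat.card (S i) : ℤ) * (Module.finrank (ZMod ℓ) (T i) : ℤ) with hz
  obtain ⟨m, hm⟩ : ∃ m, m = z.natAbs := ⟨_, rfl⟩
  obtain ⟨σ, hσ⟩ := exists_lift ℓ m n hℓ ρ
  have hne : ∀ i, ((Fintype.card (S i) : ℕ) : ZMod ℓ) ≠ 0 := fun i h => by
    rw [ZMod.natCast_eq_zero_iff, ← Nat.card_eq_fintype_card] at h
    exact hℓ (h.trans (Subgroup.card_subgroup_dvd_card _))
  have hu' : ∀ i, IsUnit ((Fintype.card (S i) : ℕ) : (ZMod (ℓ ^ (m + 1)))) := fun i =>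
    isUnit_of_red_ne_zero (by rw [map_natCast]; exact hne i)
  let A : ι → Matrix (Fin n) (Fin n) (ZMod (ℓ ^ (m + 1))) := fun i => ∑ s : S i, (σ s : Matrix (Fin n) (Fin n) (ZMod (ℓ ^ (m + 1))))
  have hAA : ∀ i, A i * A i = (Fintype.card (S i) : (ZMod (ℓ ^ (m + 1)))) • A i := by
    intro i
    have hs : ∀ s : S i, (σ s : Matrix (Fin n) (Fin n) (ZMod (ℓ ^ (m + 1)))) * A i = A i := by
      intro s
      rw [Finset.mul_sum]
      exact Fintype.sum_equiv (Equiv.mulLeft s) _ _ fun x => by simp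
    calc A i * A i = ∑ s : S i, (σ s : Matrix (Fin n) (Fin n) (ZMod (ℓ ^ (m + 1)))) * A i := Finset.sum_mul ..
      _ = _ := by simp only [hs, Finset.sum_const, Finset.card_univ, Nat.cast_smul_eq_nsmul]
  have htr : ∀ i, (A i).trace =
      ((Fintype.card (S i) * Module.finrank (ZMod ℓ) (T i) : ℕ) : (ZMod (ℓ ^ (m + 1)))) := by
    intro i
    obtain ⟨u, hu⟩ := hu' i
    set E := (↑u⁻¹ : (ZMod (ℓ ^ (m + 1)))) • A i with hE
    have hEE : E * E = E := by
      rw [hE, smul_mul_smul_comm, hAA, ← hu, smul_smul]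
      congr 1
      rw [mul_assoc, Units.inv_mul, mul_one]
    have hAE : A i = (u : (ZMod (ℓ ^ (m + 1)))) • E := by rw [hE, smul_smul, Units.mul_inv, one_smul]
    have hred : E.map (red m) = (Fintype.card (S i) : ZMod ℓ)⁻¹ •
        ∑ s : S i, (ρ s : Matrix (Fin n) (Fin n) (ZMod ℓ)) := by
      have hinv : (red m) (↑u⁻¹ : (ZMod (ℓ ^ (m + 1)))) = (Fintype.card (S i) : ZMod ℓ)⁻¹ := by
        refine eq_inv_of_mul_eq_one_left ?_
        rw [← map_natCast (red m), ← hu, ← map_mul, Units.inv_mul, map_one]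
      rw [← hinv, hE]
      ext a b
      simp only [Matrix.map_apply, Matrix.smul_apply, smul_eq_mul, map_mul, A, Matrix.sum_apply,
        map_sum]
      congr 1
      refine Finset.sum_congr rfl fun s _ => ?_
      rw [← hσ]
      rfl
    rw [hAE, Matrix.trace_smul, trace_idem_eq_rank E hEE, hred,
      rank_avg ρ (S i) (hne i) (T i) (hT i), smul_eq_mul, hu, Nat.cast_mul]
  have hzero : ∑ i, (c i : (ZMod (ℓ ^ (m + 1)))) • A i = 0 := by
    have h1 : ∀ i, A i = ∑ g : G, if g ∈ S i then (σ g : Matrix (Fin n) (Fin n) (ZMod (ℓ ^ (m + 1)))) else 0 := by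
      intro i
      rw [← Finset.sum_filter]
      exact (Finset.sum_subtype _ (fun g => by simp) fun g => (σ g : Matrix (Fin n) (Fin n) (ZMod (ℓ ^ (m + 1))))).symm
    simp only [h1, Finset.smul_sum]
    rw [Finset.sum_comm]
    refine Finset.sum_eq_zero fun g _ => ?_
    have h2 : ∀ i, (c i : (ZMod (ℓ ^ (m + 1)))) • (if g ∈ S i then (σ g : Matrix (Fin n) (Fin n) (ZMod (ℓ ^ (m + 1)))) else 0) =
        ((if g ∈ S i then c i else 0 : ℤ) : (ZMod (ℓ ^ (m + 1)))) • (σ g : Matrix (Fin n) (Fin n) (ZMod (ℓ ^ (m + 1)))) := fun i => by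
      split <;> simp
    simp only [h2, ← Finset.sum_smul, ← Int.cast_sum, hc g, Int.cast_zero, zero_smul]
  have h3 : (z : (ZMod (ℓ ^ (m + 1)))) = 0 := by
    have := congrArg Matrix.trace hzero
    simp only [Matrix.trace_sum, Matrix.trace_smul, htr, Matrix.trace_zero, smul_eq_mul] at this
    rw [← this, hz]
    push_cast [Nat.card_eq_fintype_card]
    exact Finset.sum_congr rfl fun i _ => by ring
  rw [ZMod.intCast_zmod_eq_zero_iff_dvd] at h3
  refine Int.eq_zero_of_dvd_of_natAbs_lt_natAbs h3 ?_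
  rw [Int.natAbs_natCast]
  rw [← hm]
  exact (Nat.lt_succ_self m).trans ((m + 1).lt_pow_self (Fact.out : ℓ.Prime).one_lt)

open Classical in
/-- Fixed-point orders of an elementary abelian group under a coprime action satisfy every linear
identity between the subgroups. -/
theorem exists_fixed_card_identity {A : Type*} [CommGroup A] [Finite A] (hexp : ∀ a : A, a ^ ℓ = 1)
    (φ : G →* MulAut A) (hℓ : ¬ ℓ ∣ Nat.card G) :
    ∃ d : Subgroup G → ℕ, (∀ S, Nat.card {a : A // ∀ s ∈ S, φ s a = a} = ℓ ^ d S) ∧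
      ∀ (ι : Type w) [Fintype ι] (S : ι → Subgroup G) (c : ι → ℤ),
        (∀ g : G, ∑ i, (if g ∈ S i then c i else 0) = 0) →
          ∑ i, c i * (Nat.card (S i) : ℤ) * (d (S i) : ℤ) = 0 := by
  letI : Module (ZMod ℓ) (Additive A) := AddCommGroup.zmodModule (n := ℓ)
    (fun x => Additive.toMul.injective (hexp x.toMul))
  haveI : FiniteDimensional (ZMod ℓ) (Additive A) := Module.Finite.of_finite
  let act : G →* Module.End (ZMod ℓ) (Additive A) :=
    { toFun := fun g => (MonoidHom.toAdditive (φ g).toMonoidHom).toZModLinearMap ℓ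
      map_one' := by ext w; simp
      map_mul' := fun a b => by ext w; simp }
  let b := Module.finBasis (ZMod ℓ) (Additive A)
  let M : G →* Matrix (Fin (Module.finrank (ZMod ℓ) (Additive A)))
      (Fin (Module.finrank (ZMod ℓ) (Additive A))) (ZMod ℓ) :=
    (LinearMap.toMatrixAlgEquiv b).toRingEquiv.toRingHom.toMonoidHom.comp act
  let T : Subgroup G → Submodule (ZMod ℓ) (Fin (Module.finrank (ZMod ℓ) (Additive A)) → ZMod ℓ) :=
    fun S => ⨅ s : S, LinearMap.ker (Matrix.mulVecLin (M s) - LinearMap.id)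
  have hT : ∀ S v, v ∈ T S ↔ ∀ s ∈ S, (M s).mulVec v = v := fun S v => by
    simp [T, Submodule.mem_iInf, sub_eq_zero]
  refine ⟨fun S => Module.finrank (ZMod ℓ) (T S), fun S => ?_,
    fun ι _ S c hc => fixed_dim_identity M.toHomUnits hℓ S c hc (fun i => T (S i)) fun i v => hT _ v⟩
  have hequiv : ∀ (a : A) (g : G),
      (M g).mulVec (b.equivFun (Additive.ofMul a)) = b.equivFun (Additive.ofMul (φ g a)) :=
    fun a g => LinearMap.toMatrix_mulVec_repr b b (act g) (Additive.ofMul a)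
  have e : {a : A // ∀ s ∈ S, φ s a = a} ≃ T S :=
    Equiv.subtypeEquiv (Additive.ofMul.trans b.equivFun.toEquiv) fun a => by
      rw [hT]
      refine forall₂_congr fun s _ => ?_
      simp only [Equiv.trans_apply, LinearEquiv.coe_toEquiv]
      rw [hequiv, b.equivFun.injective.eq_iff, Additive.ofMul.injective.eq_iff]
  rw [Nat.card_congr e, Module.natCard_eq_pow_finrank (K := ZMod ℓ), Nat.card_zmod]

open Classical in
open scoped Pointwise in
/-- Fixed-point dimensions for a Frobenius group acting coprimely on an elementary abelian group. -/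
theorem exists_frobenius_dim {A : Type*} [CommGroup A] [Finite A] (hexp : ∀ a : A, a ^ ℓ = 1)
    (φ : G →* MulAut A) (hℓ : ¬ ℓ ∣ Nat.card G) {K R : Subgroup G} [K.Normal]
    (hc : Subgroup.IsComplement' K R) (hF : Cfsg.IsFrobeniusComplement R) :
    ∃ d : Subgroup G → ℕ, (∀ S, Nat.card {a : A // ∀ s ∈ S, φ s a = a} = ℓ ^ d S) ∧
      Nat.card R * d ⊤ + d ⊥ = Nat.card R * d R + d K := by
  haveI : Fintype ↥K := Fintype.ofFinite _
  obtain ⟨d, hd, hid⟩ := exists_fixed_card_identity (ℓ := ℓ) hexp φ hℓ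
  refine ⟨d, hd, ?_⟩
  have hdisj : ∀ g ∈ K, g ∈ R → g = 1 := fun g h1 h2 =>
    (Subgroup.disjoint_def.1 hc.disjoint) h1 h2
  have hker := kernel_eq_of_isComplement' hc hF
  have hconj : ∀ k : K, d (MulAut.conj (k : G) • R) = d R := by
    intro k
    refine Nat.pow_right_injective (Fact.out : ℓ.Prime).two_le ?_
    simp only [← hd]
    refine (Nat.card_congr (Equiv.subtypeEquiv (φ (k : G)).toEquiv fun a => ?_)).symm
    constructor
    · intro ha s hs
      rw [mem_conjSMul_iff] at hs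
      show φ s (φ (k : G) a) = φ (k : G) a
      rw [← MulAut.mul_apply, ← map_mul,
        show s * (k : G) = (k : G) * ((k : G)⁻¹ * s * k) by group, map_mul, MulAut.mul_apply, ha _ hs]
    · intro ha s hs
      have h1 : φ ((k : G) * s * (k : G)⁻¹) (φ (k : G) a) = φ (k : G) a :=
        ha ((k : G) * s * (k : G)⁻¹) (by rw [mem_conjSMul_iff]; simpa [mul_assoc] using hs)
      rw [← MulAut.mul_apply, ← map_mul, inv_mul_cancel_right, map_mul, MulAut.mul_apply] at h1
      exact (φ (k : G)).injective h1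
  have hpart : ∀ g : G, g ∉ K →
      ((Finset.univ : Finset K).filter fun k : K => g ∈ MulAut.conj (k : G) • R).card = 1 := by
    intro g hg
    obtain ⟨x, hx⟩ : ∃ x : G, g ∈ MulAut.conj x • R := by
      by_contra hno
      push Not at hno
      exact hg (by rw [← SetLike.mem_coe, hker]; exact Or.inr hno)
    obtain ⟨⟨k, r⟩, hkr, -⟩ := hc.existsUnique x
    simp only at hkr
    rw [Finset.card_eq_one]
    refine ⟨k, Finset.eq_singleton_iff_unique_mem.2 ⟨?_, ?_⟩⟩
    · rw [Finset.mem_filter, mem_conjSMul_iff]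
      refine ⟨Finset.mem_univ _, ?_⟩
      rw [mem_conjSMul_iff, ← hkr] at hx
      convert R.mul_mem (R.mul_mem r.2 hx) (R.inv_mem r.2) using 1
      group
    · intro k₂ hk₂
      rw [Finset.mem_filter, mem_conjSMul_iff] at hk₂
      rw [mem_conjSMul_iff, ← hkr] at hx
      have hk1 : (k : G)⁻¹ * g * k ∈ R := by
        convert R.mul_mem (R.mul_mem r.2 hx) (R.inv_mem r.2) using 1
        group
      have h1 : (k : G)⁻¹ * (k₂ : G) ∈ R := by
        refine mem_of_conj_mem hF hk1 ?_ ?_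
        · convert hk₂.2 using 1; group
        · intro h
          refine hg ?_
          have : g = 1 := by
            calc g = (k : G) * ((k : G)⁻¹ * g * k) * (k : G)⁻¹ := by group
              _ = 1 := by rw [h]; group
          rw [this]
          exact one_mem _
      exact Subtype.ext (inv_mul_eq_one.1 (hdisj _ (K.mul_mem (K.inv_mem k.2) k₂.2) h1)).symm
  let S : Fin 3 ⊕ K → Subgroup G :=
    Sum.elim ![⊤, K, ⊥] (fun k => MulAut.conj (k : G) • R)
  let c : Fin 3 ⊕ K → ℤ := Sum.elim ![1, -1, (Fintype.card K : ℤ)] (fun _ => -1)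
  have hsum : ∀ f : Fin 3 ⊕ K → ℤ, ∑ i, f i = f (.inl 0) + f (.inl 1) + f (.inl 2)
      + ∑ k, f (.inr k) := fun f => by
    rw [Fintype.sum_sum_type, Fin.sum_univ_three]
  have key := hid (Fin 3 ⊕ K) S c fun g => by
    rw [hsum (fun i => if g ∈ S i then c i else 0)]
    by_cases hg1 : g = 1
    · subst hg1
      simp [S, c]
    by_cases hg : g ∈ K
    · have : ∀ k : K, g ∉ MulAut.conj (k : G) • R := fun k hk => hg1
        (eq_one_of_mem_kernel_of_mem (H := R) (by rw [← hker]; exact hg) hk)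
      simp [S, c, hg, this, hg1]
    · have h5 : ∑ k : K, (if g ∈ S (Sum.inr k) then c (Sum.inr k) else 0) = -1 := by
        obtain ⟨k₀, hk₀⟩ := Finset.card_eq_one.1 (hpart g hg)
        have hmem : ∀ k : K, g ∈ MulAut.conj (k : G) • R ↔ k = k₀ := fun k => by
          simpa using Finset.ext_iff.1 hk₀ k
        refine (Finset.sum_eq_single k₀ (fun k _ hk => ?_)
          (fun h => absurd (Finset.mem_univ _) h)).trans ?_
        · exact if_neg fun h => hk ((hmem k).1 h)
        · exact if_pos ((hmem k₀).2 rfl)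
      rw [h5]
      simp [S, c, hg, hg1]
  rw [hsum (fun i => c i * (Nat.card (S i) : ℤ) * (d (S i) : ℤ))] at key
  simp only [S, c, Sum.elim_inl, Sum.elim_inr, Matrix.cons_val, hconj, card_conjSMul,
    Finset.sum_const, Finset.card_univ, nsmul_eq_mul, ← Nat.card_eq_fintype_card] at key
  rw [Subgroup.card_top, ← hc.card_mul_card, Subgroup.card_bot] at key
  have hK0 : (Nat.card K : ℤ) ≠ 0 := by exact_mod_cast Nat.card_pos.ne'
  apply Nat.cast_injective (R := ℤ)
  refine mul_left_cancel₀ hK0 ?_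
  push_cast at key ⊢
  linear_combination key

/-- A fixed-point-free pair `K`, `R` gives a Frobenius group `K ⊔ R`. -/
theorem frobenius_sup {X : Type*} [Group X] [Finite X] {K R : Subgroup X}
    (hRK : R ≤ Subgroup.normalizer (K : Set X)) (hK : K ≠ ⊥) (hR : R ≠ ⊥) (hKR : K ⊓ R = ⊥)
    (hfpf : ∀ r ∈ R, r ≠ 1 → K ⊓ Subgroup.centralizer {r} = ⊥) :
    (K.subgroupOf (K ⊔ R)).Normal ∧
      Subgroup.IsComplement' (K.subgroupOf (K ⊔ R)) (R.subgroupOf (K ⊔ R)) ∧
      Cfsg.IsFrobeniusComplement (R.subgroupOf (K ⊔ R)) := by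
  set G := ↥(K ⊔ R)
  let K' := K.subgroupOf (K ⊔ R)
  let R' := R.subgroupOf (K ⊔ R)
  haveI : K'.Normal := (Subgroup.normal_subgroupOf_iff_le_normalizer le_sup_left).2
    (sup_le Subgroup.le_normalizer hRK)
  have hdisj : ∀ g ∈ K', g ∈ R' → g = 1 := fun g h1 h2 => by
    have : (g : X) ∈ K ⊓ R := ⟨h1, h2⟩
    rw [hKR, Subgroup.mem_bot] at this
    exact Subtype.ext this
  have hc : Subgroup.IsComplement' K' R' := by
    refine Subgroup.isComplement'_of_disjoint_and_mul_eq_univ (Subgroup.disjoint_def.2 fun h1 h2 =>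
      hdisj _ h1 h2) ?_
    rw [← Subgroup.normal_mul, ← Subgroup.subgroupOf_sup le_sup_left le_sup_right,
      Subgroup.subgroupOf_self, Subgroup.coe_top]
  have hne : ∀ S : Subgroup X, S ≤ K ⊔ R → S ≠ ⊥ → S.subgroupOf (K ⊔ R) ≠ ⊥ := fun S hS h1 h2 =>
    h1 (eq_bot_iff.2 fun x hx => by
      have : (⟨x, hS hx⟩ : G) ∈ S.subgroupOf (K ⊔ R) := hx
      rw [h2, Subgroup.mem_bot] at this
      exact congrArg Subtype.val this)
  have hF : Cfsg.IsFrobeniusComplement R' := by
    refine isFrobeniusComplement_of_fpf hc (hne K le_sup_left hK) (hne R le_sup_right hR) ?_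
    intro r hr hr1
    rw [eq_bot_iff]
    rintro k ⟨hk, hkr⟩
    have hm : (k : X) ∈ K ⊓ Subgroup.centralizer {(r : X)} :=
      ⟨hk, Subgroup.mem_centralizer_singleton_iff.2
        (congrArg Subtype.val (Subgroup.mem_centralizer_singleton_iff.1 hkr))⟩
    rw [hfpf (r : X) hr (fun h => hr1 (Subtype.ext h)), Subgroup.mem_bot] at hm
    exact Subtype.ext hm
  exact ⟨inferInstance, hc, hF⟩

open scoped Pointwise in
/-- Fixed-point formula for a Frobenius group `K R` acting coprimely on an elementary abelian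
group `V`: `|C_V(KR)| ^ |R| * |V| = |C_V(R)| ^ |R| * |C_V(K)|`. -/
theorem frobenius_fixed_card {X : Type*} [Group X] [Finite X] {V K R : Subgroup X}
    (hab : IsMulCommutative V) (hexp : ∀ v ∈ V, v ^ ℓ = 1)
    (hKV : K ≤ Subgroup.normalizer (V : Set X)) (hRV : R ≤ Subgroup.normalizer (V : Set X))
    (hRK : R ≤ Subgroup.normalizer (K : Set X)) (hK : K ≠ ⊥) (hR : R ≠ ⊥) (hKR : K ⊓ R = ⊥)
    (hfpf : ∀ r ∈ R, r ≠ 1 → K ⊓ Subgroup.centralizer {r} = ⊥)
    (hℓ : ¬ ℓ ∣ Nat.card ↥(K ⊔ R)) :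
    Nat.card ↥(V ⊓ Subgroup.centralizer ((K ⊔ R : Subgroup X) : Set X)) ^ Nat.card R * Nat.card V =
      Nat.card ↥(V ⊓ Subgroup.centralizer (R : Set X)) ^ Nat.card R *
        Nat.card ↥(V ⊓ Subgroup.centralizer (K : Set X)) := by
  classical
  letI : CommGroup V :=
    { (inferInstance : Group V) with mul_comm := fun a b => Subtype.ext (setLike_mul_comm a.2 b.2) }
  have hW : K ⊔ R ≤ Subgroup.normalizer (V : Set X) := sup_le hKV hRV
  haveI : Fintype ↥(K.subgroupOf (K ⊔ R)) := Fintype.ofFinite _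
  let φ : ↥(K ⊔ R) →* MulAut V := V.normalizerMonoidHom.comp (Subgroup.inclusion hW)
  set G := ↥(K ⊔ R)
  let K' := K.subgroupOf (K ⊔ R)
  let R' := R.subgroupOf (K ⊔ R)
  obtain ⟨hn, hc, hF⟩ := frobenius_sup hRK hK hR hKR hfpf
  haveI : K'.Normal := hn
  obtain ⟨d, hd, key'⟩ : ∃ d : Subgroup G → ℕ, (∀ S, Nat.card {a : V // ∀ s ∈ S, φ s a = a} = ℓ ^ d S) ∧
      Nat.card R' * d ⊤ + d ⊥ = Nat.card R' * d R' + d K' :=
    exists_frobenius_dim (ℓ := ℓ) (G := G) (fun a => Subtype.ext (hexp a a.2)) φ hℓ hc hF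
  have hcard : ∀ S : Subgroup X, S ≤ K ⊔ R →
      ℓ ^ d (S.subgroupOf (K ⊔ R)) = Nat.card ↥(V ⊓ Subgroup.centralizer (S : Set X)) := by
    intro S hS
    rw [← hd]
    exact Nat.card_congr
      { toFun := fun a => ⟨(a.1 : X), a.1.2, fun s hs =>
          mul_inv_eq_iff_eq_mul.1 (congrArg Subtype.val (a.2 ⟨s, hS hs⟩ hs))⟩
        invFun := fun x => ⟨⟨x.1, x.2.1⟩, fun s hs => Subtype.ext
          (mul_inv_eq_iff_eq_mul.2 (x.2.2 (s : X) hs))⟩
        left_inv := fun _ => rfl
        right_inv := fun _ => rfl }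
  have h0 : Nat.card V = ℓ ^ d ⊥ := by
    rw [← hd]
    exact Nat.card_congr (Equiv.subtypeUnivEquiv fun a s hs => by
      rw [Subgroup.mem_bot.1 hs]; simp).symm
  rw [h0, ← hcard (K ⊔ R) le_rfl, ← hcard R le_sup_right, ← hcard K le_sup_left,
    Subgroup.subgroupOf_self, ← Nat.card_congr (Subgroup.subgroupOfEquivOfLe
      (le_sup_right : R ≤ K ⊔ R)).toEquiv, ← pow_mul, ← pow_mul, ← pow_add, ← pow_add,
    mul_comm (d ⊤), mul_comm (d R')]
  exact congrArg (ℓ ^ ·) key'

end CfsgLib.Frobenius
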