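import Mathlib.GroupTheory.SchurZassenhaus
import Mathlib.GroupTheory.PGroup
import Mathlib.LinearAlgebra.Matrix.GeneralLinearGroup.Defs
import Mathlib.LinearAlgebra.Matrix.ToLin
import Mathlib.FieldTheory.Finiteness
import Mathlib.FieldTheory.IsAlgClosed.AlgebraicClosure
import Mathlib.Algebra.MonoidAlgebra.Basic
import Mathlib.Algebra.Field.ZMod
import Mathlib.Tactic

/-!
Fixed-point-free representations: an action without fixed points on an abelian `q`-group gives one
over `ZMod q`, and, when `q` does not divide the group order, one over `AlgebraicClosure ℚ`, which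
may be taken irreducible.
-/

namespace CfsgLib.Frobenius

open Matrix

/-- A fixed-point-free action on a nontrivial elementary abelian `q`-group is a representation
over `ZMod q` without fixed vectors. -/
theorem exists_fpf_of_mulAut (q : ℕ) [Fact q.Prime] {A : Type*} [CommGroup A] [Finite A] [Nontrivial A]
    (hexp : ∀ a : A, a ^ q = 1) {G : Type*} [Group G] (φ : G →* MulAut A)
    (hfpf : ∀ g, g ≠ 1 → ∀ a, φ g a = a → a = 1) :
    ∃ d : ℕ, 0 < d ∧ ∃ ρ : G →* GL (Fin d) (ZMod q),
      ∀ g, g ≠ 1 → ∀ v : Fin d → ZMod q,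
        (ρ g : Matrix (Fin d) (Fin d) (ZMod q)).mulVec v = v → v = 0 := by
  let : Module (ZMod q) (Additive A) := AddCommGroup.zmodModule (n := q)
    (fun x => Additive.toMul.injective (hexp x.toMul))
  have : FiniteDimensional (ZMod q) (Additive A) := Module.Finite.of_finite
  let act : G →* Module.End (ZMod q) (Additive A) :=
    { toFun := fun g => (MonoidHom.toAdditive (φ g).toMonoidHom).toZModLinearMap q
      map_one' := by ext w; simp
      map_mul' := fun a b => by ext w; simp }
  let b := Module.finBasis (ZMod q) (Additive A)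
  let M : G →* Matrix (Fin (Module.finrank (ZMod q) (Additive A)))
      (Fin (Module.finrank (ZMod q) (Additive A))) (ZMod q) :=
    (LinearMap.toMatrixAlgEquiv b).toRingEquiv.toRingHom.toMonoidHom.comp act
  refine ⟨_, Module.finrank_pos, M.toHomUnits, fun g hg v hv => ?_⟩
  have h2 := LinearMap.toMatrix_mulVec_repr b b (act g) (b.equivFun.symm v)
  have h3 : (b.repr (b.equivFun.symm v) : _ → ZMod q) = v := b.equivFun.apply_symm_apply v
  rw [h3] at h2
  have h1 : act g (b.equivFun.symm v) = b.equivFun.symm v := by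
    apply b.equivFun.injective
    rw [LinearEquiv.apply_symm_apply]
    exact h2.symm.trans hv
  have h4 := hfpf g hg (b.equivFun.symm v).toMul (congrArg Additive.toMul h1)
  rw [← b.equivFun.apply_symm_apply v, show b.equivFun.symm v = 0 from Additive.toMul.injective h4,
    map_zero]

/-- A group acting fixed-point-freely on an abelian `q`-subgroup has a fixed-point-free
representation over `ZMod q`. -/
theorem exists_fpf_modp (q : ℕ) [Fact q.Prime] {L : Type*} [Group L] [Finite L] (V : Subgroup L)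
    (hV : V ≠ ⊥) (hc : IsMulCommutative V) (hp : IsPGroup q V) (H : Subgroup L)
    (hn : H ≤ Subgroup.normalizer (V : Set L))
    (hfpf : ∀ h ∈ H, h ≠ 1 → V ⊓ Subgroup.centralizer {h} = ⊥)
    {G : Type*} [Group G] (f : G →* H) (hf : Function.Injective f) :
    ∃ d : ℕ, 0 < d ∧ ∃ ρ : G →* GL (Fin d) (ZMod q),
      ∀ g, g ≠ 1 → ∀ v : Fin d → ZMod q,
        (ρ g : Matrix (Fin d) (Fin d) (ZMod q)).mulVec v = v → v = 0 := by
  classical
  let : CommGroup V := { (inferInstance : Group V) with mul_comm := hc.is_comm.comm }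
  let W : Subgroup V := (powMonoidHom q : V →* V).ker
  have hWne : Nontrivial W := by
    obtain ⟨k, hk⟩ := IsPGroup.iff_card.mp hp
    have hk0 : k ≠ 0 := by
      rintro rfl
      exact hV (Subgroup.card_eq_one.mp (by simpa using hk))
    obtain ⟨x, hx⟩ := exists_prime_orderOf_dvd_card' (G := V) q (hk ▸ dvd_pow_self q hk0)
    refine ⟨⟨⟨x, show x ^ q = 1 from hx ▸ pow_orderOf_eq_one x⟩, 1, fun h => ?_⟩⟩
    rw [show x = 1 from congrArg Subtype.val h, orderOf_one] at hx
    exact (Fact.out : q.Prime).one_lt.ne hx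
  have hexp : ∀ w : W, w ^ q = 1 := fun w => Subtype.ext w.2
  have hmem : ∀ (h : H) (v : V), (h : L) * v * (h : L)⁻¹ ∈ V := fun h v =>
    ((Subgroup.mem_normalizer_iff.mp (hn h.2)) v).mp v.2
  have hmemW : ∀ (h : H) (w : W), (⟨_, hmem h w⟩ : V) ∈ W := fun h w => by
    apply Subtype.ext
    change ((h : L) * ((w : V) : L) * (h : L)⁻¹) ^ q = 1
    have : ((w : V) : L) ^ q = 1 := congrArg Subtype.val w.2
    rw [conj_pow, this, mul_one, mul_inv_cancel]
  let conjW : H → W → W := fun h w => ⟨⟨_, hmem h w⟩, hmemW h w⟩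
  have hval : ∀ h w, (((conjW h w : W) : V) : L) = (h : L) * ((w : V) : L) * (h : L)⁻¹ :=
    fun _ _ => rfl
  have hext : ∀ {a b : W}, ((a : V) : L) = ((b : V) : L) → a = b := fun h => Subtype.ext (Subtype.ext h)
  have h1 : ∀ w, conjW 1 w = w := fun w => hext (by rw [hval]; simp)
  have hm : ∀ h k w, conjW (h * k) w = conjW h (conjW k w) := fun h k w =>
    hext (by rw [hval, hval, hval, Subgroup.coe_mul]; group)
  let ψ : H →* MulAut W := MonoidHom.mk'
    (fun h =>
      { toFun := conjW h
        invFun := conjW h⁻¹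
        left_inv := fun w => by rw [← hm, inv_mul_cancel, h1]
        right_inv := fun w => by rw [← hm, mul_inv_cancel, h1]
        map_mul' := fun a b => hext (by
          rw [hval, Subgroup.coe_mul, Subgroup.coe_mul, Subgroup.coe_mul, Subgroup.coe_mul, hval, hval]
          group) })
    (fun h k => MulEquiv.ext fun w => hm h k w)
  refine exists_fpf_of_mulAut q hexp (ψ.comp f) fun g hg a ha => ?_
  apply hext
  have h5 : (f g : L) * ((a : V) : L) * (f g : L)⁻¹ = ((a : V) : L) :=
    (hval (f g) a).symm.trans (congrArg (fun w : W => ((w : V) : L)) ha)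
  have h4 : ((a : V) : L) ∈ V ⊓ Subgroup.centralizer {(f g : L)} :=
    ⟨(a : V).2, Subgroup.mem_centralizer_singleton_iff.mpr (mul_inv_eq_iff_eq_mul.mp h5).symm⟩
  rw [hfpf _ (f g).2 (fun h => hg (hf (by rw [map_one]; exact Subtype.ext h))), Subgroup.mem_bot] at h4
  exact h4

theorem exists_one_add_pow {R : Type*} [Ring R] (a : R) (n : ℕ) :
    ∃ S : R, (1 + a) ^ n = 1 + n • a + a * a * S := by
  induction n with
  | zero => exact ⟨0, by simp⟩
  | succ n ih =>
    obtain ⟨S, hS⟩ := ih
    refine ⟨(n : R) + S * (1 + a), ?_⟩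
    rw [pow_succ, hS]
    simp only [nsmul_eq_mul, Nat.cast_add, Nat.cast_one, mul_add, add_mul, mul_one, one_mul, mul_assoc]
    rw [← mul_assoc a a (n : R), ← (Nat.cast_commute n (a * a)).eq, ← mul_assoc]
    simp only [mul_assoc]
    abel

theorem one_add_mul_pow_prime {R : Type*} [Ring R] (q : ℕ) (j : ℕ) (hj : 1 ≤ j) (B : R) :
    ∃ C : R, (1 + ((q ^ j : ℕ) : R) * B) ^ q = 1 + ((q ^ (j + 1) : ℕ) : R) * C := by
  obtain ⟨S, hS⟩ := exists_one_add_pow (((q ^ j : ℕ) : R) * B) q
  refine ⟨B + ((q ^ (j - 1) : ℕ) : R) * (B * B * S), ?_⟩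
  rw [hS, nsmul_eq_mul, ← mul_assoc (q : R), ← Nat.cast_mul, show q * q ^ j = q ^ (j + 1) from (pow_succ' q j).symm,
    mul_add, ← mul_assoc ((q ^ (j + 1) : ℕ) : R) ((q ^ (j - 1) : ℕ) : R), ← Nat.cast_mul, ← pow_add,
    show j + 1 + (j - 1) = j + j by omega, pow_add q j j, Nat.cast_mul]
  have hcm : Commute ((q ^ j : ℕ) : R) B := Nat.cast_commute _ _
  have h : ((q ^ j : ℕ) : R) * B * (((q ^ j : ℕ) : R) * B) = ((q ^ j : ℕ) : R) * ((q ^ j : ℕ) : R) * (B * B) := by
    rw [mul_assoc, ← mul_assoc B, hcm.eq.symm]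
    simp only [mul_assoc]
  rw [h]
  simp only [mul_assoc, add_assoc]

/-- Matrices over `ZMod (q ^ (k+1))` vanishing modulo `q` are multiples of `q`. -/
theorem exists_eq_q_mul (q k d : ℕ) [Fact q.Prime]
    (A : Matrix (Fin d) (Fin d) (ZMod (q ^ (k + 1))))
    (hA : A.map (ZMod.castHom (dvd_pow_self q (Nat.succ_ne_zero k)) (ZMod q)) = 0) :
    ∃ B, A = ((q : ℕ) : Matrix (Fin d) (Fin d) (ZMod (q ^ (k + 1)))) * B := by
  have hq : q ≠ 0 := (Fact.out : q.Prime).ne_zero
  have : NeZero (q ^ (k + 1)) := ⟨pow_ne_zero _ hq⟩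
  refine ⟨A.map (fun x => ((x.val / q : ℕ) : ZMod (q ^ (k + 1)))), ?_⟩
  ext i j
  rw [← nsmul_eq_mul, Matrix.smul_apply, Matrix.map_apply, nsmul_eq_mul, ← Nat.cast_mul]
  have h0 : ((A i j).val : ZMod q) = 0 := by
    have := congrFun (congrFun hA i) j
    rw [Matrix.map_apply, Matrix.zero_apply, ZMod.castHom_apply] at this
    rwa [← ZMod.cast_eq_val]
  rw [ZMod.natCast_eq_zero_iff] at h0
  rw [Nat.mul_div_cancel' h0, ZMod.natCast_zmod_val]

/-- Coprime lifting of a representation from `ZMod q` to `ZMod (q ^ (k+1))`. -/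
theorem exists_lift {G : Type*} [Group G] [Finite G] (q k d : ℕ) [Fact q.Prime]
    (hq : ¬ q ∣ Nat.card G) (ρ : G →* GL (Fin d) (ZMod q)) :
    ∃ σ : G →* GL (Fin d) (ZMod (q ^ (k + 1))),
      ∀ g, (σ g : Matrix (Fin d) (Fin d) (ZMod (q ^ (k + 1)))).map
          (ZMod.castHom (dvd_pow_self q (Nat.succ_ne_zero k)) (ZMod q)) = (ρ g : Matrix _ _ (ZMod q)) := by
  classical
  have hq0 : q ≠ 0 := (Fact.out : q.Prime).ne_zero
  have : NeZero (q ^ (k + 1)) := ⟨pow_ne_zero _ hq0⟩
  let c := ZMod.castHom (dvd_pow_self q (Nat.succ_ne_zero k)) (ZMod q)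
  let Φ : GL (Fin d) (ZMod (q ^ (k + 1))) →* GL (Fin d) (ZMod q) :=
    Units.map (c.mapMatrix (m := Fin d)).toMonoidHom
  have hsurjc : Function.Surjective c := ZMod.castHom_surjective _
  -- the kernel is a q-group
  have hker : IsPGroup q Φ.ker := by
    intro x
    refine ⟨k, ?_⟩
    obtain ⟨B, hB⟩ := exists_eq_q_mul q k d
      ((x.1 : GL (Fin d) (ZMod (q ^ (k + 1)))).val - 1) (by
      have h1 : c.mapMatrix (x.1 : GL (Fin d) (ZMod (q ^ (k + 1)))).val = 1 := congrArg Units.val x.2
      change c.mapMatrix _ = 0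
      rw [map_sub, map_one, h1, sub_self])
    have hind : ∀ j, ∃ C, ((x.1 : GL _ _) : Matrix (Fin d) (Fin d) (ZMod (q ^ (k + 1)))) ^ (q ^ j) =
        1 + ((q ^ (j + 1) : ℕ) : Matrix _ _ _) * C := by
      intro j
      induction j with
      | zero => exact ⟨B, by rw [pow_zero, pow_one, zero_add, pow_one, ← hB]; abel⟩
      | succ j ih =>
        obtain ⟨C, hC⟩ := ih
        obtain ⟨C', hC'⟩ := one_add_mul_pow_prime q (j + 1) (by omega) C
        exact ⟨C', by rw [pow_succ q j, pow_mul, hC, hC']⟩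
    obtain ⟨C, hC⟩ := hind k
    apply Subtype.ext
    apply Units.ext
    rw [SubmonoidClass.coe_pow, Units.val_pow_eq_pow_val, hC]
    have : ((q ^ (k + 1) : ℕ) : Matrix (Fin d) (Fin d) (ZMod (q ^ (k + 1)))) = 0 := by
      rw [← map_natCast (Matrix.scalar (Fin d)), ZMod.natCast_self, map_zero]
    rw [this, zero_mul, add_zero]
    rfl
  have hsurj : Function.Surjective Φ := by
    intro y
    obtain ⟨A, hA⟩ : ∃ A : Matrix (Fin d) (Fin d) (ZMod (q ^ (k + 1))), c.mapMatrix A = y.1 :=
      ⟨Matrix.of fun i j => Function.surjInv hsurjc (y.1 i j),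
        Matrix.ext fun i j => Function.surjInv_eq hsurjc _⟩
    obtain ⟨A', hA'⟩ : ∃ A : Matrix (Fin d) (Fin d) (ZMod (q ^ (k + 1))), c.mapMatrix A = (y⁻¹).1 :=
      ⟨Matrix.of fun i j => Function.surjInv hsurjc ((y⁻¹).1 i j),
        Matrix.ext fun i j => Function.surjInv_eq hsurjc _⟩
    have hu : IsUnit (A * A') := by
      obtain ⟨B, hB⟩ := exists_eq_q_mul q k d (1 - A * A') (by
        change c.mapMatrix _ = 0
        rw [map_sub, map_one, map_mul, hA, hA', ← Units.val_mul, mul_inv_cancel, Units.val_one, sub_self])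
      have hnil : IsNilpotent (1 - A * A') := by
        refine ⟨k + 1, ?_⟩
        rw [hB, (Nat.cast_commute q B).mul_pow, ← Nat.cast_pow,
          ← map_natCast (Matrix.scalar (Fin d)), ZMod.natCast_self, map_zero, zero_mul]
      simpa using hnil.isUnit_one_sub
    have hAu : IsUnit A := by
      rw [Matrix.isUnit_iff_isUnit_det, Matrix.det_mul] at *
      exact isUnit_of_mul_isUnit_left hu
    exact ⟨hAu.unit, Units.ext hA⟩
  let P := ρ.range.comap Φ
  let N := Φ.ker.subgroupOf P
  have hle : Φ.ker ≤ P := fun x hx => by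
    change Φ x ∈ ρ.range
    rw [hx]
    exact ρ.range.one_mem
  have hidx : N.index = Nat.card ρ.range := by
    have h1 : (Φ.subgroupComap ρ.range).ker = N := by
      ext x
      change Φ.subgroupComap ρ.range x = 1 ↔ Φ x.1 = 1
      rw [Subtype.ext_iff]
      rfl
    rw [← h1, Subgroup.index_ker]
    refine Nat.card_congr ((Equiv.setCongr ?_).trans (Equiv.Set.univ _))
    exact Set.range_eq_univ.mpr fun y => by
      obtain ⟨x, hx⟩ := hsurj y.1
      exact ⟨⟨x, show Φ x ∈ ρ.range from hx ▸ y.2⟩, Subtype.ext hx⟩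
  have hcop : (Nat.card N).Coprime N.index := by
    obtain ⟨j, hj⟩ := IsPGroup.iff_card.mp hker
    rw [hidx, Nat.card_congr (Subgroup.subgroupOfEquivOfLe hle).toEquiv, hj]
    refine Nat.Coprime.pow_left _ (((Fact.out : q.Prime).coprime_iff_not_dvd).mpr fun h => hq ?_)
    exact h.trans (Subgroup.card_range_dvd ρ)
  have hNn : N.Normal := inferInstance
  obtain ⟨C, hC⟩ := Subgroup.exists_right_complement'_of_coprime hcop
  have hbij : Function.Bijective ((Φ.subgroupComap ρ.range).comp C.subtype) := by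
    constructor
    · rw [injective_iff_map_eq_one]
      intro x hx
      have h1 : (x : P) ∈ N ⊓ C := ⟨show Φ x.1.1 = 1 from congrArg Subtype.val hx, x.2⟩
      rw [hC.disjoint.eq_bot] at h1
      exact Subtype.ext h1
    · intro y
      obtain ⟨x, hx⟩ := hsurj y.1
      have hxP : x ∈ P := show Φ x ∈ ρ.range from hx ▸ y.2
      obtain ⟨⟨n, c0⟩, hnc, -⟩ := hC.existsUnique (⟨x, hxP⟩ : P)
      refine ⟨c0, Subtype.ext ?_⟩
      have h2 : Φ (n : P).1 * Φ (c0 : P).1 = y.1 := by
        rw [← map_mul, ← hx]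
        exact congrArg (fun z : P => Φ z.1) hnc
      rw [show Φ (n : P).1 = 1 from n.2, one_mul] at h2
      exact h2
  let e := MulEquiv.ofBijective _ hbij
  refine ⟨P.subtype.comp (C.subtype.comp (e.symm.toMonoidHom.comp ρ.rangeRestrict)), fun g => ?_⟩
  have h1 := e.apply_symm_apply (ρ.rangeRestrict g)
  exact congrArg (fun z : ρ.range => (z.1 : GL (Fin d) (ZMod q)).val) h1

/-- A fixed-point-free representation in coprime characteristic gives an irreducible
fixed-point-free (hence faithful) representation over the algebraic closure of `ℚ`. -/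
theorem exists_fpf_qbar {G : Type*} [Group G] [Finite G] (q : ℕ) [Fact q.Prime] (hq : ¬ q ∣ Nat.card G)
    (d : ℕ) (hd : 0 < d) (ρ₀ : G →* GL (Fin d) (ZMod q))
    (hρ₀ : ∀ g, g ≠ 1 → ∀ v : Fin d → ZMod q,
      (ρ₀ g : Matrix (Fin d) (Fin d) (ZMod q)).mulVec v = v → v = 0) :
    ∃ (n : ℕ) (ρ : G →* GL (Fin n) (AlgebraicClosure ℚ)), 0 < n ∧ Function.Injective ρ ∧
      (∀ W : Submodule (AlgebraicClosure ℚ) (Fin n → AlgebraicClosure ℚ),
        (∀ g : G, ∀ w ∈ W, ((ρ g : GL (Fin n) (AlgebraicClosure ℚ)) : Matrix (Fin n) (Fin n) (AlgebraicClosure ℚ)).mulVec w ∈ W) → W = ⊥ ∨ W = ⊤) ∧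
      ∀ g : G, g ≠ 1 → ∀ v : Fin n → AlgebraicClosure ℚ,
        ((ρ g : GL (Fin n) (AlgebraicClosure ℚ)) : Matrix (Fin n) (Fin n) (AlgebraicClosure ℚ)).mulVec v = v → v = 0 := by
  classical
  have : Fintype G := Fintype.ofFinite G
  -- cyclic sums
  let eZ : G → MonoidAlgebra ℤ G := fun g =>
    ∑ i ∈ Finset.range (orderOf g), MonoidAlgebra.of ℤ G (g ^ i)
  let cast : MonoidAlgebra ℤ G →+* MonoidAlgebra ℚ G :=
    MonoidAlgebra.mapRingHom G (Int.castRingHom ℚ)
  let S : Submodule ℚ (MonoidAlgebra ℚ G) := Submodule.span ℚ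
    {r | ∃ x g y : G, g ≠ 1 ∧ r = cast (MonoidAlgebra.of ℤ G x * eZ g * MonoidAlgebra.of ℤ G y)}
  have hofc : ∀ x : G, cast (MonoidAlgebra.of ℤ G x) = MonoidAlgebra.of ℚ G x := by
    intro x
    simp [cast]
  have hne : (1 : MonoidAlgebra ℚ G) ∉ S := by
    intro h1
    have hden : ∀ r ∈ S, ∃ m : ℕ, m ≠ 0 ∧ ∃ s ∈ Submodule.span ℤ {r : MonoidAlgebra ℤ G |
        ∃ x g y : G, g ≠ 1 ∧ r = MonoidAlgebra.of ℤ G x * eZ g * MonoidAlgebra.of ℤ G y},
        cast s = m • r := by
      intro r hr
      induction hr using Submodule.span_induction with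
      | mem r hr =>
        obtain ⟨x, g, y, hg, rfl⟩ := hr
        exact ⟨1, one_ne_zero, _, Submodule.subset_span ⟨x, g, y, hg, rfl⟩, (one_smul _ _).symm⟩
      | zero => exact ⟨1, one_ne_zero, 0, Submodule.zero_mem _, by simp⟩
      | add a b _ _ iha ihb =>
        obtain ⟨m, hm, s, hs, hsa⟩ := iha
        obtain ⟨n, hn, t, ht, htb⟩ := ihb
        refine ⟨m * n, Nat.mul_ne_zero hm hn, n • s + m • t,
          Submodule.add_mem _ (Submodule.smul_of_tower_mem _ n hs) (Submodule.smul_of_tower_mem _ m ht), ?_⟩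
        rw [map_add, map_nsmul, map_nsmul, hsa, htb, smul_add, smul_smul, smul_smul, mul_comm n m]
      | smul c a _ iha =>
        obtain ⟨m, hm, s, hs, hsa⟩ := iha
        refine ⟨c.den * m, Nat.mul_ne_zero c.den_nz hm, c.num • s, Submodule.smul_mem _ _ hs, ?_⟩
        rw [map_zsmul, hsa, ← Nat.cast_smul_eq_nsmul ℚ, ← Nat.cast_smul_eq_nsmul ℚ,
          ← Int.cast_smul_eq_zsmul ℚ, smul_smul, smul_smul]
        congr 1
        push_cast
        rw [show (c.den : ℚ) * m * c = m * (c * c.den) by ring, Rat.mul_den_eq_num]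
        ring
    obtain ⟨m, hm, s, hs, hsm⟩ := hden 1 h1
    have hinjc : Function.Injective cast := by
      intro a b hab
      ext x
      have := congrArg (fun z => z.coeff x) hab
      simpa [cast] using this
    have hs' : s = (m : MonoidAlgebra ℤ G) := by
      apply hinjc
      rw [hsm, map_natCast, nsmul_one]
    -- reduce modulo a high power of q
    obtain ⟨σ, hσ⟩ := exists_lift q m d hq ρ₀
    let R := Matrix (Fin d) (Fin d) (ZMod (q ^ (m + 1)))
    let σ' : G →* R := (Units.coeHom R).comp σ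
    let Λ : MonoidAlgebra ℤ G →+* R := MonoidAlgebra.liftNCRingHom (Int.castRingHom R) σ' (fun a b => Int.cast_commute a _)
    have hΛof : ∀ x, Λ (MonoidAlgebra.of ℤ G x) = σ' x := by
      intro x
      simp [Λ]
    have hE : ∀ g : G, g ≠ 1 → Λ (eZ g) = 0 := by
      intro g hg
      set E : R := ∑ i ∈ Finset.range (orderOf g), σ' g ^ i with hEdef
      have hΛE : Λ (eZ g) = E := by
        simp only [eZ, map_sum, hΛof, map_pow, hEdef]
      have hpow : σ' g ^ orderOf g = 1 := by rw [← map_pow, pow_orderOf_eq_one, map_one]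
      have hgE : σ' g * E = E := by
        have h := mul_geom_sum (σ' g) (orderOf g)
        rw [hpow, sub_self, sub_mul, one_mul, sub_eq_zero] at h
        exact h
      have hiE : ∀ i, σ' g ^ i * E = E := by
        intro i
        induction i with
        | zero => rw [pow_zero, one_mul]
        | succ i ih => rw [pow_succ (σ' g) i, mul_assoc, hgE, ih]
      have hEE : E * E = (orderOf g : R) * E := by
        calc E * E = ∑ i ∈ Finset.range (orderOf g), σ' g ^ i * E := Finset.sum_mul ..
          _ = _ := by simp [hiE]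
      let c := ZMod.castHom (dvd_pow_self q (Nat.succ_ne_zero m)) (ZMod q)
      have hE0 : c.mapMatrix E = 0 := by
        have hmod : c.mapMatrix E = ∑ i ∈ Finset.range (orderOf g), (ρ₀ g : Matrix _ _ (ZMod q)) ^ i := by
          rw [hEdef, map_sum]
          refine Finset.sum_congr rfl fun i _ => ?_
          rw [map_pow]
          exact congrArg (· ^ i) (hσ g)
        rw [hmod]
        apply Matrix.toLin'.injective
        rw [map_zero]
        apply LinearMap.ext
        intro v
        rw [Matrix.toLin'_apply, LinearMap.zero_apply]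
        refine hρ₀ g hg _ ?_
        rw [Matrix.mulVec_mulVec]
        congr 1
        have h := mul_geom_sum (ρ₀ g : Matrix (Fin d) (Fin d) (ZMod q)) (orderOf g)
        rw [← Units.val_pow_eq_pow_val, ← map_pow, pow_orderOf_eq_one, map_one, Units.val_one,
          sub_self, sub_mul, one_mul, sub_eq_zero] at h
        exact h
      obtain ⟨B, hB⟩ := exists_eq_q_mul q m d E hE0
      have hpowE : ∀ i : ℕ, E ^ (i + 1) = ((orderOf g ^ i : ℕ) : R) * E := by
        intro i
        induction i with
        | zero => rw [zero_add, pow_one, pow_zero, Nat.cast_one, one_mul]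
        | succ i ih =>
          rw [pow_succ E (i + 1), ih, mul_assoc, hEE, ← mul_assoc, pow_succ (orderOf g) i, Nat.cast_mul]
      have hzero : E ^ (m + 1) = 0 := by
        rw [hB, (Nat.cast_commute q B).mul_pow, ← Nat.cast_pow]
        have : ((q ^ (m + 1) : ℕ) : R) = 0 := by
          rw [← map_natCast (Matrix.scalar (Fin d)), ZMod.natCast_self, map_zero]
        rw [this, zero_mul]
      rw [hpowE] at hzero
      have hunit : IsUnit ((orderOf g ^ m : ℕ) : ZMod (q ^ (m + 1))) := by
        rw [ZMod.isUnit_iff_coprime]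
        refine Nat.Coprime.pow _ _ (Nat.Coprime.symm ((Fact.out : q.Prime).coprime_iff_not_dvd.mpr ?_))
        exact fun h => hq (h.trans (orderOf_dvd_natCard g))
      have hunit' : IsUnit ((orderOf g ^ m : ℕ) : R) := by
        have := hunit.map (Matrix.scalar (Fin d))
        rwa [map_natCast] at this
      rw [hΛE]
      exact hunit'.mul_right_eq_zero.mp hzero
    have hΛs : Λ s = 0 := by
      clear hsm hs'
      induction hs using Submodule.span_induction with
      | mem r hr =>
        obtain ⟨x, g, y, hg, rfl⟩ := hr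
        rw [map_mul, map_mul, hE g hg, mul_zero, zero_mul]
      | zero => exact map_zero _
      | add a b _ _ iha ihb => rw [map_add, iha, ihb, add_zero]
      | smul c a _ iha => rw [map_zsmul, iha, smul_zero]
    rw [hs', map_natCast] at hΛs
    have h0 : ((m : ℕ) : ZMod (q ^ (m + 1))) = 0 := by
      have := congrFun (congrFun hΛs ⟨0, hd⟩) ⟨0, hd⟩
      rwa [← map_natCast (Matrix.scalar (Fin d)), Matrix.scalar_apply, Matrix.diagonal_apply_eq] at this
    rw [ZMod.natCast_eq_zero_iff] at h0
    have h1 := Nat.le_of_dvd (Nat.pos_of_ne_zero hm) h0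
    have h2 : m + 1 < q ^ (m + 1) := (m + 1).lt_pow_self (Fact.out : q.Prime).one_lt
    omega
  -- the quotient representation over ℚ
  have hSinv : ∀ h : G, ∀ r ∈ S, MonoidAlgebra.of ℚ G h * r ∈ S := by
    intro h r hr
    induction hr using Submodule.span_induction with
    | mem r hr =>
      obtain ⟨x, g, y, hg, rfl⟩ := hr
      refine Submodule.subset_span ⟨h * x, g, y, hg, ?_⟩
      simp only [map_mul, ← hofc, mul_assoc]
    | zero => simp
    | add a b _ _ iha ihb => rw [mul_add]; exact S.add_mem iha ihb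
    | smul c a _ iha => rw [mul_smul_comm]; exact S.smul_mem c iha
  let act : G →* Module.End ℚ (MonoidAlgebra ℚ G ⧸ S) :=
    { toFun := fun g => S.mapQ S (LinearMap.mulLeft ℚ (MonoidAlgebra.of ℚ G g)) (fun r hr => hSinv g r hr)
      map_one' := by
        ext x
        simp
      map_mul' := fun a b => by
        apply Submodule.linearMap_qext
        ext x
        simp [mul_assoc] }
  have hnt : Nontrivial (MonoidAlgebra ℚ G ⧸ S) := Submodule.Quotient.nontrivial_iff.mpr
    fun h => hne (h ▸ Submodule.mem_top)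
  have hsum : ∀ g : G, g ≠ 1 → ∑ i ∈ Finset.range (orderOf g), act g ^ i = 0 := by
    intro g hg
    apply Submodule.linearMap_qext
    apply LinearMap.ext
    intro r
    rw [LinearMap.comp_apply, LinearMap.sum_apply]
    have hterm : ∀ i, (act g ^ i) (S.mkQ r) = S.mkQ (MonoidAlgebra.of ℚ G (g ^ i) * r) := by
      intro i
      rw [← map_pow]
      rfl
    rw [Finset.sum_congr rfl fun i _ => hterm i, ← map_sum, ← Finset.sum_mul, LinearMap.zero_comp,
      LinearMap.zero_apply, Submodule.mkQ_apply, Submodule.Quotient.mk_eq_zero]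
    clear hterm
    induction r using MonoidAlgebra.induction_on with
    | of y =>
      refine Submodule.subset_span ⟨1, g, y, hg, ?_⟩
      simp only [eZ, map_mul, map_sum, hofc, map_one, one_mul, Finset.sum_mul]
    | add a b iha ihb => rw [mul_add]; exact S.add_mem iha ihb
    | smul c a iha => rw [mul_smul_comm]; exact S.smul_mem c iha
  -- extend to the algebraic closure
  let K := AlgebraicClosure ℚ
  let b := Module.finBasis ℚ (MonoidAlgebra ℚ G ⧸ S)
  let N := Module.finrank ℚ (MonoidAlgebra ℚ G ⧸ S)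
  have hN : 0 < N := Module.finrank_pos
  let M : G →* Module.End K (Fin N → K) :=
    ((Matrix.toLinAlgEquiv' (R := K)).toRingEquiv.toRingHom.comp
      ((algebraMap ℚ K).mapMatrix.comp (LinearMap.toMatrixAlgEquiv b).toRingEquiv.toRingHom)).toMonoidHom.comp act
  have hM0 : ∀ g : G, g ≠ 1 → ∀ v, M g v = v → v = 0 := by
    intro g hg v hv
    have h1 : ∑ i ∈ Finset.range (orderOf g), M g ^ i = 0 := by
      rw [show (0 : Module.End K (Fin N → K)) = _ from (map_zero ((Matrix.toLinAlgEquiv' (R := K)).toRingEquiv.toRingHom.comp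
        ((algebraMap ℚ K).mapMatrix.comp (LinearMap.toMatrixAlgEquiv b).toRingEquiv.toRingHom))).symm,
        ← hsum g hg, map_sum]
      refine Finset.sum_congr rfl fun i _ => ?_
      rw [map_pow]
      rfl
    have h2 := LinearMap.congr_fun h1 v
    rw [LinearMap.sum_apply] at h2
    have h3 : ∀ i, (M g ^ i) v = v := by
      intro i
      induction i with
      | zero => rfl
      | succ i ih => rw [pow_succ, Module.End.mul_apply, hv, ih]
    simp only [h3, Finset.sum_const, Finset.card_range, LinearMap.zero_apply] at h2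
    rw [← Nat.cast_smul_eq_nsmul K] at h2
    exact (smul_eq_zero.mp h2).resolve_left (Nat.cast_ne_zero.mpr (orderOf_pos g).ne')
  -- choose a minimal invariant subspace
  let P : Submodule K (Fin N → K) → Prop := fun W => W ≠ ⊥ ∧ ∀ g, ∀ w ∈ W, M g w ∈ W
  have hP : P ⊤ := by
    refine ⟨?_, fun _ _ _ => Submodule.mem_top⟩
    have : Nonempty (Fin N) := ⟨⟨0, hN⟩⟩
    exact top_ne_bot
  obtain ⟨W, hW, hWmin⟩ := wellFounded_lt.has_min {W | P W} ⟨⊤, hP⟩
  let MW : G →* Module.End K W :=
    { toFun := fun g => (M g).restrict (hW.2 g)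
      map_one' := by
        ext w : 1
        apply Subtype.ext
        simp
      map_mul' := fun a c => by
        ext w : 1
        apply Subtype.ext
        simp }
  let bW := Module.finBasis K W
  let ρ : G →* Matrix (Fin (Module.finrank K W)) (Fin (Module.finrank K W)) K :=
    (LinearMap.toMatrixAlgEquiv bW).toRingEquiv.toRingHom.toMonoidHom.comp MW
  have hWnt : Nontrivial W := Submodule.nontrivial_iff_ne_bot.mpr hW.1
  have hρv : ∀ g v, (ρ g).mulVec v = bW.equivFun (MW g (bW.equivFun.symm v)) := by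
    intro g v
    have h2 := LinearMap.toMatrix_mulVec_repr bW bW (MW g) (bW.equivFun.symm v)
    have h3 : (bW.repr (bW.equivFun.symm v) : _ → K) = v := bW.equivFun.apply_symm_apply v
    rw [h3] at h2
    exact h2
  have hfix : ∀ g : G, g ≠ 1 → ∀ v, (ρ g).mulVec v = v → v = 0 := by
    intro g hg v hv
    rw [hρv] at hv
    have h1 : MW g (bW.equivFun.symm v) = bW.equivFun.symm v :=
      bW.equivFun.injective (hv.trans (bW.equivFun.apply_symm_apply v).symm)
    have h2 := hM0 g hg _ (congrArg Subtype.val h1)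
    rw [← bW.equivFun.apply_symm_apply v, show bW.equivFun.symm v = 0 from Subtype.ext h2, map_zero]
  refine ⟨_, ρ.toHomUnits, Module.finrank_pos, ?_, ?_, hfix⟩
  · rw [injective_iff_map_eq_one]
    intro g hg
    by_contra h
    have : Nonempty (Fin (Module.finrank K W)) := ⟨⟨0, Module.finrank_pos⟩⟩
    obtain ⟨v, hv⟩ := exists_ne (0 : Fin (Module.finrank K W) → K)
    refine hv (hfix g h v ?_)
    have : ρ g = 1 := congrArg Units.val hg
    rw [this, Matrix.one_mulVec]
  · intro U hU
    let U' : Submodule K (Fin N → K) := (U.comap bW.equivFun.toLinearMap).map W.subtype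
    by_cases hbot : U' = ⊥
    · left
      rw [Submodule.eq_bot_iff]
      intro u hu
      have h1 : ((bW.equivFun.symm u : W) : Fin N → K) ∈ U' :=
        Submodule.mem_map_of_mem (show bW.equivFun (bW.equivFun.symm u) ∈ U by
          rwa [LinearEquiv.apply_symm_apply])
      rw [hbot, Submodule.mem_bot] at h1
      rw [← bW.equivFun.apply_symm_apply u, show bW.equivFun.symm u = 0 from Subtype.ext h1, map_zero]
    · right
      have hU' : P U' := by
        refine ⟨hbot, ?_⟩
        rintro g _ ⟨w, hw, rfl⟩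
        refine ⟨MW g w, ?_, rfl⟩
        have h1 := hU g _ hw
        change bW.equivFun (MW g w) ∈ U
        have h2 := hρv g (bW.equivFun w)
        rw [LinearEquiv.symm_apply_apply] at h2
        rw [← h2]
        exact h1
      have hUW : U' = W := (Submodule.map_subtype_le W _).eq_of_not_lt (hWmin U' hU')
      rw [Submodule.eq_top_iff']
      intro u
      have h1 : ((bW.equivFun.symm u : W) : Fin N → K) ∈ U' := by
        rw [hUW]; exact (bW.equivFun.symm u).2
      obtain ⟨w, hw, hwu⟩ := h1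
      have hw' : bW.equivFun w ∈ U := hw
      rwa [show w = bW.equivFun.symm u from Subtype.ext hwu, LinearEquiv.apply_symm_apply] at hw'

end CfsgLib.Frobenius
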