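import Cfsg.Agent.Lib.Frobenius.TwistedAlgebra
import Mathlib

/-!
An operator of prime order on a module of a class-two group permuting the cosets of the centre
freely and having no eigenvalue one.
-/

set_option autoImplicit false
set_option linter.style.haveILetI false

open scoped commutatorElement

namespace CfsgLib.Twisted

variable {Q : Type*} [Group Q]

/-- The commutator with a fixed element in a group of class two. -/
def pairHom (hcl : ∀ u d : Q, ⁅u, d⁆ ∈ Subgroup.center Q) (x : Q) : Q →* commutator Q where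
  toFun y := ⟨⁅x, y⁆, Subgroup.commutator_mem_commutator (Subgroup.mem_top _) (Subgroup.mem_top _)⟩
  map_one' := Subtype.ext (commutatorElement_one_right x)
  map_mul' := fun y y' => by
    apply Subtype.ext
    show ⁅x, y * y'⁆ = ⁅x, y⁆ * ⁅x, y'⁆
    have h2 : y * ⁅x, y'⁆ = ⁅x, y'⁆ * y := Subgroup.mem_center_iff.mp (hcl x y') y
    have h3 : ⁅x, y * y'⁆ = ⁅x, y⁆ * (y * ⁅x, y'⁆) * y⁻¹ := by
      simp only [commutatorElement_def]; group
    rw [h3, h2, ← mul_assoc, mul_inv_cancel_right]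

theorem index_center_aux [Finite Q] {q : ℕ} [hq : Fact q.Prime]
    (hcl : ∀ u d : Q, ⁅u, d⁆ ∈ Subgroup.center Q) (hQ : Nat.card (commutator Q) = q) :
    ∀ (d : ℕ) (H : Subgroup Q), Nat.card H ≤ d → Subgroup.center Q ≤ H →
      H ⊓ Subgroup.centralizer (H : Set Q) ≤ Subgroup.center Q →
      ∃ k : ℕ, Nat.card H = Nat.card (Subgroup.center Q) * q ^ (2 * k) := by
  intro d
  induction d with
  | zero =>
    intro H hd
    have := Nat.card_pos (α := H)
    omega
  | succ d ih =>
  intro H hd hZH hH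
  by_cases hHZ : H ≤ Subgroup.center Q
  · exact ⟨0, by rw [le_antisymm hHZ hZH]; simp⟩
  obtain ⟨x, hx, hxZ⟩ := SetLike.not_le_iff_exists.mp hHZ
  obtain ⟨y, hy, hxy⟩ : ∃ y ∈ H, ⁅x, y⁆ ≠ 1 := by
    by_contra hc
    push Not at hc
    refine hxZ (hH ⟨hx, Subgroup.mem_centralizer_iff.mpr fun y hy => ?_⟩)
    exact ((commutatorElement_eq_one_iff_mul_comm).mp (hc y hy)).symm
  have h1 : pairHom hcl x y ≠ 1 := fun e => hxy (congrArg Subtype.val e)
  have h2 : pairHom hcl y x ≠ 1 := fun e => hxy (by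
    have e' : ⁅y, x⁆ = 1 := congrArg Subtype.val e
    rw [← commutatorElement_inv, e', inv_one])
  have hpow : ∀ {z : commutator Q}, z ≠ 1 → ∀ w : commutator Q, ∃ k : ℤ, z ^ k = w := fun hz w =>
    Subgroup.mem_zpowers_iff.mp (mem_zpowers_of_prime_card (p := q) hQ hz)
  have hxx : pairHom hcl x x = 1 := Subtype.ext (commutatorElement_self x)
  have hyy : pairHom hcl y y = 1 := Subtype.ext (commutatorElement_self y)
  let f : H →* commutator Q × commutator Q := ((pairHom hcl x).prod (pairHom hcl y)).comp H.subtype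
  have hf : Function.Surjective f := by
    rintro ⟨a, b⟩
    obtain ⟨i, hi⟩ := hpow h1 a
    obtain ⟨j, hj⟩ := hpow h2 b
    refine ⟨⟨y, hy⟩ ^ i * ⟨x, hx⟩ ^ j, ?_⟩
    simp [f, map_mul, map_zpow, hi, hj, hxx, hyy]
  let K : Subgroup Q := f.ker.map H.subtype
  have hK : ∀ g, g ∈ K ↔ g ∈ H ∧ ⁅x, g⁆ = 1 ∧ ⁅y, g⁆ = 1 := by
    intro g
    constructor
    · rintro ⟨g, hg, rfl⟩
      have := MonoidHom.mem_ker.mp hg
      exact ⟨g.2, congrArg (fun t => ((t.1 : commutator Q) : Q)) this,
        congrArg (fun t => ((t.2 : commutator Q) : Q)) this⟩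
    · rintro ⟨hg, h1, h2⟩
      exact ⟨⟨g, hg⟩, MonoidHom.mem_ker.mpr (Prod.ext (Subtype.ext h1) (Subtype.ext h2)), rfl⟩
  have hKH : K ≤ H := fun g hg => ((hK g).mp hg).1
  have hZK : Subgroup.center Q ≤ K := fun z hz =>
    (hK z).mpr ⟨hZH hz, commutatorElement_eq_one_iff_mul_comm.mpr (Subgroup.mem_center_iff.mp hz x),
      commutatorElement_eq_one_iff_mul_comm.mpr (Subgroup.mem_center_iff.mp hz y)⟩
  have hcard : Nat.card H = q ^ 2 * Nat.card K := by
    rw [Subgroup.card_eq_card_quotient_mul_card_subgroup f.ker,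
      Nat.card_congr (QuotientGroup.quotientKerEquivOfSurjective f hf).toEquiv, Nat.card_prod, hQ,
      Nat.card_congr (Subgroup.equivMapOfInjective f.ker _ H.subtype_injective).toEquiv]
    ring
  have hKlt : Nat.card K ≤ d := by
    have h2 : 4 ≤ q ^ 2 := by nlinarith [hq.out.two_le]
    have h3 : 0 < Nat.card K := Nat.card_pos
    nlinarith
  have hKc : K ⊓ Subgroup.centralizer (K : Set Q) ≤ Subgroup.center Q := by
    rintro k ⟨hk, hkc⟩
    obtain ⟨hkH, hkx, hky⟩ := (hK k).mp hk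
    refine hH ⟨hkH, Subgroup.mem_centralizer_iff.mpr fun g hg => ?_⟩
    obtain ⟨i, hi⟩ := hpow h1 (pairHom hcl x g)
    obtain ⟨j, hj⟩ := hpow h2 (pairHom hcl y g)
    have hrest : g * (y ^ i * x ^ j)⁻¹ ∈ K := by
      refine (hK _).mpr ⟨mul_mem hg (inv_mem (mul_mem (zpow_mem hy i) (zpow_mem hx j))), ?_, ?_⟩
      · refine (congrArg Subtype.val (show pairHom hcl x (g * (y ^ i * x ^ j)⁻¹) = 1 from ?_) :)
        simp [map_mul, map_zpow, map_inv, hi, hxx]
      · refine (congrArg Subtype.val (show pairHom hcl y (g * (y ^ i * x ^ j)⁻¹) = 1 from ?_) :)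
        simp [map_mul, map_zpow, map_inv, hj, hyy]
    have c1 : Commute k (g * (y ^ i * x ^ j)⁻¹) :=
      (Subgroup.mem_centralizer_iff.mp hkc _ hrest).symm
    have c2 : Commute k (y ^ i * x ^ j) :=
      (Commute.zpow_right (commutatorElement_eq_one_iff_mul_comm.mp hky).symm i).mul_right
        (Commute.zpow_right (commutatorElement_eq_one_iff_mul_comm.mp hkx).symm j)
    have := c1.mul_right c2
    rw [inv_mul_cancel_right] at this
    exact this.symm
  obtain ⟨k, hk⟩ := ih K hKlt hZK hKc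
  exact ⟨k + 1, by rw [hcard, hk]; ring⟩

/-- The centre of a group with commutator subgroup of prime order inside it has square index. -/
theorem exists_index_center [Finite Q] {q : ℕ} [hq : Fact q.Prime]
    (hcl : ∀ u d : Q, ⁅u, d⁆ ∈ Subgroup.center Q) (hQ : Nat.card (commutator Q) = q) :
    ∃ n : ℕ, 0 < n ∧ Nat.card (Q ⧸ Subgroup.center Q) = q ^ (2 * n) := by
  obtain ⟨k, hk⟩ := index_center_aux hcl hQ (Nat.card Q) ⊤ (by rw [Subgroup.card_top]) le_top (by
    rw [Subgroup.coe_top, Subgroup.centralizer_univ, top_inf_eq])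
  rw [Subgroup.card_top, Subgroup.card_eq_card_quotient_mul_card_subgroup (Subgroup.center Q),
    mul_comm] at hk
  have hk' := Nat.eq_of_mul_eq_mul_left Nat.card_pos hk
  refine ⟨k, Nat.pos_of_ne_zero fun hk0 => ?_, hk'⟩
  subst hk0
  rw [mul_zero, pow_zero] at hk'
  have hc : Subgroup.center Q = ⊤ := Subgroup.index_eq_one.1 hk'
  have h1 : commutator Q = ⊥ := eq_bot_iff.2 (Subgroup.commutator_le.mpr fun u _ d _ =>
    Subgroup.mem_bot.2 (commutatorElement_eq_one_iff_mul_comm.mpr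
      (Subgroup.mem_center_iff.mp (hc ▸ Subgroup.mem_top d) u)))
  rw [h1, Subgroup.card_bot] at hQ
  exact hq.out.ne_one hQ.symm

variable {K : Type*} [Field K] {W : Type*} [AddCommGroup W] [Module K W]

/-- An operator of prime order `r` without eigenvalue one forces `q = 2` and `r = 2 ^ n + 1`. -/
theorem prime_bound [IsAlgClosed K] [FiniteDimensional K W] [Nontrivial W] [Fintype Q]
    {a : Q →* Module.End K W} (S : Setting a) {q : ℕ} [hq : Fact q.Prime]
    (hQ : Nat.card (commutator Q) = q) (T : Module.End K W) (σ : MulAut Q) {r : ℕ} (hr : r.Prime)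
    (hrK : (r : K) ≠ 0) (hσ : σ ^ r = 1)
    (hfree : ∀ i : ℕ, 0 < i → i < r → ∀ u : Q, u⁻¹ * (σ ^ i) u ∈ Subgroup.center Q →
      u ∈ Subgroup.center Q)
    (hT : T ^ r = 1) (hconj : ∀ u, T * a u = a (σ u) * T)
    (hsum : ∑ i ∈ Finset.range r, T ^ i = 0) :
    q = 2 ∧ ∃ n : ℕ, 0 < n ∧ r = 2 ^ n + 1 ∧ Nat.card (Q ⧸ Subgroup.center Q) = 2 ^ (2 * n) := by
  classical
  obtain ⟨n, hn, hN⟩ := exists_index_center S.cls hQ
  haveI : NeZero (r : K) := ⟨hrK⟩
  obtain ⟨ω, hω⟩ := HasEnoughRootsOfUnity.exists_primitiveRoot K r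
  obtain ⟨m, hm1, hm2, hm3⟩ := exists_eigen_split T hr.pos hT hrK hω
  obtain ⟨O, hO, hC⟩ := finrank_centEnd_le S T σ hr.pos hσ hfree hT hconj
  have hE := finrank_end_eq S
  set b := Module.finrank K (commEnd a)
  set N := Nat.card (Q ⧸ Subgroup.center Q)
  set d := Module.finrank K W
  have hd : 0 < d := Module.finrank_pos
  have hb : 0 < b := by
    rcases Nat.eq_zero_or_pos b with h | h
    · rw [h, mul_zero] at hE
      have := Nat.mul_pos hd hd
      omega
    · exact h
  have hm0 := hm3 hsum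
  have hcs : d * d ≤ (r - 1) * ∑ j, m j * m j := by
    set z : Fin r := ⟨0, hr.pos⟩
    have h1 : ∑ j ∈ Finset.univ.erase z, m j = d := by
      rw [Finset.sum_erase _ hm0, hm1]
    have h2 : ∑ j ∈ Finset.univ.erase z, m j * m j = ∑ j, m j * m j :=
      Finset.sum_erase _ (by simp [z, hm0])
    have h3 := sq_sum_le_card_mul_sum_sq (s := Finset.univ.erase z) (f := m)
    rw [Finset.card_erase_of_mem (Finset.mem_univ z), Finset.card_univ, Fintype.card_fin, h1] at h3
    simp only [pow_two, Nat.cast_id] at h3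
    rwa [h2] at h3
  have h4 : N * b ≤ (r - 1) * (1 + O) * b := by
    rw [← hE, mul_assoc]
    exact hcs.trans (Nat.mul_le_mul_left _ (hm2.trans hC))
  have h5 : N ≤ (r - 1) * (1 + O) := Nat.le_of_mul_le_mul_right h4 hb
  obtain ⟨r', hr'⟩ : ∃ r', r = r' + 1 := ⟨r - 1, (Nat.succ_pred_eq_of_pos hr.pos).symm⟩
  subst hr'
  rw [Nat.add_sub_cancel] at h5
  have h6 : N ≤ r' * r' := by
    have : O + 1 ≤ r' := by nlinarith
    nlinarith
  set M := q ^ n with hM
  have hNM : N = M * M := by rw [hN, hM, ← pow_add]; ring_nf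
  have hM2 : 2 ≤ M := le_trans hq.out.two_le (Nat.le_self_pow hn.ne' q)
  have hMr : M ≤ r' := by nlinarith
  have hdvd : r' + 1 ∣ (M + 1) * (M - 1) := by
    have : (M + 1) * (M - 1) = O * (r' + 1) := by
      have h7 : (M + 1) * (M - 1) + 1 = M * M := by
        obtain ⟨M', hM'⟩ : ∃ M', M = M' + 1 := ⟨M - 1, by omega⟩
        rw [hM']; simp only [Nat.add_sub_cancel]; ring
      omega
    exact ⟨O, by rw [this]; ring⟩
  have hr1 : r' = M := by
    rcases (Nat.Prime.dvd_mul hr).1 hdvd with h | h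
    · have := Nat.le_of_dvd (by omega) h; omega
    · have := Nat.le_of_dvd (by omega) h; omega
  have hq2 : q = 2 := by
    rcases hq.out.eq_two_or_odd' with h | h
    · exact h
    · exfalso
      have hev : Even (r' + 1) := by rw [hr1, hM]; exact h.pow.add_one
      have h2 := (Nat.prime_dvd_prime_iff_eq Nat.prime_two hr).1 (even_iff_two_dvd.1 hev)
      omega
  subst hq2
  exact ⟨rfl, n, hn, by rw [hr1], hN⟩

end CfsgLib.Twisted
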