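import Cfsg.Agent.Lib.Zassenhaus.Structure
import Cfsg.Agent.Lib.Semilinear.RegularSolvable
import Cfsg.Agent.S3742
import Mathlib.GroupTheory.Perm.ViaEmbedding
import Mathlib.Tactic

/-!
A solvable group with a fixed-point-free action has a normal Z-subgroup with quotient inside the
symmetric group of degree four.
-/

set_option autoImplicit false
set_option linter.style.haveILetI false

open scoped commutatorElement

namespace CfsgLib.Frobenius

open CfsgLib.Zassenhaus

/-- A homomorphism to a group of order at most four gives one to `Perm (Fin 4)` with the same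
kernel. -/
theorem exists_perm_four_of_card_le {G R : Type*} [Group G] [Group R] [Finite R] (T : G →* R)
    (hR : Nat.card R ≤ 4) : ∃ f : G →* Equiv.Perm (Fin 4), f.ker = T.ker := by
  haveI : Fintype R := Fintype.ofFinite R
  let ι : R ↪ Fin 4 := (Fintype.equivFin R).toEmbedding.trans
    (Fin.castLEEmb (Nat.card_eq_fintype_card (α := R) ▸ hR))
  let g : R →* Equiv.Perm (Fin 4) :=
    (Equiv.Perm.viaEmbeddingHom ι).comp (MulAction.toPermHom R R)
  have hg : Function.Injective g :=
    (Equiv.Perm.viaEmbeddingHom_injective ι).comp MulAction.toPerm_injective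
  exact ⟨g.comp T, by rw [← MonoidHom.comap_ker, (MonoidHom.ker_eq_bot_iff g).2 hg, MonoidHom.comap_bot]⟩

/-- A normal quaternion subgroup of order eight gives the homomorphism to `Perm (Fin 4)`. -/
theorem exists_perm_of_quaternion {G : Type*} [Group G] [Finite G] (hG : HasFpf G)
    (Q : Subgroup G) [Q.Normal] (e : Q ≃* QuaternionGroup 2) :
    ∃ f : G →* Equiv.Perm (Fin 4), IsSmall f.ker := by
  obtain ⟨iso⟩ := Cfsg.Agent.S3742.result
  let Ψ : G →* MulAut (QuaternionGroup 2) := (MulAut.congr e).toMonoidHom.comp MulAut.conjNormal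
  refine ⟨iso.toMonoidHom.comp Ψ, fun P hP h2 => ?_⟩
  have hcent : ∀ g ∈ (iso.toMonoidHom.comp Ψ).ker, ∀ q ∈ Q, g * q = q * g := by
    intro g hg q hq
    have h1 : Ψ g = 1 := iso.injective (by rw [map_one]; exact MonoidHom.mem_ker.1 hg)
    have h' : e (MulAut.conjNormal g (e.symm (e ⟨q, hq⟩))) = e ⟨q, hq⟩ :=
      DFunLike.congr_fun h1 (e ⟨q, hq⟩)
    rw [e.symm_apply_apply] at h'
    have h'' := congrArg Subtype.val (e.injective h')
    rw [MulAut.conjNormal_apply] at h''
    exact mul_inv_eq_iff_eq_mul.1 h''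
  let u : Q := e.symm (QuaternionGroup.a 1)
  let v : Q := e.symm (QuaternionGroup.xa 0)
  have huv : (u : G) * v ≠ v * u := fun h => by
    have h' : u * v = v * u := Subtype.ext h
    have := congrArg e h'
    simp only [u, v, map_mul, MulEquiv.apply_symm_apply] at this
    exact absurd this (by decide)
  have hu : orderOf (u : G) = 4 := by
    rw [Subgroup.orderOf_coe, MulEquiv.orderOf_eq, QuaternionGroup.orderOf_a_one]
  have hPQ : ∀ x ∈ P, x ∈ Q := by
    intro x hx
    obtain ⟨k, hk⟩ := IsPGroup.iff_orderOf.1 h2 ⟨x, hx⟩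
    rw [← Subgroup.orderOf_coe] at hk
    have hc : Commute x (u : G) := hcent x (hP hx) u u.2
    rcases le_or_gt k 2 with h | h
    · have := hG.mem_zpowers_of_commute hc.symm (by
        rw [hu, show orderOf x = 2 ^ k from hk]
        exact (show (4 : ℕ) = 2 ^ 2 by norm_num) ▸ Nat.pow_dvd_pow 2 h)
      exact Subgroup.zpowers_le.2 u.2 this
    · exfalso
      have := hG.mem_zpowers_of_commute hc (by
        rw [hu, show orderOf x = 2 ^ k from hk]
        exact (show (4 : ℕ) = 2 ^ 2 by norm_num) ▸ Nat.pow_dvd_pow 2 h.le)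
      exact huv (hcent _ (Subgroup.zpowers_le.2 (hP hx) this) v v.2)
  exact hG.isCyclic_of_comm fun x hx y hy => hcent x (hP hx) y (hPQ y hy)

/-- A self-centralising abelian normal subgroup gives a quotient of order at most four. -/
theorem exists_perm_of_abelian {G : Type*} [Group G] [Finite G] (hG : HasFpf G)
    (A : Subgroup G) [A.Normal] (hAc : ∀ a ∈ A, ∀ b ∈ A, a * b = b * a)
    (hC : Subgroup.centralizer (A : Set G) ≤ A) :
    ∃ f : G →* Equiv.Perm (Fin 4), IsSmall f.ker := by
  haveI : Fact (Nat.Prime 2) := ⟨Nat.prime_two⟩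
  obtain ⟨P⟩ : Nonempty (Sylow 2 G) := inferInstance
  rcases hG.cyclic_or_quat P.2 with hcyc | ⟨-, t, a, hq⟩
  · refine ⟨1, fun X _ hX => ?_⟩
    obtain ⟨S, hXS⟩ := hX.exists_le_sylow
    obtain ⟨g, rfl⟩ := MulAction.exists_smul_eq G P S
    haveI := hcyc
    haveI : IsCyclic (↑(g • P) : Subgroup G) := by
      exact (Sylow.equiv P (g • P)).isCyclic.1 hcyc
    exact isCyclic_of_injective (Subgroup.inclusion hXS) (Subgroup.inclusion_injective hXS)
  haveI : IsCyclic A := hG.isCyclic_of_comm hAc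
  have hcomm : ∀ g h : G, ⁅g, h⁆ ∈ A := fun g h => hC <| by
    letI := ((IsCyclic.mulAutMulEquiv A).toMonoidHom).commGroupOfInjective (IsCyclic.mulAutMulEquiv A).injective
    rw [Subgroup.mem_centralizer_iff]
    intro x hx
    have h1 : MulAut.conjNormal (H := A) ⁅g, h⁆ = 1 := by
      rw [map_commutatorElement, commutatorElement_eq_one_iff_mul_comm, mul_comm]
    have h2 := congrArg Subtype.val (DFunLike.congr_fun h1 ⟨x, hx⟩)
    rw [MulAut.conjNormal_apply] at h2
    exact (mul_inv_eq_iff_eq_mul.1 h2).symm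
  let π := QuotientGroup.mk' A
  letI : CommGroup (G ⧸ A) :=
    { (inferInstance : Group (G ⧸ A)) with
      mul_comm := fun x y => by
        obtain ⟨g, rfl⟩ := QuotientGroup.mk'_surjective A x
        obtain ⟨h, rfl⟩ := QuotientGroup.mk'_surjective A y
        rw [← commutatorElement_eq_one_iff_mul_comm, ← map_commutatorElement]
        exact (QuotientGroup.eq_one_iff _).2 (hcomm g h) }
  obtain ⟨k, m, hm, hkm⟩ := Nat.exists_eq_two_pow_mul_odd (n := Nat.card (G ⧸ A)) Nat.card_pos.ne'
  let T : G →* (powMonoidHom (α := G ⧸ A) m).range := (powMonoidHom (α := G ⧸ A) m).rangeRestrict.comp π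
  have hTs : Function.Surjective T :=
    (powMonoidHom (α := G ⧸ A) m).rangeRestrict_surjective.comp (QuotientGroup.mk'_surjective A)
  have hR2 : IsPGroup 2 (powMonoidHom (α := G ⧸ A) m).range := by
    rintro ⟨_, y, rfl⟩
    refine ⟨k, Subtype.ext ?_⟩
    show (y ^ m) ^ 2 ^ k = 1
    rw [← pow_mul, mul_comm, ← hkm, pow_card_eq_one']
  have hcard : Nat.card (powMonoidHom (α := G ⧸ A) m).range ≤ 4 := by
    let P' : Sylow 2 (powMonoidHom (α := G ⧸ A) m).range := P.mapSurjective hTs
    have htop : (P' : Subgroup (powMonoidHom (α := G ⧸ A) m).range) = ⊤ :=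
      (P'.is_maximal' (hR2.to_subgroup ⊤) le_top).symm
    let TP := T.comp (P : Subgroup G).subtype
    have hTP : Function.Surjective TP := by
      rw [← MonoidHom.range_eq_top, MonoidHom.range_comp, Subgroup.range_subtype]
      exact htop
    obtain ⟨g, hg, hgt⟩ := hq.exists_outer
    have hrel := (hq.outer g hg hgt).2
    have hker : Subgroup.zpowers (⟨t, hq.mem⟩ ^ 2 : (P : Subgroup G)) ≤ TP.ker := by
      rw [Subgroup.zpowers_le, MonoidHom.mem_ker]
      have h1 := congrArg T hrel
      rw [map_mul, map_mul, map_inv, map_inv, mul_comm (T g), mul_inv_cancel_right] at h1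
      show T (t ^ 2) = 1
      rw [map_pow, pow_two]
      exact mul_eq_one_iff_eq_inv.2 h1
    have h2 := Subgroup.card_le_of_le hker
    rw [Nat.card_zpowers, ← Subgroup.orderOf_coe, SubgroupClass.coe_pow,
      orderOf_pow_of_dvd two_ne_zero (hq.orderOf_t ▸ dvd_mul_right 2 a), hq.orderOf_t,
      Nat.mul_div_cancel_left a two_pos] at h2
    have h3 := Subgroup.card_eq_card_quotient_mul_card_subgroup TP.ker
    rw [Nat.card_congr (QuotientGroup.quotientKerEquivOfSurjective TP hTP).toEquiv, hq.card] at h3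
    have := hq.two_le
    nlinarith
  obtain ⟨f, hf⟩ := exists_perm_four_of_card_le T hcard
  refine ⟨f, fun X hX h2 => ?_⟩
  have hXA : X ≤ A := by
    intro x hx
    have hT : T x = 1 := MonoidHom.mem_ker.1 (hf ▸ hX hx)
    have h1 : (x : G ⧸ A) ^ m = 1 := congrArg Subtype.val hT
    obtain ⟨j, hj⟩ := h2 ⟨x, hx⟩
    have h2' : (x : G ⧸ A) ^ 2 ^ j = 1 := by
      rw [← QuotientGroup.mk_pow, show x ^ 2 ^ j = 1 from congrArg Subtype.val hj, QuotientGroup.mk_one]
    refine (QuotientGroup.eq_one_iff (N := A) x).1 (orderOf_eq_one_iff.1 ?_)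
    exact Nat.eq_one_of_dvd_coprimes ((Nat.coprime_two_right.2 hm).pow_right j)
      (orderOf_dvd_of_pow_eq_one h1) (orderOf_dvd_of_pow_eq_one h2')
  exact isCyclic_of_injective (Subgroup.inclusion hXA) (Subgroup.inclusion_injective hXA)

/-- The combination. -/
theorem exists_perm_small {G : Type*} [Group G] [Finite G] [Group.IsSolvable G] (hG : HasFpf G)
    {V : Type*} [AddCommGroup V] [Finite V] [Nontrivial V] [DistribMulAction G V]
    (hfree : ∀ v : V, v ≠ 0 → ∀ g : G, g • v = v → g = 1) :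
    ∃ f : G →* Equiv.Perm (Fin 4), IsSmall f.ker := by
  obtain ⟨A, -, hAmax⟩ := exists_maximal_ge_of_wellFoundedGT
    (fun B : Subgroup G => B.Normal ∧ ∀ a ∈ B, ∀ b ∈ B, a * b = b * a) ⊥
    ⟨inferInstance, fun a ha b hb => by
      rw [Subgroup.mem_bot.1 ha, Subgroup.mem_bot.1 hb]⟩
  obtain ⟨hAn, hAc⟩ := hAmax.prop
  haveI := hAn
  by_cases hC : Subgroup.centralizer (A : Set G) ≤ A
  · exact exists_perm_of_abelian hG A hAc hC
  have hAC : A ≤ Subgroup.centralizer (A : Set G) :=
    fun a ha => Subgroup.mem_centralizer_iff.2 fun b hb => hAc b hb a ha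
  obtain ⟨Q, hQn, -, ⟨e⟩⟩ := CfsgLib.Semilinear.exists_quaternion_normal hfree A
    (fun B hB hBc hAB => le_antisymm (hAmax.2 ⟨hB, hBc⟩ hAB) hAB)
    (Subgroup.centralizer (A : Set G)) hAC (fun h => hC h.le) le_rfl
  haveI := hQn
  exact exists_perm_of_quaternion hG Q e

end CfsgLib.Frobenius
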