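import Cfsg.Agent.Lib.Frobenius.Theorem
import Cfsg.Agent.Lib.Frobenius.Complement

/-!
All Frobenius complements of a finite group are conjugate.
-/

set_option autoImplicit false
set_option linter.style.haveILetI false

open scoped Pointwise

namespace CfsgLib.Frobenius

variable {G : Type*} [Group G] [Finite G] {H : Subgroup G}

/-- A Frobenius complement has no Frobenius complement of its own: it is not a Frobenius group. -/
theorem not_isFrobeniusComplement_subgroupOf (hH : Cfsg.IsFrobeniusComplement H) (L : Subgroup H) :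
    ¬ Cfsg.IsFrobeniusComplement L := by
  intro hL
  classical
  obtain ⟨N, hN, hNn, hNc⟩ := exists_kernel_subgroup hH
  obtain ⟨M, hM, hMn, hMc⟩ := exists_kernel_subgroup hL
  haveI := hNn
  have hNne : N ≠ ⊥ := by
    intro h
    have h1 := hNc.index_eq_card
    rw [h, Subgroup.card_bot] at h1
    have := index_ge_two hH
    omega
  obtain ⟨V, hV, hcomm, hn, hf⟩ := exists_invariant_abelian' hNc hNne hH.1
    fun h hh h1 => fpf_of_isFrobeniusComplement hNc hH hh h1
  apply hV
  -- `H` is partitioned by the kernel of `L` and the conjugates of `L`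
  let B : Option (H ⧸ L) → Subgroup G := fun o =>
    match o with
    | none => M.map H.subtype
    | some q => (MulAut.conj q.out • L).map H.subtype
  haveI : Fintype (Option (H ⧸ L)) := Fintype.ofFinite _
  have hpart : ∀ a ∈ H, a ≠ 1 → ∃! i, a ∈ B i := by
    intro a ha ha1
    set x : H := ⟨a, ha⟩ with hx
    have hx1 : x ≠ 1 := fun h => ha1 (congrArg Subtype.val h)
    have hmem : ∀ S : Subgroup H, a ∈ S.map H.subtype ↔ x ∈ S := fun S => by
      rw [show a = H.subtype x from rfl, Subgroup.mem_map_iff_mem H.subtype_injective]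
    have hone : ∀ q r : H ⧸ L, x ∈ MulAut.conj q.out • L → x ∈ MulAut.conj r.out • L → q = r := by
      intro q r hq hr
      rw [mem_conjSMul_iff] at hq hr
      have hm : q.out⁻¹ * r.out ∈ L := by
        refine mem_of_conj_mem hL hq ?_ ?_
        · simpa [mul_assoc] using hr
        · intro e
          exact hx1 (by simpa [mul_assoc] using congrArg (fun z => q.out * z * q.out⁻¹) e)
      rw [← QuotientGroup.out_eq' q, ← QuotientGroup.out_eq' r]
      exact QuotientGroup.eq.2 hm
    by_cases hxM : x ∈ M
    · refine ⟨none, (hmem M).2 hxM, ?_⟩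
      rintro (_ | q) hq
      · rfl
      · exact absurd (eq_one_of_mem_kernel_of_mem (hM ▸ hxM) ((hmem _).1 hq)) hx1
    · have hk : x ∉ Cfsg.frobeniusKernel L := fun h => hxM (by rw [← SetLike.mem_coe, hM]; exact h)
      obtain ⟨g, hg⟩ : ∃ g : H, x ∈ MulAut.conj g • L := by
        by_contra hcon
        push Not at hcon
        exact hk (Or.inr hcon)
      obtain ⟨l, hl⟩ := QuotientGroup.mk_out_eq_mul L g
      have hq : x ∈ MulAut.conj (QuotientGroup.mk (s := L) g).out • L := by
        rw [hl, mem_conjSMul_iff]
        have := L.mul_mem (L.mul_mem (L.inv_mem l.2) (mem_conjSMul_iff.1 hg)) l.2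
        simpa [mul_assoc] using this
      refine ⟨some (QuotientGroup.mk g), (hmem _).2 hq, ?_⟩
      rintro (_ | q) hq'
      · exact absurd ((hmem M).1 hq') hxM
      · exact congrArg some (hone _ _ ((hmem _).1 hq') hq)
  have hBH : ∀ i, B i ≤ H := by rintro (_ | q) <;> exact Subgroup.map_subtype_le _
  have hBne : ∀ i, B i ≠ ⊥ := by
    rintro (_ | q) h
    · simp only [B, Subgroup.map_eq_bot_iff_of_injective _ H.subtype_injective] at h
      have h1 := hMc.index_eq_card
      rw [h, Subgroup.card_bot] at h1
      have := index_ge_two hL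
      omega
    · simp only [B, Subgroup.map_eq_bot_iff_of_injective _ H.subtype_injective] at h
      exact (conj hL q.out).1 h
  rw [eq_bot_iff]
  intro v hv
  have h := pow_card_family_eq_self hn hf hH.1 B hBH hBne hpart hv
  rw [← Nat.card_eq_fintype_card, Finite.card_option, pow_succ, mul_eq_right,
    ← Subgroup.index_eq_card] at h
  have hcop : (orderOf v).Coprime L.index := by
    refine Nat.Coprime.coprime_dvd_left (Subgroup.orderOf_dvd_natCard V hv) ?_
    exact (Nat.Coprime.coprime_dvd_left L.index_dvd_card (coprime_card_of_fpf hn hf)).symm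
  rw [Subgroup.mem_bot, ← orderOf_eq_one_iff]
  exact Nat.eq_one_of_dvd_coprimes hcop dvd_rfl (orderOf_dvd_of_pow_eq_one h)

/-- All Frobenius complements are conjugate. -/
theorem exists_conj_eq {H₀ : Subgroup G} (hH : Cfsg.IsFrobeniusComplement H)
    (hH₀ : Cfsg.IsFrobeniusComplement H₀) : ∃ g : G, MulAut.conj g • H₀ = H := by
  suffices key : ∀ {A B : Subgroup G}, Cfsg.IsFrobeniusComplement A →
      Cfsg.IsFrobeniusComplement B → Nat.card A ≤ Nat.card B →
      ∃ g : G, MulAut.conj g • A = B by
    rcases le_total (Nat.card H₀) (Nat.card H) with hle | hle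
    · exact key hH₀ hH hle
    · obtain ⟨g, hg⟩ := key hH hH₀ hle
      exact ⟨g⁻¹, by rw [← hg, map_inv, inv_smul_smul]⟩
  intro A B hA hB hle
  obtain ⟨g, hg⟩ := exists_conj_le_of_card_le hB hA hle
  refine ⟨g, ?_⟩
  by_contra hne
  refine not_isFrobeniusComplement_subgroupOf hB _ (subgroupOf (conj hA g) ?_ ?_)
  · rw [inf_eq_left.2 hg]
    exact (conj hA g).1
  · exact fun h => hne (le_antisymm hg h)

end CfsgLib.Frobenius
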