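import Cfsg.Agent.Lib.Zassenhaus.Fpf
import Mathlib.GroupTheory.SpecificGroups.ZGroup
import Mathlib.GroupTheory.PresentedGroup
import Mathlib.GroupTheory.SchurZassenhaus
import Mathlib.Tactic

/-!
Z-groups as presented metacyclic groups, with the extra congruence of fixed-point-free groups.
-/

set_option autoImplicit false
set_option linter.style.haveILetI false

namespace CfsgLib.Frobenius

/-- The relators of `⟨x, y | x^n, y^m, x⁻¹ y x = y^r⟩`. -/
def metaRels (n m r : ℕ) : Set (FreeGroup (Fin 2)) :=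
  {FreeGroup.of (0 : Fin 2) ^ n, FreeGroup.of (1 : Fin 2) ^ m,
    (FreeGroup.of (0 : Fin 2))⁻¹ * FreeGroup.of 1 * FreeGroup.of 0 * (FreeGroup.of (1 : Fin 2) ^ r)⁻¹}

theorem conj_pow_eq {P : Type*} [Group P] {X Y : P} {r : ℕ} (h : X⁻¹ * Y * X = Y ^ r) (i j : ℕ) :
    Y ^ j * X ^ i = X ^ i * Y ^ (j * r ^ i) := by
  induction i generalizing j with
  | zero => simp
  | succ i ih =>
    have hj : ∀ l : ℕ, Y ^ l * X = X * Y ^ (l * r) := by
      intro l
      have : X⁻¹ * Y ^ l * X = Y ^ (r * l) := by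
        rw [pow_mul, ← h]
        induction l with
        | zero => simp
        | succ l ihl => rw [pow_succ, pow_succ, ← ihl]; group
      rw [mul_comm l r, ← this]
      group
    rw [pow_succ, ← mul_assoc, ih, mul_assoc, hj, ← mul_assoc, pow_succ, mul_assoc j]

theorem card_metaPresented_le (n m r : ℕ) (hn : 0 < n) (hm : 0 < m) :
    Finite (PresentedGroup (metaRels n m r)) ∧ Nat.card (PresentedGroup (metaRels n m r)) ≤ n * m := by
  set X : PresentedGroup (metaRels n m r) := PresentedGroup.of 0 with hX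
  set Y : PresentedGroup (metaRels n m r) := PresentedGroup.of 1 with hY
  have rel : ∀ w ∈ metaRels n m r, PresentedGroup.mk (metaRels n m r) w = 1 :=
    fun w hw => PresentedGroup.one_of_mem hw
  have h1 : X ^ n = 1 := by have := rel _ (Or.inl rfl); rwa [map_pow] at this
  have h2 : Y ^ m = 1 := by have := rel _ (Or.inr (Or.inl rfl)); rwa [map_pow] at this
  have h3 : X⁻¹ * Y * X = Y ^ r := by
    have := rel _ (Or.inr (Or.inr rfl))
    simp only [map_mul, map_inv, map_pow] at this
    exact mul_inv_eq_one.1 this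
  let F : Fin n × Fin m → PresentedGroup (metaRels n m r) := fun u => X ^ (u.1 : ℕ) * Y ^ (u.2 : ℕ)
  have hred : ∀ i j : ℕ, X ^ i * Y ^ j ∈ Set.range F := fun i j =>
    ⟨(⟨i % n, Nat.mod_lt _ hn⟩, ⟨j % m, Nat.mod_lt _ hm⟩), by
      show X ^ (i % n) * Y ^ (j % m) = _
      rw [← pow_eq_pow_mod _ h1, ← pow_eq_pow_mod _ h2]⟩
  have hsurj : Function.Surjective F := by
    intro w
    have hw : w ∈ Subgroup.closure (Set.range
        (PresentedGroup.of : Fin 2 → PresentedGroup (metaRels n m r))) := by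
      rw [PresentedGroup.closure_range_of]; trivial
    suffices h : ∃ i j : ℕ, w = X ^ i * Y ^ j by
      obtain ⟨i, j, rfl⟩ := h
      exact hred i j
    induction hw using Subgroup.closure_induction with
    | mem a ha =>
      obtain ⟨k, rfl⟩ := ha
      fin_cases k
      · exact ⟨1, 0, by simp [hX]⟩
      · exact ⟨0, 1, by simp [hY]⟩
    | one => exact ⟨0, 0, by simp⟩
    | mul a b _ _ ha hb =>
      obtain ⟨i, j, rfl⟩ := ha
      obtain ⟨k, l, rfl⟩ := hb
      refine ⟨i + k, j * r ^ k + l, ?_⟩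
      rw [pow_add, pow_add, mul_assoc, ← mul_assoc (Y ^ j), conj_pow_eq h3]
      simp only [mul_assoc]
    | inv a _ ha =>
      obtain ⟨i, j, rfl⟩ := ha
      have e : ∀ (Z : PresentedGroup (metaRels n m r)) (q l : ℕ), 0 < q → Z ^ q = 1 →
          (Z ^ l)⁻¹ = Z ^ (l * (q - 1)) := fun Z q l hq hZ => by
        rw [inv_eq_iff_mul_eq_one, ← pow_add, show l + l * (q - 1) = q * l by
          obtain ⟨q', rfl⟩ := Nat.exists_eq_succ_of_ne_zero hq.ne'
          simp only [Nat.succ_eq_add_one, Nat.add_sub_cancel]; ring, pow_mul, hZ, one_pow]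
      refine ⟨i * (n - 1), j * (m - 1) * r ^ (i * (n - 1)), ?_⟩
      rw [mul_inv_rev, e X n i hn h1, e Y m j hm h2, conj_pow_eq h3]
  haveI : Finite (PresentedGroup (metaRels n m r)) := Finite.of_surjective F hsurj
  refine ⟨inferInstance, ?_⟩
  simpa using Nat.card_le_card_of_surjective F hsurj

/-- A finite group generated by two elements satisfying the metacyclic relations and having full
order is the presented group. -/
theorem nonempty_equiv_metaPresented {K : Type*} [Group K] [Finite K] {x y : K} {n m r : ℕ}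
    (hn : 0 < n) (hm : 0 < m) (hx : x ^ n = 1) (hy : y ^ m = 1) (hr : x⁻¹ * y * x = y ^ r)
    (hgen : Subgroup.closure {x, y} = ⊤) (hcard : Nat.card K = n * m) :
    Nonempty (K ≃* PresentedGroup (metaRels n m r)) := by
  have hrel : ∀ w ∈ metaRels n m r, FreeGroup.lift ![x, y] w = 1 := by
    rintro w (rfl | rfl | rfl)
    · simpa using hx
    · simpa using hy
    · simp [hr]
  let φ : PresentedGroup (metaRels n m r) →* K := PresentedGroup.toGroup hrel
  have hsurj : Function.Surjective φ := by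
    rw [← MonoidHom.range_eq_top, eq_top_iff, ← hgen, Subgroup.closure_le]
    rintro _ (rfl | rfl)
    · exact ⟨_, PresentedGroup.toGroup.of hrel (x := 0)⟩
    · exact ⟨_, PresentedGroup.toGroup.of hrel (x := 1)⟩
  obtain ⟨hfin, hle⟩ := card_metaPresented_le n m r hn hm
  exact ⟨(MulEquiv.ofBijective φ (hsurj.bijective_of_nat_card_le (hcard.symm ▸ hle))).symm⟩

/-- A finite Z-group with a fixed-point-free representation has the standard presentation. -/
theorem exists_zgroup_presentation {K : Type*} [Group K] [Finite K] [hZ : IsZGroup K]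
    (hK : CfsgLib.Zassenhaus.HasFpf K) :
    ∃ n m r : ℕ, 0 < n ∧ 0 < m ∧ Nat.Coprime (r - 1) m ∧ Nat.Coprime n m ∧ 1 ≤ r ∧
      r ^ (n / ∏ p ∈ n.primeFactors, p) % m = 1 % m ∧
      Nonempty (K ≃* PresentedGroup (metaRels n m r)) := by
  set N := _root_.commutator K with hN
  obtain ⟨H, hH⟩ := Subgroup.exists_right_complement'_of_coprime hZ.coprime_commutator_index
  haveI : IsCyclic H := by
    have e : Abelianization K ≃* H := hH.symm.QuotientMulEquiv
    exact isCyclic_of_surjective e e.surjective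
  haveI : IsCyclic N := hZ.isCyclic_commutator
  obtain ⟨⟨x, hxH⟩, hxgen⟩ := IsCyclic.exists_generator (α := H)
  obtain ⟨⟨y, hyN⟩, hygen⟩ := IsCyclic.exists_generator (α := N)
  have hHle : H ≤ Subgroup.zpowers x := fun h hh => by
    obtain ⟨k, hk⟩ := hxgen ⟨h, hh⟩
    exact ⟨k, congrArg Subtype.val hk⟩
  have hHx : H = Subgroup.zpowers x := le_antisymm hHle (Subgroup.zpowers_le.2 hxH)
  have hNle : N ≤ Subgroup.zpowers y := fun h hh => by
    obtain ⟨k, hk⟩ := hygen ⟨h, hh⟩
    exact ⟨k, congrArg Subtype.val hk⟩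
  have hNy : N = Subgroup.zpowers y := le_antisymm hNle (Subgroup.zpowers_le.2 hyN)
  set n := orderOf x with hn
  set m := orderOf y with hm
  have hnpos : 0 < n := orderOf_pos x
  have hmpos : 0 < m := orderOf_pos y
  have hnH : Nat.card H = n := by rw [hHx, Nat.card_zpowers]
  have hmN : Nat.card N = m := by rw [hNy, Nat.card_zpowers]
  have hcop : Nat.Coprime n m := by
    have := hZ.coprime_commutator_index
    rwa [hH.symm.index_eq_card, hnH, hmN, Nat.coprime_comm] at this
  have hcard : Nat.card K = n * m := by rw [← hH.card_mul, hnH, hmN, mul_comm]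
  obtain ⟨r₀, hr₀⟩ := (mem_powers_iff_mem_zpowers (x := y)).2
    (hNy ▸ (show x⁻¹ * y * x ∈ N by
      simpa using (inferInstance : N.Normal).conj_mem y hyN x⁻¹) : x⁻¹ * y * x ∈ Subgroup.zpowers y)
  simp only at hr₀
  set r := r₀ + m with hrdef
  have hr : x⁻¹ * y * x = y ^ r := by
    rw [hrdef, pow_add, hm, pow_orderOf_eq_one, mul_one, hr₀]
  have hgen : Subgroup.closure {x, y} = ⊤ := by
    rw [eq_top_iff, ← hH.sup_eq_top, hHx, ← hN, hNy, sup_le_iff, Subgroup.zpowers_le, Subgroup.zpowers_le]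
    exact ⟨Subgroup.subset_closure (by simp), Subgroup.subset_closure (by simp)⟩
  refine ⟨n, m, r, hnpos, hmpos, ?_, hcop, by omega, ?_,
    nonempty_equiv_metaPresented hnpos hmpos (pow_orderOf_eq_one x) (pow_orderOf_eq_one y) hr hgen hcard⟩
  · -- `y ^ (r - 1)` generates the commutator subgroup
    set D := Subgroup.zpowers (y ^ (r - 1)) with hD
    haveI : D.Normal := ⟨fun d hd g => by
      obtain ⟨k, rfl⟩ := hd
      obtain ⟨l, hl⟩ := hNle ((inferInstance : N.Normal).conj_mem y hyN g)
      refine ⟨l * k, ?_⟩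
      simp only at hl ⊢
      rw [← conj_zpow, ← conj_pow, ← hl, ← zpow_natCast, ← zpow_natCast, ← zpow_mul, ← zpow_mul,
        ← zpow_mul]
      congr 1; ring⟩
    have hcomm : ∀ a b : K ⧸ D, a * b = b * a := by
      have hxy : Commute (x : K ⧸ D) (y : K ⧸ D) := by
        have h1 : ((y ^ (r - 1) : K) : K ⧸ D) = 1 :=
          (QuotientGroup.eq_one_iff _).2 (Subgroup.mem_zpowers _)
        have h2 : ((x⁻¹ * y * x : K) : K ⧸ D) = y := by
          rw [hr, show y ^ r = y ^ (r - 1) * y by rw [← pow_succ, Nat.sub_add_cancel (by omega : 1 ≤ r)],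
            QuotientGroup.mk_mul, h1, one_mul]
        rw [QuotientGroup.mk_mul, QuotientGroup.mk_mul, QuotientGroup.mk_inv, mul_assoc,
          inv_mul_eq_iff_eq_mul] at h2
        exact h2.symm
      have htop : Subgroup.closure {(x : K ⧸ D), (y : K ⧸ D)} = ⊤ := by
        rw [eq_top_iff, ← Subgroup.map_top_of_surjective (QuotientGroup.mk' D) (QuotientGroup.mk'_surjective D),
          ← hgen, MonoidHom.map_closure, Set.image_pair]
        rfl
      have hc : IsMulCommutative (Subgroup.closure {(x : K ⧸ D), (y : K ⧸ D)}) :=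
        Subgroup.isMulCommutative_closure (by
          rintro a (rfl | rfl) b (rfl | rfl)
          · rfl
          · exact hxy.eq
          · exact hxy.eq.symm
          · rfl)
      intro a b
      exact setLike_mul_comm (htop ▸ Subgroup.mem_top a) (htop ▸ Subgroup.mem_top b)
    have hND : N ≤ D := by
      rw [hN, _root_.commutator_def, Subgroup.commutator_le]
      intro a _ b _
      rw [← QuotientGroup.eq_one_iff, commutatorElement_def]
      simp only [QuotientGroup.mk_mul, QuotientGroup.mk_inv]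
      rw [hcomm (a : K ⧸ D) (b : K ⧸ D)]
      group
    have hd := Subgroup.orderOf_dvd_natCard D (hND hyN)
    rw [hD, Nat.card_zpowers, orderOf_pow, ← hm] at hd
    have hg := Nat.gcd_dvd_left m (r - 1)
    have h1 : m / Nat.gcd m (r - 1) = m := Nat.dvd_antisymm (Nat.div_dvd_of_dvd hg) hd
    rcases Nat.div_eq_self.1 h1 with h | h
    · omega
    · rwa [Nat.coprime_comm]
  · -- prime order elements centralise `y`
    have hkey : ∀ i : ℕ, (x ^ i)⁻¹ * y * x ^ i = y ^ r ^ i := fun i => by
      rw [mul_assoc, ← pow_one y, conj_pow_eq hr, pow_one, one_mul, inv_mul_cancel_left]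
    have hmod : ∀ i : ℕ, y ^ r ^ i = y ↔ (r : ZMod m) ^ i = 1 := fun i => by
      conv_lhs => rhs; rw [← pow_one y]
      rw [pow_eq_pow_iff_modEq, ← hm, ← ZMod.natCast_eq_natCast_iff]
      push_cast
      rfl
    set d := orderOf (r : ZMod m) with hd
    have hdn : d ∣ n := orderOf_dvd_of_pow_eq_one ((hmod n).1 (by
      rw [← hkey, hn, pow_orderOf_eq_one, inv_one, one_mul, mul_one]))
    obtain ⟨k, hk⟩ := hdn
    have hprod : (∏ p ∈ n.primeFactors, p) ∣ k := by
      refine Finset.prod_primes_dvd k (fun p hp => (Nat.prime_of_mem_primeFactors hp).prime) fun p hp => ?_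
      obtain ⟨hpp, hpn, -⟩ := Nat.mem_primeFactors.1 hp
      have hord : orderOf (x ^ (n / p)) = p := by
        rw [orderOf_pow_of_dvd (Nat.div_pos (Nat.le_of_dvd hnpos hpn) hpp.pos).ne'
          (hn ▸ Nat.div_dvd_of_dvd hpn), ← hn, Nat.div_div_self hpn hnpos.ne']
      have hc := hK.commute_of_normalize (x := y) hpp hord (hNle ((inferInstance : N.Normal).conj_mem y hyN _))
      have h1 : d ∣ n / p := orderOf_dvd_of_pow_eq_one ((hmod _).1 (by
        rw [← hkey, mul_assoc, ← hc.eq, inv_mul_cancel_left]))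
      obtain ⟨l, hl⟩ := h1
      have hd0 : 0 < d := Nat.pos_of_ne_zero fun h0 => by rw [h0, zero_mul] at hk; omega
      refine ⟨l, Nat.eq_of_mul_eq_mul_left hd0 ?_⟩
      rw [← hk, mul_left_comm, ← hl, Nat.mul_div_cancel' hpn]
    obtain ⟨l, hl⟩ := hprod
    have hdiv : n / (∏ p ∈ n.primeFactors, p) = d * l := by
      refine Nat.div_eq_of_eq_mul_left (Finset.prod_pos fun p hp => (Nat.prime_of_mem_primeFactors hp).pos) ?_
      conv_lhs => rw [hk, hl]
      ring
    rw [hdiv]
    have : ((r ^ (d * l) : ℕ) : ZMod m) = ((1 : ℕ) : ZMod m) := by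
      rw [Nat.cast_pow, pow_mul, hd, pow_orderOf_eq_one, one_pow, Nat.cast_one]
    exact (ZMod.natCast_eq_natCast_iff _ _ _).1 this

end CfsgLib.Frobenius
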