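import Cfsg.Agent.Lib.Frobenius.ClassTwoBound
import Cfsg.Agent.Lib.Frobenius.FixedDim
import Cfsg.Agent.Lib.Solvable.CoprimeAbelian
import Cfsg.Agent.Lib.PGroup.Basic
import Mathlib

/-!
Fixed points of a group of prime order in a module of a `q`-group that it normalizes.
-/

set_option autoImplicit false
set_option linter.style.haveILetI false

open scoped commutatorElement

namespace CfsgLib.Frobenius

theorem char_map_normalized {G : Type*} [Group G] {H : Subgroup G} (C : Subgroup H)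
    [hC : C.Characteristic] :
    Subgroup.normalizer (H : Set G) ≤ Subgroup.normalizer ((C.map H.subtype : Subgroup G) : Set G) := by
  have key : ∀ x ∈ Subgroup.normalizer (H : Set G), ∀ z ∈ C.map H.subtype,
      x * z * x⁻¹ ∈ C.map H.subtype := by
    rintro x hx _ ⟨c, hc, rfl⟩
    refine ⟨H.normalizerMonoidHom ⟨x, hx⟩ c, ?_, rfl⟩
    have h1 := Subgroup.characteristic_iff_le_comap.1 hC (H.normalizerMonoidHom ⟨x, hx⟩) hc
    exact h1
  intro x hx
  rw [Subgroup.mem_normalizer_iff]
  intro z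
  refine ⟨key x hx z, fun h => ?_⟩
  have := key x⁻¹ (inv_mem hx) _ h
  simpa [mul_assoc] using this

section Minimal

variable {G : Type*} [Group G] [Finite G] {P X : Subgroup G} {q : ℕ} [Fact q.Prime]

/-- Structure of a minimal `X`-invariant `q`-subgroup not centralized by `X`. -/
theorem minimal_invariant_structure (hP : IsPGroup q P) (hXP : X ≤ Subgroup.normalizer (P : Set G))
    (hcop : (Nat.card X).Coprime (Nat.card P))
    (hmin : ∀ U ≤ P, U ≠ P → X ≤ Subgroup.normalizer (U : Set G) →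
      X ≤ Subgroup.centralizer (U : Set G))
    (hne : ¬ X ≤ Subgroup.centralizer (P : Set G)) :
    ⁅P, X⁆ = P ∧
      (¬ IsMulCommutative P →
        X ≤ Subgroup.centralizer (((Subgroup.center P).map P.subtype : Subgroup G) : Set G) ∧
          (∀ u ∈ P, (∀ x ∈ X, x * u = u * x) → u ∈ (Subgroup.center P).map P.subtype) ∧
          (∀ u v : P, ⁅u, v⁆ ∈ Subgroup.center P ∧ ⁅u, v⁆ ^ q = 1)) := by
  haveI := hP.isNilpotent
  have hsolP : Group.IsSolvable X ∨ Group.IsSolvable P := Or.inr inferInstance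
  have h1 : ⁅P, X⁆ = P := by
    by_contra hlt
    have hle : ⁅P, X⁆ ≤ P := Subgroup.le_normalizer_iff_commutator_le_left.1 hXP
    have hc := hmin _ hle hlt (CfsgLib.Solvable.le_normalizer_commutator_right P X)
    have h2 : ⁅⁅P, X⁆, X⁆ = ⊥ := by
      rw [Subgroup.commutator_eq_bot_iff_le_centralizer, Subgroup.le_centralizer_iff]
      exact hc
    rw [CfsgLib.Solvable.commutator_commutator_eq hXP hcop hsolP,
      Subgroup.commutator_eq_bot_iff_le_centralizer, Subgroup.le_centralizer_iff] at h2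
    exact hne h2
  refine ⟨h1, fun hna => ?_⟩
  have hPne : P ≠ ⊥ := fun h => hne (h ▸ fun x _ v hv => by rw [Subgroup.mem_bot.1 hv]; simp)
  haveI : Nontrivial P := (Subgroup.nontrivial_iff_ne_bot P).2 hPne
  have hsub : ∀ C : Subgroup P, C.Characteristic → C ≠ ⊤ →
      X ≤ Subgroup.centralizer ((C.map P.subtype : Subgroup G) : Set G) := fun C hC hC1 => by
    haveI := hC
    refine hmin _ (Subgroup.map_subtype_le C) (fun h => hC1 ?_) (hXP.trans (char_map_normalized C))
    apply Subgroup.map_injective P.subtype_injective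
    rw [h, ← MonoidHom.range_eq_map, Subgroup.range_subtype]
  have hZ : X ≤ Subgroup.centralizer (((Subgroup.center P).map P.subtype : Subgroup G) : Set G) :=
    hsub _ inferInstance fun h => hna (⟨⟨fun u v => (Subgroup.mem_center_iff.1 (h ▸ Subgroup.mem_top v : v ∈ Subgroup.center P)) u⟩⟩)
  have hΦ : X ≤ Subgroup.centralizer (((frattini P).map P.subtype : Subgroup G) : Set G) := by
    refine hsub _ inferInstance fun h => ?_
    obtain ⟨M, hM, -⟩ := (eq_top_or_exists_le_coatom (⊥ : Subgroup P)).resolve_left bot_ne_top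
    exact hM.1 (eq_top_iff.2 (h ▸ frattini_le_coatom hM))
  have hder : ⁅P, P⁆ ≤ (frattini P).map P.subtype := by
    rw [← Subgroup.map_subtype_commutator]
    exact Subgroup.map_mono (CfsgLib.PGroup.commutator_le_frattini hP)
  -- the three subgroup lemma
  set C := P ⊓ Subgroup.centralizer (X : Set G) with hC
  have hCP : ⁅⁅P, X⁆, C⁆ = ⊥ := by
    refine Subgroup.commutator_commutator_eq_bot_of_rotate ?_ ?_
    · have : ⁅X, C⁆ = ⊥ := by
        rw [Subgroup.commutator_eq_bot_iff_le_centralizer, Subgroup.le_centralizer_iff]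
        exact inf_le_right
      rw [this, Subgroup.commutator_bot_left]
    · rw [Subgroup.commutator_eq_bot_iff_le_centralizer, Subgroup.le_centralizer_iff]
      exact hΦ.trans (Subgroup.centralizer_le ((Subgroup.commutator_mono inf_le_left le_rfl).trans hder))
  rw [h1, Subgroup.commutator_eq_bot_iff_le_centralizer] at hCP
  have hcent : ∀ u ∈ P, (∀ x ∈ X, x * u = u * x) → u ∈ (Subgroup.center P).map P.subtype := by
    intro u hu hx
    refine ⟨⟨u, hu⟩, Subgroup.mem_center_iff.2 fun v => Subtype.ext ?_, rfl⟩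
    exact ((hCP v.2) u ⟨hu, hx⟩).symm
  refine ⟨hZ, hcent, fun u v => ?_⟩
  have hin : ∀ w ∈ frattini P, w ∈ Subgroup.center P := fun w hw => by
    obtain ⟨w', hw', he⟩ := hcent w w.2 fun x hx =>
      ((hΦ hx) w ⟨w, hw, rfl⟩).symm
    rwa [← P.subtype_injective he]
  have hcl : ∀ s t : P, ⁅s, t⁆ ∈ Subgroup.center P := fun s t => hin _
    (CfsgLib.PGroup.commutator_le_frattini hP
      (Subgroup.commutator_mem_commutator (Subgroup.mem_top s) (Subgroup.mem_top t)))
  refine ⟨hcl u v, ?_⟩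
  have hpow : ∀ k : ℕ, ⁅u, v⁆ ^ k = ⁅u, v ^ k⁆ := by
    intro k
    induction k with
    | zero => simp
    | succ k ih =>
      rw [pow_succ, pow_succ, ih]
      have h2 : (v ^ k) * ⁅u, v⁆ = ⁅u, v⁆ * (v ^ k) := Subgroup.mem_center_iff.1 (hcl u v) _
      calc ⁅u, v ^ k⁆ * ⁅u, v⁆ = ⁅u, v ^ k⁆ * (v ^ k * ⁅u, v⁆) * (v ^ k)⁻¹ := by rw [h2]; group
        _ = ⁅u, v ^ k * v⁆ := by simp only [commutatorElement_def]; group
  rw [hpow, commutatorElement_eq_one_iff_mul_comm]
  exact Subgroup.mem_center_iff.1 (hin _ (CfsgLib.PGroup.pow_mem_frattini hP v)) u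

end Minimal

/-- The coset of the centre fixed by a generator of a coprime group is central. -/
theorem fixed_coset {G : Type*} [Group G] {y u : G} {r q : ℕ} (hrq : r.Coprime q) (hy : y ^ r = 1)
    {c : G} (hc : y * u * y⁻¹ = u * c) (hyc : Commute y c) (hcq : c ^ q = 1) : y * u = u * y := by
  have h1 : ∀ k : ℕ, y ^ k * u * (y ^ k)⁻¹ = u * c ^ k := by
    intro k
    induction k with
    | zero => simp
    | succ k ih =>
      calc y ^ (k + 1) * u * (y ^ (k + 1))⁻¹ = y * (y ^ k * u * (y ^ k)⁻¹) * y⁻¹ := by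
            rw [pow_succ']; group
        _ = (y * u * y⁻¹) * (y * c ^ k * y⁻¹) := by rw [ih]; group
        _ = u * c ^ (k + 1) := by
          rw [hc, (hyc.pow_right k).eq, mul_inv_cancel_right, mul_assoc, ← pow_succ']
  have h2 := h1 r
  rw [hy] at h2
  have h3 : c ^ r = 1 := by simpa using h2.symm
  have h4 : c = 1 := by
    have := orderOf_dvd_of_pow_eq_one h3
    exact orderOf_eq_one_iff.1 (Nat.eq_one_of_dvd_coprimes hrq this (orderOf_dvd_of_pow_eq_one hcq))
  rw [h4, mul_one, mul_inv_eq_iff_eq_mul] at hc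
  exact hc

/-- An irreducible subrepresentation on which a given central element of order dividing `q` is a
nontrivial scalar. -/
theorem exists_irreducible_eigen {H : Type*} [Group H] {K : Type*} [Field K] [IsAlgClosed K]
    {V : Type*} [AddCommGroup V] [Module K V] [FiniteDimensional K V] (M : H →* Module.End K V)
    {z : H} {q : ℕ} (hqK : (q : K) ≠ 0) (hzc : ∀ g, g * z = z * g) (hzq : z ^ q = 1)
    (hMz : M z ≠ 1) :
    ∃ (W : Submodule K V) (a : H →* Module.End K W), Nontrivial W ∧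
      (∀ (g : H) (w : W), ((a g w : W) : V) = M g w) ∧
      (∀ U : Submodule K W, (∀ g, ∀ u ∈ U, a g u ∈ U) → U = ⊥ ∨ U = ⊤) ∧
      (∀ f : Module.End K W, (∀ g, a g * f = f * a g) → ∃ c : K, f = c • 1) ∧
      ∃ c : K, c ≠ 1 ∧ c ^ q = 1 ∧ a z = c • 1 := by
  classical
  have hzM : M z ^ q = 1 := by rw [← map_pow, hzq, map_one]
  let U := LinearMap.range (M z - 1)
  have hU : U ≠ ⊥ := by rw [Ne, LinearMap.range_eq_bot, sub_eq_zero]; exact hMz
  have hUinv : ∀ v ∈ U, M z v ∈ U := by
    rintro _ ⟨w, rfl⟩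
    refine ⟨M z w, ?_⟩
    rw [← Module.End.mul_apply, ← Module.End.mul_apply, mul_sub, sub_mul, mul_one, one_mul]
  haveI : Nontrivial U := Submodule.nontrivial_iff_ne_bot.2 hU
  obtain ⟨c, hc⟩ := Module.End.exists_eigenvalue ((M z).restrict hUinv)
  obtain ⟨⟨v, hvU⟩, hv, hv0⟩ := hc.exists_hasEigenvector
  have hvc : M z v = c • v := congrArg Subtype.val (Module.End.mem_eigenspace_iff.1 hv)
  have hv0' : v ≠ 0 := fun h => hv0 (Subtype.ext h)
  have hpow : ∀ i, (M z ^ i) v = c ^ i • v := by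
    intro i
    induction i with
    | zero => simp
    | succ i ih => rw [pow_succ, Module.End.mul_apply, hvc, map_smul, ih, smul_smul, pow_succ']
  have hcq : c ^ q = 1 := by
    have := hpow q
    rw [hzM, Module.End.one_apply] at this
    have h2 : (c ^ q - 1) • v = 0 := by rw [sub_smul, one_smul, ← this, sub_self]
    exact sub_eq_zero.1 ((smul_eq_zero.1 h2).resolve_right hv0')
  have hc1 : c ≠ 1 := by
    intro h
    obtain ⟨w, hw⟩ := hvU
    have h1 : (∑ i ∈ Finset.range q, M z ^ i) v = 0 := by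
      rw [← hw, ← Module.End.mul_apply, geom_sum_mul, hzM, sub_self, LinearMap.zero_apply]
    rw [LinearMap.sum_apply] at h1
    simp only [hpow, h, one_pow, one_smul, Finset.sum_const, Finset.card_range,
      ← Nat.cast_smul_eq_nsmul K] at h1
    exact hv0' ((smul_eq_zero.1 h1).resolve_left hqK)
  -- a minimal invariant subspace of the eigenspace
  let P : Submodule K V → Prop := fun W =>
    W ≠ ⊥ ∧ (∀ g, ∀ w ∈ W, M g w ∈ W) ∧ ∀ w ∈ W, M z w = c • w
  have hP : P (Module.End.eigenspace (M z) c) := by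
    refine ⟨fun h => hv0' ?_, fun g w hw => ?_, fun w hw => Module.End.mem_eigenspace_iff.1 hw⟩
    · have : v ∈ Module.End.eigenspace (M z) c := Module.End.mem_eigenspace_iff.2 hvc
      rw [h, Submodule.mem_bot] at this
      exact this
    · rw [Module.End.mem_eigenspace_iff] at hw ⊢
      rw [← Module.End.mul_apply, ← map_mul, ← hzc, map_mul, Module.End.mul_apply, hw, map_smul]
  obtain ⟨W, hW, hWmin⟩ := wellFounded_lt.has_min {W | P W} ⟨_, hP⟩
  let a : H →* Module.End K W :=
    { toFun := fun g => (M g).restrict (hW.2.1 g)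
      map_one' := by ext w : 1; exact Subtype.ext (by simp)
      map_mul' := fun g g' => by ext w : 1; exact Subtype.ext (by simp) }
  haveI hWn : Nontrivial W := Submodule.nontrivial_iff_ne_bot.2 hW.1
  have hirr : ∀ U : Submodule K W, (∀ g, ∀ u ∈ U, a g u ∈ U) → U = ⊥ ∨ U = ⊤ := by
    intro U hU
    by_cases hU0 : U = ⊥
    · exact Or.inl hU0
    right
    have hW' : P (U.map W.subtype) := by
      refine ⟨?_, ?_, fun w hw => hW.2.2 w (Submodule.map_subtype_le W _ hw)⟩
      · rw [Ne, ← Submodule.map_bot W.subtype, (Submodule.map_injective_of_injective W.injective_subtype).eq_iff]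
        exact hU0
      · rintro h _ ⟨w, hw, rfl⟩
        exact ⟨a h w, hU h w hw, rfl⟩
    have hEq : U.map W.subtype = W := (Submodule.map_subtype_le W _).eq_of_not_lt (hWmin _ hW')
    refine Submodule.eq_top_iff'.2 fun w => ?_
    have hw : (w : V) ∈ U.map W.subtype := by rw [hEq]; exact w.2
    obtain ⟨w', hw', he'⟩ := hw
    obtain rfl := Subtype.ext he'
    exact hw'
  refine ⟨W, a, hWn, fun g w => rfl, hirr, fun f hf => ?_, c, hc1, hcq, ?_⟩
  · obtain ⟨e, he⟩ := Module.End.exists_eigenvalue f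
    refine ⟨e, LinearMap.ext fun w => ?_⟩
    have htop := (hirr (Module.End.eigenspace f e) fun g u hu => by
      rw [Module.End.mem_eigenspace_iff] at hu ⊢
      rw [← Module.End.mul_apply, ← hf, Module.End.mul_apply, hu, map_smul]).resolve_left he
    exact Module.End.mem_eigenspace_iff.1 (htop ▸ Submodule.mem_top : w ∈ Module.End.eigenspace f e)
  · exact LinearMap.ext fun w => Subtype.ext (hW.2.2 w w.2)

/-- A representation over an algebraically closed field in which an element acts without fixed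
points, a given central element is a nontrivial scalar and all central elements are scalars. -/
theorem exists_scalar_rep {H : Type*} [Group H] [Finite H] {p : ℕ} [Fact p.Prime] {A : Type*}
    [CommGroup A] [Finite A] (hexp : ∀ a : A, a ^ p = 1) (φ : H →* MulAut A) (x : H) {r : ℕ}
    (hxr : x ^ r = 1) (hfix : ∀ a, φ x a = a → a = 1) {z : H} {q : ℕ}
    (hqp : (q : ZMod p) ≠ 0) (hzc : ∀ g, g * z = z * g) (hzq : z ^ q = 1) (hz : φ z ≠ 1) :
    ∃ (n : ℕ) (W : Submodule (AlgebraicClosure (ZMod p)) (Fin n → AlgebraicClosure (ZMod p)))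
      (a : H →* Module.End (AlgebraicClosure (ZMod p)) W), Nontrivial W ∧
      (∑ i ∈ Finset.range r, a x ^ i = 0) ∧
      (∀ g : H, (∀ h, a h * a g = a g * a h) → ∃ c : AlgebraicClosure (ZMod p), a g = c • 1) ∧
      ∃ c : AlgebraicClosure (ZMod p), c ≠ 1 ∧ c ^ q = 1 ∧ a z = c • 1 := by
  classical
  letI : Module (ZMod p) (Additive A) := AddCommGroup.zmodModule (n := p)
    (fun v => Additive.toMul.injective (hexp v.toMul))
  haveI : FiniteDimensional (ZMod p) (Additive A) := Module.Finite.of_finite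
  let act : H →* Module.End (ZMod p) (Additive A) :=
    { toFun := fun g => (MonoidHom.toAdditive (φ g).toMonoidHom).toZModLinearMap p
      map_one' := by ext w; simp
      map_mul' := fun a b => by ext w; simp }
  let b := Module.finBasis (ZMod p) (Additive A)
  let K := AlgebraicClosure (ZMod p)
  let n := Module.finrank (ZMod p) (Additive A)
  let F : Module.End (ZMod p) (Additive A) →+* Module.End K (Fin n → K) :=
    (Matrix.toLinAlgEquiv' (R := K)).toRingEquiv.toRingHom.comp
      ((algebraMap (ZMod p) K).mapMatrix.comp (LinearMap.toMatrixAlgEquiv b).toRingEquiv.toRingHom)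
  have hF : Function.Injective F := by
    refine (Matrix.toLinAlgEquiv' (R := K)).injective.comp ?_
    intro f g hfg
    refine (LinearMap.toMatrixAlgEquiv b).injective ?_
    exact Matrix.map_injective (algebraMap (ZMod p) K).injective hfg
  let M : H →* Module.End K (Fin n → K) := F.toMonoidHom.comp act
  have hactsum : ∑ i ∈ Finset.range r, act x ^ i = 0 := by
    have h1 : act x * ∑ i ∈ Finset.range r, act x ^ i = ∑ i ∈ Finset.range r, act x ^ i := by
      have h2 := mul_geom_sum (act x) r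
      rw [← map_pow, hxr, map_one, sub_self, sub_mul, one_mul, sub_eq_zero] at h2
      exact h2
    refine LinearMap.ext fun v => ?_
    have h3 := LinearMap.congr_fun h1 v
    rw [Module.End.mul_apply] at h3
    exact Additive.toMul.injective (hfix _ (congrArg Additive.toMul h3))
  have hMsum : ∑ i ∈ Finset.range r, M x ^ i = 0 := by
    have := congrArg F hactsum
    rw [map_sum, map_zero] at this
    simpa [M, map_pow] using this
  have hMz : M z ≠ 1 := by
    intro h
    refine hz (MulEquiv.ext fun v => ?_)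
    have h1 : act z = 1 := hF (by rw [map_one]; exact h)
    exact congrArg Additive.toMul (LinearMap.congr_fun h1 (Additive.ofMul v))
  -- an eigenvalue of `z` different from one
  have hqK : (q : K) ≠ 0 := fun h => hqp ((algebraMap (ZMod p) K).injective (by rw [map_natCast, h, map_zero]))
  obtain ⟨W, a, hWn, haM, -, hscal, c, hc1, hcq, hca⟩ :=
    exists_irreducible_eigen M hqK hzc hzq hMz
  haveI := hWn
  have hapow : ∀ (i : ℕ) (w : W), ((a x ^ i) w : Fin n → K) = (M x ^ i) (w : Fin n → K) := by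
    intro i
    induction i with
    | zero => intro w; rfl
    | succ i ih => intro w; rw [pow_succ, Module.End.mul_apply, ih, pow_succ, Module.End.mul_apply, haM]
  refine ⟨n, W, a, hWn, ?_, fun g hg => hscal (a g) hg, c, hc1, hcq, hca⟩
  refine LinearMap.ext fun w => Subtype.ext ?_
  rw [LinearMap.sum_apply, Submodule.coe_sum]
  simp only [hapow, ← LinearMap.sum_apply, hMsum, LinearMap.zero_apply]
  rfl

/-- The class-two configuration forces `q = 2` and `r = 2 ^ n + 1`. -/
theorem class_two_prime_bound {H : Type*} [Group H] [Finite H] {q r : ℕ} [Fact q.Prime]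
    (hr : r.Prime) (hqr : q ≠ r) {K : Type*} [Field K] [IsAlgClosed K] (hrK : (r : K) ≠ 0)
    (hqK : (q : K) ≠ 0) {W : Type*} [AddCommGroup W] [Module K W] [FiniteDimensional K W]
    [Nontrivial W] (a : H →* Module.End K W) (P : Subgroup H) (x : H) (hP : IsPGroup q P)
    (hsup : P ⊔ Subgroup.zpowers x = ⊤) (hx : x ^ r = 1)
    (hxP : x ∈ Subgroup.normalizer (P : Set H))
    (hcl : ∀ u v : P, ⁅u, v⁆ ∈ Subgroup.center P)
    (hQ : Nat.card (commutator P) = q)
    (hxZ : ∀ z : P, z ∈ Subgroup.center P → x * (z : H) = (z : H) * x)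
    (hcent : ∀ u : P, x * (u : H) = (u : H) * x → u ∈ Subgroup.center P)
    (hscal : ∀ g : H, (∀ h, h * g = g * h) → ∃ c : K, a g = c • 1)
    (hinj : ∀ g ∈ commutator P, a (g : H) = 1 → g = 1)
    (hsum : ∑ i ∈ Finset.range r, a x ^ i = 0) :
    q = 2 ∧ ∃ n : ℕ, 0 < n ∧ r = 2 ^ n + 1 ∧ Nat.card (P ⧸ Subgroup.center P) = 2 ^ (2 * n) := by
  classical
  haveI : Fintype P := Fintype.ofFinite P
  have hgen : ∀ g : H, g ∈ Subgroup.closure ((P : Set H) ∪ {x}) := fun g => by
    rw [Subgroup.closure_union, Subgroup.closure_eq, ← Subgroup.zpowers_eq_closure, hsup]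
    exact Subgroup.mem_top g
  have hcentral : ∀ z : P, z ∈ Subgroup.center P → ∀ g : H, g * (z : H) = (z : H) * g := fun z hz g => by
    induction hgen g using Subgroup.closure_induction with
    | mem y hy =>
      rcases hy with hy | rfl
      · exact congrArg Subtype.val (Subgroup.mem_center_iff.1 hz ⟨y, hy⟩)
      · exact hxZ z hz
    | one => rw [one_mul, mul_one]
    | mul y y' _ _ h1 h2 => exact (Commute.mul_left h1 h2).eq
    | inv y _ h1 => exact (Commute.inv_left h1).eq
  let aP : P →* Module.End K W := a.comp P.subtype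
  have S : CfsgLib.Twisted.Setting aP := by
    refine ⟨hcl, fun z hz => hscal _ (hcentral z hz), fun e he => ?_, ?_⟩
    · by_contra hcon
      push Not at hcon
      refine he (Subgroup.mem_center_iff.2 fun u => commutatorElement_eq_one_iff_mul_comm.1 ?_)
      exact hinj _ (Subgroup.commutator_mem_commutator (Subgroup.mem_top u) (Subgroup.mem_top e)) (hcon u)
    · obtain ⟨k, hk⟩ := IsPGroup.iff_card.1 hP
      rw [← Nat.card_eq_fintype_card, hk, Nat.cast_pow]
      exact pow_ne_zero _ hqK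
  let σ : MulAut P := P.normalizerMonoidHom ⟨x, hxP⟩
  have hσval : ∀ (i : ℕ) (u : P), (((σ ^ i) u : P) : H) = x ^ i * u * (x ^ i)⁻¹ := fun i u => by
    rw [← map_pow]
    rfl
  have hσ : σ ^ r = 1 := MulEquiv.ext fun u => Subtype.ext (by rw [hσval, hx]; simp)
  refine CfsgLib.Twisted.prime_bound S hQ (a x) σ hr hrK hσ ?_ (by rw [← map_pow, hx, map_one]) ?_ hsum
  · intro i hi hir u hu
    set c : P := u⁻¹ * (σ ^ i) u with hcdef
    have hcx : Commute (x ^ i) (c : H) := Commute.pow_left (hxZ c hu) i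
    obtain ⟨k, hk⟩ := hP c
    have hcq : (c : H) ^ q ^ k = 1 := by rw [← Subgroup.coe_pow, hk, Subgroup.coe_one]
    have h1 : x ^ i * u * (x ^ i)⁻¹ = (u : H) * (c : H) := by
      rw [hcdef, Subgroup.coe_mul, Subgroup.coe_inv, mul_inv_cancel_left, hσval]
    have h2 := fixed_coset (r := r) (q := q ^ k)
      (Nat.Coprime.pow_right _ ((Nat.coprime_primes hr Fact.out).2 (Ne.symm hqr)))
      (by rw [← pow_mul, mul_comm, pow_mul, hx, one_pow]) h1 hcx hcq
    refine hcent u ?_
    -- `x` is a power of `x ^ i`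
    have hcop : i.Coprime r :=
      Nat.Coprime.symm (hr.coprime_iff_not_dvd.2 (Nat.not_dvd_of_pos_of_lt hi hir))
    obtain ⟨j, hj⟩ := exists_pow_eq_self_of_coprime (x := x) (n := i)
      (Nat.Coprime.coprime_dvd_right (orderOf_dvd_of_pow_eq_one hx) hcop)
    have h3 : Commute (x ^ i) (u : H) := h2
    have h4 := h3.pow_left j
    rw [hj] at h4
    exact h4.eq
  · intro u
    show a x * a (u : H) = a ((σ u : P) : H) * a x
    rw [← map_mul, ← map_mul]
    congr 1
    have := hσval 1 u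
    rw [pow_one, pow_one] at this
    rw [this]
    group

set_option maxHeartbeats 800000 in
/-- The image of a minimal configuration in a representation with scalar centre. -/
theorem image_bound {H : Type*} [Group H] [Finite H] {q r : ℕ} [Fact q.Prime]
    (hr : r.Prime) (hqr : q ≠ r) {K : Type*} [Field K] [IsAlgClosed K] (hrK : (r : K) ≠ 0)
    (hqK : (q : K) ≠ 0) {W : Type*} [AddCommGroup W] [Module K W] [FiniteDimensional K W]
    [Nontrivial W] (a : H →* Module.End K W) (U : Subgroup H) (x : H) (hU : IsPGroup q U)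
    (hsup : U ⊔ Subgroup.zpowers x = ⊤) (hx : x ^ r = 1)
    (hxU : x ∈ Subgroup.normalizer (U : Set H))
    (hmin : ∀ V ≤ U, V ≠ U → Subgroup.zpowers x ≤ Subgroup.normalizer (V : Set H) →
      Subgroup.zpowers x ≤ Subgroup.centralizer (V : Set H))
    (hUX : ⁅U, Subgroup.zpowers x⁆ = U) (u₀ v₀ : U) (hz : a ((⁅u₀, v₀⁆ : U) : H) ≠ 1)
    (hscal : ∀ g : H, (∀ h, a h * a g = a g * a h) → ∃ c : K, a g = c • 1)
    (hsum : ∑ i ∈ Finset.range r, a x ^ i = 0) :
    q = 2 ∧ ∃ n : ℕ, r = 2 ^ n + 1 := by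
  classical
  let π : H →* H ⧸ a.ker := QuotientGroup.mk' a.ker
  have hπ : Function.Surjective π := QuotientGroup.mk'_surjective _
  let Ub := U.map π
  let xb := π x
  have hxb : xb ∈ Subgroup.normalizer (Ub : Set (H ⧸ a.ker)) :=
    Subgroup.le_normalizer_map π ⟨x, hxU, rfl⟩
  have hUb : IsPGroup q Ub := hU.map π
  have hXb : Subgroup.zpowers xb = (Subgroup.zpowers x).map π := (MonoidHom.map_zpowers π x).symm
  have hxbr : xb ^ r = 1 := by rw [← map_pow, hx, map_one]
  have hcopb : (Nat.card (Subgroup.zpowers xb)).Coprime (Nat.card Ub) := by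
    obtain ⟨k, hk⟩ := IsPGroup.iff_card.1 hUb
    rw [hk, Nat.card_zpowers]
    exact Nat.Coprime.pow_right _ (((Nat.coprime_primes hr Fact.out).2 (Ne.symm hqr)).coprime_dvd_left
      (orderOf_dvd_of_pow_eq_one hxbr))
  have hminb : ∀ V ≤ Ub, V ≠ Ub → Subgroup.zpowers xb ≤ Subgroup.normalizer (V : Set (H ⧸ a.ker)) →
      Subgroup.zpowers xb ≤ Subgroup.centralizer (V : Set (H ⧸ a.ker)) := by
    intro V hV hVne hxV
    have h3 : V.comap π ⊓ U ≠ U := by
      intro h
      refine hVne (le_antisymm hV ?_)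
      rintro _ ⟨w, hw, rfl⟩
      exact (h.ge hw).1
    have h2 : Subgroup.zpowers x ≤ Subgroup.normalizer ((V.comap π ⊓ U : Subgroup H) : Set H) :=
      fun y hy => Subgroup.mem_normalizer_iff.2 fun w => and_congr
        (by
          show π w ∈ V ↔ π (y * w * y⁻¹) ∈ V
          rw [map_mul, map_mul, map_inv]
          exact Subgroup.mem_normalizer_iff.1 (hxV (hXb ▸ Subgroup.mem_map_of_mem π hy)) (π w))
        (Subgroup.mem_normalizer_iff.1 (Subgroup.zpowers_le.2 hxU hy) w)
    have h4 := hmin _ inf_le_right h3 h2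
    rw [Subgroup.zpowers_le]
    intro v hv
    obtain ⟨w, hw, rfl⟩ := hV hv
    rw [← map_mul, ← map_mul, h4 (Subgroup.mem_zpowers x) w ⟨hv, hw⟩]
  have hu : ∀ u : U, π (u : H) ∈ Ub := fun u => ⟨_, u.2, rfl⟩
  have hzb : π ((⁅u₀, v₀⁆ : U) : H) ≠ 1 := fun h => hz ((QuotientGroup.eq_one_iff _).1 h)
  have hUbna : ¬ IsMulCommutative Ub := by
    intro h
    refine hzb ?_
    show π (⁅(u₀ : H), (v₀ : H)⁆) = 1
    rw [map_commutatorElement, commutatorElement_eq_one_iff_mul_comm]
    exact setLike_mul_comm (hu u₀) (hu v₀)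
  have hneb : ¬ Subgroup.zpowers xb ≤ Subgroup.centralizer (Ub : Set (H ⧸ a.ker)) := by
    intro h
    refine hzb ?_
    have h1 : U.map π = ⊥ := by
      rw [← hUX, Subgroup.map_commutator, ← hXb, Subgroup.commutator_eq_bot_iff_le_centralizer,
        Subgroup.le_centralizer_iff]
      exact h
    have : π ((⁅u₀, v₀⁆ : U) : H) ∈ U.map π := hu _
    rwa [h1, Subgroup.mem_bot] at this
  obtain ⟨-, hsb⟩ := minimal_invariant_structure hUb (Subgroup.zpowers_le.2 hxb) hcopb hminb hneb
  obtain ⟨hXZb, hcentb, hclb⟩ := hsb hUbna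
  let ab : H ⧸ a.ker →* Module.End K W := QuotientGroup.lift a.ker a le_rfl
  have habinj : Function.Injective ab := by
    intro u v huv
    obtain ⟨g, rfl⟩ := hπ u
    obtain ⟨g', rfl⟩ := hπ v
    refine QuotientGroup.eq.2 ?_
    rw [MonoidHom.mem_ker, map_mul]
    have h1 : a g = a g' := huv
    rw [← h1, ← map_mul, inv_mul_cancel, map_one]
  have hscalb : ∀ g : H ⧸ a.ker, (∀ h, h * g = g * h) → ∃ e : K, ab g = e • 1 := by
    intro g hg
    obtain ⟨g, rfl⟩ := hπ g
    refine hscal g fun h => ?_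
    have h1 := congrArg ab (hg (π h))
    rw [map_mul, map_mul] at h1
    exact h1
  have hsupb : Ub ⊔ Subgroup.zpowers xb = ⊤ := by
    rw [hXb, ← Subgroup.map_sup, hsup, Subgroup.map_top_of_surjective π hπ]
  have hxbZ : ∀ w : Ub, w ∈ Subgroup.center Ub → xb * (w : H ⧸ a.ker) = (w : H ⧸ a.ker) * xb := fun w hw =>
    ((hXZb (Subgroup.mem_zpowers xb)) _ ⟨w, hw, rfl⟩).symm
  have hcentb' : ∀ w : Ub, xb * (w : H ⧸ a.ker) = (w : H ⧸ a.ker) * xb → w ∈ Subgroup.center Ub := by
    intro w hw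
    obtain ⟨w', hw', he⟩ := hcentb w w.2 fun y hy => by
      obtain ⟨j, rfl⟩ := Subgroup.mem_zpowers_iff.1 hy
      exact (Commute.zpow_left hw j).eq
    rwa [← Ub.subtype_injective he]
  -- the commutator subgroup of the image has order `q`
  have hD : ∀ g ∈ commutator Ub, g ∈ Subgroup.center Ub ∧ g ^ q = 1 := by
    intro g hg
    rw [commutator_def, Subgroup.commutator_def] at hg
    induction hg using Subgroup.closure_induction with
    | mem y hy => obtain ⟨u, -, v, -, rfl⟩ := hy; exact hclb u v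
    | one => exact ⟨one_mem _, one_pow _⟩
    | mul y y' _ _ h1 h2 =>
      refine ⟨mul_mem h1.1 h2.1, ?_⟩
      rw [Commute.mul_pow (Subgroup.mem_center_iff.1 h1.1 y').symm, h1.2, h2.2, one_mul]
    | inv y _ h1 => exact ⟨inv_mem h1.1, by rw [inv_pow, h1.2, inv_one]⟩
  have hDscal : ∀ g : commutator Ub, ∃ e : K,
      ab ((g : Ub) : H ⧸ a.ker) = e • 1 := by
    intro g
    refine hscalb _ fun h => ?_
    have hgc := (hD g.1 g.2).1
    have hh : h ∈ Ub ⊔ Subgroup.zpowers xb := by rw [hsupb]; exact Subgroup.mem_top h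
    obtain ⟨u, hu, y, hy, rfl⟩ :=
      (CfsgLib.Solvable.mem_sup_of_le_normalizer (Subgroup.zpowers_le.2 hxb)).1 hh
    have h1 : Commute u ((g : Ub) : H ⧸ a.ker) :=
      congrArg Subtype.val (Subgroup.mem_center_iff.1 hgc ⟨u, hu⟩)
    obtain ⟨j, rfl⟩ := Subgroup.mem_zpowers_iff.1 hy
    exact (h1.mul_left (Commute.zpow_left (hxbZ _ hgc) j)).eq
  choose e he using hDscal
  have hsinj : ∀ s t : K, s • (1 : Module.End K W) = t • 1 → s = t := by
    intro s t hst
    by_contra hne'
    obtain ⟨w, hw⟩ := exists_ne (0 : W)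
    have h2 := LinearMap.congr_fun hst w
    rw [LinearMap.smul_apply, LinearMap.smul_apply, Module.End.one_apply, ← sub_eq_zero, ← sub_smul] at h2
    exact hne' (sub_eq_zero.1 ((smul_eq_zero.1 h2).resolve_right hw))
  let f : commutator Ub →* K :=
    { toFun := e
      map_one' := hsinj _ _ (by rw [← he, one_smul]; exact map_one ab)
      map_mul' := fun g g' => hsinj _ _ (by
        rw [← he, Subgroup.coe_mul, Subgroup.coe_mul, map_mul, he, he, smul_mul_smul_comm, one_mul]) }
  have hf : Function.Injective f := fun g g' h => by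
    refine Subtype.ext (Subtype.ext (habinj ?_))
    rw [he, he]
    exact congrArg (· • (1 : Module.End K W)) h
  haveI : IsCyclic (commutator Ub) := isCyclic_of_subgroup_isDomain f hf
  have hQ : Nat.card (commutator Ub) = q := by
    have h1 : Monoid.exponent (commutator Ub) ∣ q :=
      Monoid.exponent_dvd_of_forall_pow_eq_one fun g => Subtype.ext (hD g.1 g.2).2
    rw [IsCyclic.exponent_eq_card] at h1
    refine ((Fact.out : q.Prime).eq_one_or_self_of_dvd _ h1).resolve_left fun h2 => hzb ?_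
    rw [Subgroup.card_eq_one] at h2
    have hu : ∀ u : U, π (u : H) ∈ Ub := fun u => ⟨_, u.2, rfl⟩
    have hmem : ⁅(⟨_, hu u₀⟩ : Ub), (⟨_, hu v₀⟩ : Ub)⁆ ∈ commutator Ub :=
      Subgroup.commutator_mem_commutator (Subgroup.mem_top _) (Subgroup.mem_top _)
    rw [h2, Subgroup.mem_bot] at hmem
    exact congrArg Subtype.val hmem
  obtain ⟨hq2, m, -, hrm, -⟩ := class_two_prime_bound hr hqr hrK hqK ab Ub xb hUb hsupb hxbr hxb
    (fun u v => (hclb u v).1) hQ hxbZ hcentb' hscalb
    (fun g _ hg => Subtype.ext (habinj (by rw [hg]; exact (map_one ab).symm)))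
    hsum
  exact ⟨hq2, m, hrm⟩

/-- A group of prime order fixes a point in a faithful module of a `q`-group that it normalizes
without centralizing it, outside the exceptional case. -/
theorem exists_fixed_of_prime_action {G : Type*} [Group G] [Finite G] {p q r : ℕ} [Fact p.Prime]
    [Fact q.Prime] (hr : r.Prime) (hpq : p ≠ q) (hpr : p ≠ r) (hqr : q ≠ r)
    {A : Type*} [CommGroup A] [Finite A] (hexp : ∀ a : A, a ^ p = 1) (φ : G →* MulAut A)
    (P X : Subgroup G) (hX : Nat.card X = r) (hXP : X ≤ Subgroup.normalizer (P : Set G))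
    (hP : IsPGroup q P) (hker : ∀ g ∈ P, φ g = 1 → g = 1)
    (hne : ¬ X ≤ Subgroup.centralizer (P : Set G))
    (hexc : q = 2 → (∃ n : ℕ, r = 2 ^ n + 1) → IsMulCommutative P) :
    ∃ a : A, a ≠ 1 ∧ ∀ g ∈ X, φ g a = a := by
  classical
  by_contra hcon
  push Not at hcon
  have hfix : ∀ a, (∀ g ∈ X, φ g a = a) → a = 1 := fun a ha => by
    by_contra h
    obtain ⟨g, hg, hga⟩ := hcon a h
    exact hga (ha g hg)
  obtain ⟨U, hU⟩ := (Set.toFinite {U : Subgroup G | U ≤ P ∧ X ≤ Subgroup.normalizer (U : Set G) ∧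
    ¬ X ≤ Subgroup.centralizer (U : Set G)}).exists_minimal ⟨P, le_rfl, hXP, hne⟩
  obtain ⟨⟨hUP, hXU, hUne⟩, hUmin⟩ := hU
  have hmin : ∀ V ≤ U, V ≠ U → X ≤ Subgroup.normalizer (V : Set G) →
      X ≤ Subgroup.centralizer (V : Set G) := fun V hVU hVne hXV => by
    by_contra h
    exact hVne (le_antisymm hVU (hUmin ⟨hVU.trans hUP, hXV, h⟩ hVU))
  have hUq : IsPGroup q U := hP.to_le hUP
  obtain ⟨k, hk⟩ := IsPGroup.iff_card.1 hUq
  have hcop : (Nat.card X).Coprime (Nat.card U) := by
    rw [hX, hk]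
    exact Nat.Coprime.pow_right _ ((Nat.coprime_primes hr Fact.out).2 (Ne.symm hqr))
  obtain ⟨hUX, hstr⟩ := minimal_invariant_structure hUq hXU hcop hmin hUne
  have hUbot : U ≠ ⊥ := fun h => hUne (h ▸ fun x _ v hv => by rw [Subgroup.mem_bot.1 hv]; simp)
  obtain ⟨x, hxX, hx1⟩ : ∃ x ∈ X, x ≠ 1 := (X.bot_or_exists_ne_one).resolve_left fun h =>
    hr.one_lt.ne' (by rw [← hX, h, Subgroup.card_bot])
  have hXgen : ∀ y ∈ X, y ≠ 1 → X = Subgroup.zpowers y := fun y hy hy1 => by
    refine (Subgroup.eq_of_le_of_card_ge (Subgroup.zpowers_le.2 hy) ?_).symm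
    rw [Nat.card_zpowers, hX]
    exact ((hr.eq_one_or_self_of_dvd _ (hX ▸ Subgroup.orderOf_dvd_natCard X hy)).resolve_left
      (fun h => hy1 (orderOf_eq_one_iff.1 h))).ge
  have hxr : x ^ r = 1 := by
    have := pow_card_eq_one' (x := (⟨x, hxX⟩ : X))
    rw [hX] at this
    exact congrArg Subtype.val this
  by_cases hab : IsMulCommutative U
  · -- abelian case
    haveI := hab
    have hUC : U ⊓ Subgroup.centralizer (X : Set G) = ⊥ := by
      have := CfsgLib.Solvable.centralizer_inf_commutator_eq_bot (V := U) (A := X) hXU hcop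
      rwa [hUX, inf_eq_left.2 (inf_le_left : U ⊓ Subgroup.centralizer (X : Set G) ≤ U)] at this
    have hfpf : ∀ y ∈ X, y ≠ 1 → U ⊓ Subgroup.centralizer {y} = ⊥ := fun y hy hy1 => by
      rw [eq_bot_iff, ← hUC, hXgen y hy hy1, Subgroup.zpowers_eq_closure, Subgroup.centralizer_closure]
    have hX1 : X ≠ ⊥ := fun h => hr.one_lt.ne' (by rw [← hX, h, Subgroup.card_bot])
    have hdisj : U ⊓ X = ⊥ := Subgroup.inf_eq_bot_of_coprime hcop.symm
    obtain ⟨hn, hc, hF⟩ := frobenius_sup hXU hUbot hX1 hdisj hfpf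
    haveI := hn
    have hcards : ¬ p ∣ Nat.card ↥(U ⊔ X) := by
      rw [← hc.card_mul_card, Nat.card_congr (Subgroup.subgroupOfEquivOfLe le_sup_left).toEquiv,
        Nat.card_congr (Subgroup.subgroupOfEquivOfLe le_sup_right).toEquiv, hk, hX]
      intro h
      rcases (Fact.out : p.Prime).dvd_mul.1 h with h1 | h1
      · exact hpq ((Nat.prime_dvd_prime_iff_eq Fact.out Fact.out).1 ((Fact.out : p.Prime).dvd_of_dvd_pow h1))
      · exact hpr ((Nat.prime_dvd_prime_iff_eq Fact.out hr).1 h1)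
    obtain ⟨d, hd, key⟩ := exists_frobenius_dim (ℓ := p) hexp (φ.comp (U ⊔ X).subtype) hcards hc hF
    have hone : ∀ S : Subgroup ↥(U ⊔ X), (∀ g ∈ X.subgroupOf (U ⊔ X), g ∈ S) → d S = 0 := by
      intro S hS
      have h1 : Nat.card {a : A // ∀ s ∈ S, φ (s : G) a = a} = 1 := by
        rw [Nat.card_eq_one_iff_unique]
        refine ⟨⟨fun a b => Subtype.ext ?_⟩, ⟨⟨1, fun s _ => map_one _⟩⟩⟩
        rw [hfix a.1 fun g hg => a.2 ⟨g, Subgroup.mem_sup_right hg⟩ (hS _ hg),
          hfix b.1 fun g hg => b.2 ⟨g, Subgroup.mem_sup_right hg⟩ (hS _ hg)]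
      have h2 := hd S
      rw [show Nat.card {a : A // ∀ s ∈ S, ((φ.comp (U ⊔ X).subtype) s) a = a} = 1 from h1] at h2
      exact (Nat.pow_eq_one.1 h2.symm).resolve_left (Fact.out : p.Prime).ne_one
    rw [hone ⊤ (fun g _ => Subgroup.mem_top g), hone _ (fun g hg => hg), mul_zero, zero_add,
      zero_add] at key
    have hall : ∀ u ∈ U, φ u = 1 := by
      intro u hu
      have hsub : {a : A | ∀ s ∈ U.subgroupOf (U ⊔ X), φ (s : G) a = a} = Set.univ := by
        refine Set.eq_univ_of_forall fun a => ?_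
        have hcard : Nat.card {a : A // ∀ s ∈ U.subgroupOf (U ⊔ X), ((φ.comp (U ⊔ X).subtype) s) a = a} =
            Nat.card A := by
          rw [hd, ← key, ← hd]
          exact Nat.card_congr (Equiv.subtypeUnivEquiv fun a s hs => by
            rw [Subgroup.mem_bot.1 hs, map_one]; rfl)
        obtain ⟨b, hb⟩ := ((Nat.bijective_iff_injective_and_card
          (Subtype.val : {a : A // ∀ s ∈ U.subgroupOf (U ⊔ X), ((φ.comp (U ⊔ X).subtype) s) a = a} → A)).2
          ⟨Subtype.val_injective, hcard⟩).2 a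
        exact hb ▸ b.2
      refine MulEquiv.ext fun a => ?_
      exact (Set.eq_univ_iff_forall.1 hsub a) ⟨u, Subgroup.mem_sup_left hu⟩ hu
    exact hUbot (eq_bot_iff.2 fun u hu => Subgroup.mem_bot.2 (hker u (hUP hu) (hall u hu)))
  -- nonabelian case
  obtain ⟨-, -, hcl⟩ := hstr hab
  obtain ⟨u₀, v₀, huv⟩ : ∃ u v : U, ⁅u, v⁆ ≠ 1 := by
    by_contra h
    push Not at h
    exact hab ⟨⟨fun u v => commutatorElement_eq_one_iff_mul_comm.1 (h u v)⟩⟩
  set L := U ⊔ X with hL
  let U' := U.subgroupOf L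
  let x' : L := ⟨x, Subgroup.mem_sup_right hxX⟩
  let z : L := ⟨((⁅u₀, v₀⁆ : U) : G), Subgroup.mem_sup_left (⁅u₀, v₀⁆ : U).2⟩
  have hzZ := (hcl u₀ v₀).1
  obtain ⟨hXZ, hcent, -⟩ := hstr hab
  have hzc : ∀ g : L, g * z = z * g := by
    rintro ⟨g, hg⟩
    apply Subtype.ext
    obtain ⟨u, hu, y, hy, rfl⟩ := (CfsgLib.Solvable.mem_sup_of_le_normalizer hXU).1 hg
    have h1 : Commute u ((⁅u₀, v₀⁆ : U) : G) :=
      congrArg Subtype.val (Subgroup.mem_center_iff.1 hzZ ⟨u, hu⟩)
    have h2 : Commute y ((⁅u₀, v₀⁆ : U) : G) := (hXZ hy _ ⟨_, hzZ, rfl⟩).symm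
    exact (h1.mul_left h2).eq
  have hqp : (q : ZMod p) ≠ 0 := by
    rw [Ne, ZMod.natCast_eq_zero_iff]
    exact fun h => hpq ((Nat.prime_dvd_prime_iff_eq Fact.out Fact.out).1 h)
  have hfix' : ∀ a, (φ.comp L.subtype) x' a = a → a = 1 := fun a ha => hfix a fun g hg => by
    rw [hXgen x hxX hx1] at hg
    obtain ⟨j, rfl⟩ := Subgroup.mem_zpowers_iff.1 hg
    rw [map_zpow]
    have hst : φ x ∈ MulAction.stabilizer (MulAut A) a := ha
    exact zpow_mem hst j
  obtain ⟨n, W, a, hWn, hsum, hscal, c, hc1, hcq, hca⟩ := exists_scalar_rep hexp (φ.comp L.subtype) x'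
    (r := r) (z := z) (q := q) (Subtype.ext hxr) hfix' hqp hzc
    (Subtype.ext (by
      have h9 : ((⁅u₀, v₀⁆ ^ q : U) : G) = ((1 : U) : G) := congrArg Subtype.val (hcl u₀ v₀).2
      rw [Subgroup.coe_pow] at h9 ⊢
      exact h9))
    (fun h => huv (Subtype.ext (hker _ (hUP (⁅u₀, v₀⁆ : U).2) h)))
  haveI := hWn
  have hrK : (r : AlgebraicClosure (ZMod p)) ≠ 0 := fun h => hpr <| (Nat.prime_dvd_prime_iff_eq Fact.out hr).1 <| by
    rw [← ZMod.natCast_eq_zero_iff]
    exact (algebraMap (ZMod p) (AlgebraicClosure (ZMod p))).injective (by rw [map_natCast, h, map_zero])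
  have hqK : (q : AlgebraicClosure (ZMod p)) ≠ 0 := fun h =>
    hqp ((algebraMap (ZMod p) (AlgebraicClosure (ZMod p))).injective (by rw [map_natCast, h, map_zero]))
  have hxX' : Subgroup.zpowers x' = X.subgroupOf L := by
    apply Subgroup.map_injective L.subtype_injective
    rw [MonoidHom.map_zpowers, Subgroup.map_subgroupOf_eq_of_le le_sup_right]
    exact (hXgen x hxX hx1).symm
  have hUX' : ⁅U', Subgroup.zpowers x'⁆ = U' := by
    apply Subgroup.map_injective L.subtype_injective
    rw [hxX', Subgroup.map_commutator, Subgroup.map_subgroupOf_eq_of_le le_sup_left,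
      Subgroup.map_subgroupOf_eq_of_le le_sup_right, hUX]
  have hsup' : U' ⊔ Subgroup.zpowers x' = ⊤ := by
    rw [hxX', ← Subgroup.subgroupOf_sup le_sup_left le_sup_right, Subgroup.subgroupOf_self]
  have hxU' : x' ∈ Subgroup.normalizer (U' : Set L) :=
    Subgroup.mem_normalizer_iff.2 fun g => Subgroup.mem_normalizer_iff.1 (hXU hxX) (g : G)
  have hmin' : ∀ V ≤ U', V ≠ U' → Subgroup.zpowers x' ≤ Subgroup.normalizer (V : Set L) →
      Subgroup.zpowers x' ≤ Subgroup.centralizer (V : Set L) := by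
    intro V hV hVne hxV
    have h1 : V.map L.subtype ≤ U := by
      rintro _ ⟨w, hw, rfl⟩
      exact hV hw
    have h2 : V.map L.subtype ≠ U := fun h => hVne (by
      apply Subgroup.map_injective L.subtype_injective
      rw [h, Subgroup.map_subgroupOf_eq_of_le le_sup_left])
    have h3 : X ≤ Subgroup.normalizer ((V.map L.subtype : Subgroup G) : Set G) := by
      rw [hXgen x hxX hx1, Subgroup.zpowers_le]
      exact Subgroup.le_normalizer_map L.subtype ⟨x', hxV (Subgroup.mem_zpowers x'), rfl⟩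
    have h4 := hmin _ h1 h2 h3
    rw [Subgroup.zpowers_le]
    intro v hv
    exact Subtype.ext (h4 hxX (v : G) ⟨v, hv, rfl⟩)
  have hz' : a z ≠ 1 := by
    intro h1
    rw [hca] at h1
    obtain ⟨w, hw⟩ := exists_ne (0 : W)
    have h2 := LinearMap.congr_fun h1 w
    rw [LinearMap.smul_apply, Module.End.one_apply] at h2
    exact hc1 (smul_left_injective _ hw (h2.trans (one_smul _ w).symm))
  obtain ⟨hq2, m, hrm⟩ := image_bound hr hqr hrK hqK a U' x'
    (hUq.of_equiv (Subgroup.subgroupOfEquivOfLe le_sup_left).symm) hsup' (Subtype.ext hxr) hxU' hmin' hUX'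
    ⟨⟨(u₀ : G), Subgroup.mem_sup_left u₀.2⟩, u₀.2⟩ ⟨⟨(v₀ : G), Subgroup.mem_sup_left v₀.2⟩, v₀.2⟩ hz'
    hscal hsum
  haveI := hexc hq2 ⟨m, hrm⟩
  exact hab ⟨⟨fun u v => Subtype.ext (setLike_mul_comm (hUP u.2) (hUP v.2))⟩⟩

end CfsgLib.Frobenius
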