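import Cfsg.Prelude.Def_Transfer
import Mathlib

/-!
The endomorphism algebra of a representation of a group of class two with scalar centre, and the
centralizer of an operator permuting the cosets of the centre freely.
-/

set_option autoImplicit false
set_option linter.style.haveILetI false

open scoped commutatorElement

namespace CfsgLib.Twisted

variable {K : Type*} [Field K] {W : Type*} [AddCommGroup W] [Module K W]
variable {Q : Type*} [Group Q]

/-- The endomorphisms commuting with the image of a representation. -/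
def commEnd (a : Q →* Module.End K W) : Submodule K (Module.End K W) where
  carrier := {f | ∀ u, a u * f = f * a u}
  add_mem' {f g} hf hg u := by rw [mul_add, add_mul, hf, hg]
  zero_mem' u := by rw [mul_zero, zero_mul]
  smul_mem' c f hf u := by rw [mul_smul_comm, smul_mul_assoc, hf]

theorem mem_commEnd {a : Q →* Module.End K W} {f : Module.End K W} :
    f ∈ commEnd a ↔ ∀ u, a u * f = f * a u := Iff.rfl

/-- A class-two group acting with scalar, nondegenerate commutator pairing. -/
structure Setting [Fintype Q] (a : Q →* Module.End K W) : Prop where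
  cls : ∀ u d : Q, ⁅u, d⁆ ∈ Subgroup.center Q
  scalar : ∀ z ∈ Subgroup.center Q, ∃ c : K, a z = c • 1
  nondeg : ∀ e : Q, e ∉ Subgroup.center Q → ∃ u : Q, a ⁅u, e⁆ ≠ 1
  card_ne : (Fintype.card Q : K) ≠ 0

variable [Fintype Q] {a : Q →* Module.End K W}

/-- The coefficient map at `c`. -/
noncomputable def coord (a : Q →* Module.End K W) (c : Q) :
    Module.End K W →ₗ[K] Module.End K W :=
  ∑ u : Q, LinearMap.mulLeftRight K (a u, a (c⁻¹ * u⁻¹))

theorem coord_apply (c : Q) (φ : Module.End K W) :
    coord a c φ = ∑ u : Q, a u * φ * a (c⁻¹ * u⁻¹) := by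
  simp [coord, LinearMap.mulLeftRight_apply]

theorem coord_mem (c : Q) (φ : Module.End K W) : coord a c φ ∈ commEnd a := by
  intro v
  rw [coord_apply, Finset.mul_sum, Finset.sum_mul]
  refine Fintype.sum_equiv (Equiv.mulLeft v) _ _ fun u => ?_
  rw [Equiv.coe_mulLeft, mul_assoc (a (v * u) * φ), ← map_mul, ← mul_assoc (a v), ← mul_assoc (a v),
    ← map_mul]
  congr 2
  group

theorem sum_pairing (S : Setting a) (e : Q) (he : e ∉ Subgroup.center Q) :
    ∑ u : Q, a ⁅u, e⁆ = 0 := by
  obtain ⟨u₀, hu₀⟩ := S.nondeg e he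
  obtain ⟨c, hc⟩ := S.scalar _ (S.cls u₀ e)
  have h1 : c • ∑ u : Q, a ⁅u, e⁆ = ∑ u : Q, a ⁅u, e⁆ := by
    rw [Finset.smul_sum]
    refine Fintype.sum_equiv (Equiv.mulLeft u₀) _ _ fun u => ?_
    rw [Equiv.coe_mulLeft]
    have h2 : ⁅u₀ * u, e⁆ = ⁅u₀, e⁆ * ⁅u, e⁆ := by
      have h3 : u₀ * ⁅u, e⁆ = ⁅u, e⁆ * u₀ := Subgroup.mem_center_iff.1 (S.cls u e) u₀
      calc ⁅u₀ * u, e⁆ = (u₀ * ⁅u, e⁆) * u₀⁻¹ * ⁅u₀, e⁆ := by
            simp only [commutatorElement_def]; group
        _ = ⁅u, e⁆ * ⁅u₀, e⁆ := by rw [h3, mul_inv_cancel_right]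
        _ = ⁅u₀, e⁆ * ⁅u, e⁆ := (Subgroup.mem_center_iff.1 (S.cls u e) _).symm
    rw [h2, map_mul, hc, smul_mul_assoc, one_mul]
  have hc1 : c - 1 ≠ 0 := fun h => hu₀ (by rw [hc, sub_eq_zero.1 h, one_smul])
  have h4 : (c - 1) • ∑ u : Q, a ⁅u, e⁆ = 0 := by rw [sub_smul, one_smul, h1, sub_self]
  exact (smul_eq_zero.1 h4).resolve_left hc1

theorem scalar_commute (S : Setting a) {z : Q} (hz : z ∈ Subgroup.center Q) (f : Module.End K W) :
    a z * f = f * a z := by
  obtain ⟨c, hc⟩ := S.scalar z hz
  rw [hc, smul_mul_assoc, one_mul, mul_smul_comm, mul_one]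

theorem coord_mul_center (S : Setting a) (c : Q) {z : Q} (hz : z ∈ Subgroup.center Q)
    (φ : Module.End K W) : coord a (c * z) φ * a (c * z) = coord a c φ * a c := by
  rw [coord_apply, coord_apply, Finset.sum_mul, Finset.sum_mul]
  refine Finset.sum_congr rfl fun u _ => ?_
  rw [mul_assoc, mul_assoc (a u * φ), ← map_mul, ← map_mul]
  congr 2
  have h := Subgroup.mem_center_iff.1 hz (c⁻¹ * u⁻¹ * c)
  calc (c * z)⁻¹ * u⁻¹ * (c * z) = z⁻¹ * ((c⁻¹ * u⁻¹ * c) * z) := by group
    _ = c⁻¹ * u⁻¹ * c := by rw [h, inv_mul_cancel_left]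

theorem sum_coord (S : Setting a) (φ : Module.End K W) :
    ∑ d : Q, coord a d φ * a d =
      ((Fintype.card Q : K) * (Nat.card (Subgroup.center Q) : K)) • φ := by
  classical
  simp only [coord_apply, Finset.sum_mul]
  rw [Finset.sum_comm]
  have h1 : ∀ u : Q, ∑ d : Q, a u * φ * a (d⁻¹ * u⁻¹) * a d =
      a u * φ * ((∑ d : Q, a ⁅d, u⁻¹⁆) * a u⁻¹) := by
    intro u
    rw [Finset.sum_mul, Finset.mul_sum]
    refine Fintype.sum_equiv (Equiv.inv Q) _ _ fun d => ?_
    rw [Equiv.inv_apply, mul_assoc _ (a (d⁻¹ * u⁻¹)), ← map_mul, ← map_mul]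
    congr 2
    simp only [commutatorElement_def]
    group
  simp only [h1]
  rw [← Finset.sum_filter_add_sum_filter_not Finset.univ (fun u : Q => u ∈ Subgroup.center Q)]
  have hz : ∀ u ∈ Finset.univ.filter (fun u : Q => u ∉ Subgroup.center Q),
      a u * φ * ((∑ d : Q, a ⁅d, u⁻¹⁆) * a u⁻¹) = 0 := fun u hu => by
    rw [sum_pairing S _ (fun h => (Finset.mem_filter.1 hu).2 (by simpa using inv_mem h)), zero_mul,
      mul_zero]
  rw [Finset.sum_eq_zero hz, add_zero]
  have hc : ∀ u ∈ Finset.univ.filter (fun u : Q => u ∈ Subgroup.center Q),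
      a u * φ * ((∑ d : Q, a ⁅d, u⁻¹⁆) * a u⁻¹) = (Fintype.card Q : K) • φ := fun u hu => by
    have huz := (Finset.mem_filter.1 hu).2
    have h2 : ∀ d : Q, ⁅d, u⁻¹⁆ = 1 := fun d =>
      commutatorElement_eq_one_iff_mul_comm.2 (Subgroup.mem_center_iff.1 (inv_mem huz) d)
    simp only [h2, map_one, Finset.sum_const, Finset.card_univ, ← Nat.cast_smul_eq_nsmul K,
      smul_mul_assoc, one_mul, mul_smul_comm]
    rw [scalar_commute S huz, mul_assoc, ← map_mul, mul_inv_cancel, map_one, mul_one]
  rw [Finset.sum_congr rfl hc, Finset.sum_const, ← Nat.cast_smul_eq_nsmul K, smul_smul, mul_comm]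
  congr 2
  rw [Nat.card_eq_fintype_card, ← Fintype.card_subtype]

theorem card_center_ne (S : Setting a) : (Nat.card (Subgroup.center Q) : K) ≠ 0 := fun h => by
  obtain ⟨k, hk⟩ := Subgroup.card_subgroup_dvd_card (Subgroup.center Q)
  refine S.card_ne ?_
  rw [← Nat.card_eq_fintype_card, hk, Nat.cast_mul, h, zero_mul]

/-- An endomorphism with no coefficients is zero. -/
theorem eq_zero_of_coord (S : Setting a) {φ : Module.End K W}
    (h : ∀ v : Q ⧸ Subgroup.center Q, coord a v.out φ = 0) : φ = 0 := by
  have h1 := sum_coord S φ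
  have h2 : ∀ d : Q, coord a d φ * a d = 0 := fun d => by
    obtain ⟨z, hz⟩ := QuotientGroup.mk_out_eq_mul (Subgroup.center Q) d
    rw [← coord_mul_center S d z.2, ← hz, h, zero_mul]
  rw [Finset.sum_eq_zero fun d _ => h2 d] at h1
  exact (smul_eq_zero.1 h1.symm).resolve_left (mul_ne_zero S.card_ne (card_center_ne S))

theorem coord_mul (S : Setting a) {f : Module.End K W} (hf : f ∈ commEnd a) (c d : Q) :
    coord a c (f * a d) = f * ((∑ u : Q, a ⁅u, d * c⁻¹⁆) * a (d * c⁻¹)) := by
  have _ := S.card_ne
  rw [coord_apply, Finset.sum_mul, Finset.mul_sum]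
  refine Finset.sum_congr rfl fun u _ => ?_
  rw [← mul_assoc (a u), hf u, mul_assoc f, mul_assoc f, ← map_mul, ← map_mul, ← map_mul]
  congr 2
  simp only [commutatorElement_def]
  group

/-- `End W` is free over the commuting algebra on the cosets of the centre. -/
theorem finrank_end_eq [FiniteDimensional K W] (S : Setting a) :
    Module.finrank K W * Module.finrank K W =
      Nat.card (Q ⧸ Subgroup.center Q) * Module.finrank K (commEnd a) := by
  classical
  haveI : Fintype (Q ⧸ Subgroup.center Q) := Fintype.ofFinite _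
  let P : (Q ⧸ Subgroup.center Q → commEnd a) →ₗ[K] Module.End K W :=
    { toFun := fun f => ∑ v, (f v : Module.End K W) * a v.out
      map_add' := fun f g => by simp [add_mul, Finset.sum_add_distrib]
      map_smul' := fun c f => by simp [Finset.smul_sum] }
  have hP : ∀ f, P f = ∑ v, (f v : Module.End K W) * a v.out := fun f => rfl
  have hinj : Function.Injective P := by
    rw [injective_iff_map_eq_zero]
    intro f hf
    funext w
    apply Subtype.ext
    have h1 := congrArg (coord a w.out) hf
    rw [hP, map_sum, map_zero, Finset.sum_eq_single w] at h1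
    · rw [coord_mul S (f w).2, mul_inv_cancel] at h1
      simp only [commutatorElement_one_right, map_one, Finset.sum_const, Finset.card_univ, mul_one,
        ← Nat.cast_smul_eq_nsmul K, mul_smul_comm] at h1
      exact (smul_eq_zero.1 h1).resolve_left S.card_ne
    · intro v _ hvw
      rw [coord_mul S (f v).2, sum_pairing S _ ?_, zero_mul, mul_zero]
      intro hmem
      apply hvw
      rw [← QuotientGroup.out_eq' v, ← QuotientGroup.out_eq' w, QuotientGroup.eq]
      have h3 := (inferInstance : (Subgroup.center Q).Normal).conj_mem _ (inv_mem hmem) v.out⁻¹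
      simpa [mul_assoc] using h3
    · simp
  have hsurj : Function.Surjective P := by
    intro φ
    set c := ((Fintype.card Q : K) * (Nat.card (Subgroup.center Q) : K))⁻¹ *
      (Nat.card (Subgroup.center Q) : K)
    refine ⟨fun v => c • ⟨coord a v.out φ, coord_mem _ _⟩, ?_⟩
    rw [hP]
    simp only [Submodule.coe_smul, smul_mul_assoc, ← Finset.smul_sum]
    have h2 : ∑ d : Q, coord a d φ * a d =
        (Nat.card (Subgroup.center Q) : K) • ∑ v : Q ⧸ Subgroup.center Q, coord a v.out φ * a v.out := by
      rw [← Finset.sum_fiberwise Finset.univ (fun d : Q => (d : Q ⧸ Subgroup.center Q)) _,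
        Finset.smul_sum]
      refine Finset.sum_congr rfl fun v _ => ?_
      have hcard : (Finset.univ.filter fun d : Q => (d : Q ⧸ Subgroup.center Q) = v).card =
          Nat.card (Subgroup.center Q) := by
        rw [← Fintype.card_subtype, ← Nat.card_eq_fintype_card]
        exact Nat.card_congr
          { toFun := fun d => ⟨v.out⁻¹ * d.1, QuotientGroup.eq.1 ((QuotientGroup.out_eq' v).trans d.2.symm)⟩
            invFun := fun z => ⟨v.out * z, by rw [QuotientGroup.mk_mul_of_mem _ z.2, QuotientGroup.out_eq']⟩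
            left_inv := fun d => Subtype.ext (mul_inv_cancel_left _ _)
            right_inv := fun z => Subtype.ext (inv_mul_cancel_left _ _) }
      rw [Finset.sum_congr rfl (g := fun _ => coord a v.out φ * a v.out) fun d hd => ?_, Finset.sum_const,
        hcard, Nat.cast_smul_eq_nsmul]
      obtain ⟨z, hz⟩ := QuotientGroup.mk_out_eq_mul (Subgroup.center Q) d
      rw [← (Finset.mem_filter.1 hd).2, hz, coord_mul_center S d z.2]
    rw [mul_smul, ← h2, sum_coord S, smul_smul,
      inv_mul_cancel₀ (mul_ne_zero S.card_ne (card_center_ne S)), one_smul]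
  have := (LinearEquiv.ofBijective P ⟨hinj, hsurj⟩).finrank_eq
  rw [Module.finrank_pi_fintype, Finset.sum_const, Finset.card_univ, smul_eq_mul,
    Module.finrank_linearMap] at this
  rw [← this, Nat.card_eq_fintype_card]

/-- The centralizer of an endomorphism. -/
def centEnd (T : Module.End K W) : Submodule K (Module.End K W) where
  carrier := {f | T * f = f * T}
  add_mem' {f g} hf hg := show T * (f + g) = (f + g) * T by rw [mul_add, add_mul, hf, hg]
  zero_mem' := show T * 0 = 0 * T by rw [mul_zero, zero_mul]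
  smul_mem' c f hf := show T * (c • f) = (c • f) * T by rw [mul_smul_comm, smul_mul_assoc, hf]

theorem mem_centEnd {T f : Module.End K W} : f ∈ centEnd T ↔ T * f = f * T := Iff.rfl

/-- The centralizer of an operator inducing a free action of order `h` on the nontrivial cosets of
the centre. -/
theorem finrank_centEnd_le [FiniteDimensional K W] (S : Setting a) (T : Module.End K W)
    (σ : MulAut Q) {h : ℕ} (hh : 0 < h) (hσ : σ ^ h = 1)
    (hfree : ∀ i : ℕ, 0 < i → i < h → ∀ u : Q, u⁻¹ * (σ ^ i) u ∈ Subgroup.center Q →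
      u ∈ Subgroup.center Q)
    (hT : T ^ h = 1) (hconj : ∀ u, T * a u = a (σ u) * T) :
    ∃ O : ℕ, Nat.card (Q ⧸ Subgroup.center Q) = 1 + O * h ∧
      Module.finrank K (centEnd T) ≤ (1 + O) * Module.finrank K (commEnd a) := by
  classical
  haveI : Fintype (Q ⧸ Subgroup.center Q) := Fintype.ofFinite _
  have hmap : ∀ τ : MulAut Q, (Subgroup.center Q).map (τ : Q →* Q) = Subgroup.center Q := fun τ =>
    Subgroup.characteristic_iff_map_eq.1 inferInstance τ
  let bar : MulAut Q →* MulAut (Q ⧸ Subgroup.center Q) :=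
    { toFun := fun τ => QuotientGroup.congr _ _ τ (hmap τ)
      map_one' := MulEquiv.ext fun v => by
        obtain ⟨u, rfl⟩ := QuotientGroup.mk_surjective v
        rfl
      map_mul' := fun τ τ' => MulEquiv.ext fun v => by
        obtain ⟨u, rfl⟩ := QuotientGroup.mk_surjective v
        rfl }
  have hbar : ∀ (τ : MulAut Q) (u : Q), bar τ (u : Q ⧸ Subgroup.center Q) = ((τ u : Q) : Q ⧸ _) :=
    fun τ u => rfl
  set A := Subgroup.zpowers (bar σ)
  let Y := {v : Q ⧸ Subgroup.center Q // v ≠ 1}
  letI iY : MulAction A Y :=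
    { smul := fun g v => ⟨g.1 v.1, fun he => v.2 (g.1.injective (he.trans (map_one g.1).symm))⟩
      one_smul := fun v => Subtype.ext rfl
      mul_smul := fun g g' v => Subtype.ext rfl }
  have hσh : bar σ ^ h = 1 := by rw [← map_pow, hσ, map_one]
  have hA : ∀ g : A, ∃ i : ℕ, i < h ∧ bar σ ^ i = (g : MulAut _) := by
    intro g
    obtain ⟨i, hi⟩ := (mem_powers_iff_mem_zpowers (x := bar σ)).2 g.2
    exact ⟨i % h, Nat.mod_lt _ hh, (pow_eq_pow_mod i hσh).symm.trans hi⟩
  have hstab : ∀ v : Y, MulAction.stabilizer A v = ⊥ := by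
    intro v
    rw [Subgroup.eq_bot_iff_forall]
    intro g hg
    obtain ⟨u, hu⟩ := QuotientGroup.mk_surjective v.1
    obtain ⟨i, hi, hig⟩ := hA g
    rcases Nat.eq_zero_or_pos i with rfl | hi0
    · exact Subtype.ext (by rw [← hig, pow_zero]; rfl)
    exfalso
    apply v.2
    rw [← hu, QuotientGroup.eq_one_iff]
    refine hfree i hi0 hi u ?_
    rw [← QuotientGroup.eq]
    have h1 : g.1 v.1 = v.1 := congrArg Subtype.val hg
    rw [← hig, ← map_pow, ← hu, hbar] at h1
    exact h1.symm
  haveI : Fintype (Quotient (MulAction.orbitRel A Y)) := Fintype.ofFinite _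
  set O := Fintype.card (Quotient (MulAction.orbitRel A Y))
  refine ⟨O, ?_, ?_⟩
  · have hY : Nat.card Y = Nat.card (Q ⧸ Subgroup.center Q) - 1 := by
      rw [Nat.card_eq_fintype_card, Fintype.card_subtype_compl, Fintype.card_subtype_eq,
        Nat.card_eq_fintype_card]
    have hpos : 0 < Nat.card (Q ⧸ Subgroup.center Q) := Nat.card_pos
    have hO : Nat.card (Quotient (MulAction.orbitRel A Y)) = O := Nat.card_eq_fintype_card
    have h1 : Nat.card Y = O * Nat.card A := by
      rw [Nat.card_congr (MulAction.selfEquivOrbitsQuotientProd hstab), Nat.card_prod, hO]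
    rcases isEmpty_or_nonempty Y with hY0 | hY0
    · have hO0 : O = 0 := by
        have hA0 : 0 < Nat.card A := Nat.card_pos
        rw [Nat.card_of_isEmpty] at h1
        rcases Nat.mul_eq_zero.1 h1.symm with h3 | h3 <;> omega
      rw [Nat.card_of_isEmpty] at hY
      rw [hO0]; omega
    · obtain ⟨v⟩ := hY0
      have hord : orderOf (bar σ) = h := by
        refine le_antisymm (Nat.le_of_dvd hh (orderOf_dvd_of_pow_eq_one hσh)) ?_
        by_contra hlt
        push Not at hlt
        obtain ⟨u, hu⟩ := QuotientGroup.mk_surjective v.1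
        refine v.2 ?_
        rw [← hu, QuotientGroup.eq_one_iff]
        refine hfree _ (orderOf_pos _) hlt u ?_
        rw [← QuotientGroup.eq, ← hbar, map_pow, pow_orderOf_eq_one]
        rfl
      have hAcard : Nat.card A = h := (Nat.card_zpowers _).trans hord
      rw [hAcard] at h1
      omega
  · let Φ : centEnd T →ₗ[K] commEnd a × (Quotient (MulAction.orbitRel A Y) → commEnd a) :=
      { toFun := fun f => (⟨coord a (1 : Q ⧸ Subgroup.center Q).out f.1, coord_mem _ _⟩,
          fun o => ⟨coord a (o.out : Y).1.out f.1, coord_mem _ _⟩)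
        map_add' := fun f g => Prod.ext (Subtype.ext (map_add _ _ _))
          (funext fun o => Subtype.ext (map_add _ _ _))
        map_smul' := fun c f => Prod.ext (Subtype.ext (map_smul _ _ _))
          (funext fun o => Subtype.ext (map_smul _ _ _)) }
    have hΦ : Function.Injective Φ := by
      rw [injective_iff_map_eq_zero]
      intro f hf
      apply Subtype.ext
      refine eq_zero_of_coord S fun v => ?_
      have hzero : ∀ c d : Q, (c : Q ⧸ Subgroup.center Q) = d → coord a c f.1 = 0 →
          coord a d f.1 = 0 := by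
        intro c d hcd hc
        obtain ⟨z, hz, rfl⟩ : ∃ z ∈ Subgroup.center Q, c * z = d :=
          ⟨c⁻¹ * d, QuotientGroup.eq.1 hcd, mul_inv_cancel_left c d⟩
        have h1 := coord_mul_center S c hz f.1
        rw [hc, zero_mul] at h1
        have h2 := congrArg (· * a (c * z)⁻¹) h1
        simpa [mul_assoc, ← map_mul] using h2
      by_cases hv : v = 1
      · rw [hv]
        exact congrArg Subtype.val (congrArg Prod.fst hf)
      set o : Quotient (MulAction.orbitRel A Y) := Quotient.mk'' ⟨v, hv⟩
      have h0 : coord a (o.out : Y).1.out f.1 = 0 :=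
        congrArg Subtype.val (congrFun (congrArg Prod.snd hf) o)
      obtain ⟨g, hg⟩ := MulAction.orbitRel_apply.1
        (Quotient.exact' (Quotient.out_eq' o).symm : MulAction.orbitRel A Y ⟨v, hv⟩ o.out)
      obtain ⟨i, -, hig⟩ := hA g
      have key : ∀ (i : ℕ) (c : Q), coord a c f.1 = 0 → coord a ((σ ^ i) c) f.1 = 0 := by
        intro i
        induction i with
        | zero => intro c hc; simpa using hc
        | succ i ih =>
          intro c hc
          rw [pow_succ', MulAut.mul_apply]
          have hc' := ih c hc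
          have h1 : coord a (σ ((σ ^ i) c)) f.1 * T = T * coord a ((σ ^ i) c) f.1 := by
            rw [coord_apply, coord_apply, Finset.mul_sum, Finset.sum_mul]
            refine (Fintype.sum_equiv σ.toEquiv _ _ fun u => ?_).symm
            show T * (a u * f.1 * a (((σ ^ i) c)⁻¹ * u⁻¹)) =
              a (σ u) * f.1 * a ((σ ((σ ^ i) c))⁻¹ * (σ u)⁻¹) * T
            rw [← map_inv σ, ← map_inv σ, ← map_mul σ, mul_assoc _ _ T, ← hconj, ← mul_assoc T,
              ← mul_assoc T, hconj u, mul_assoc (a (σ u)), mem_centEnd.1 f.2]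
            simp only [mul_assoc]
          rw [hc', mul_zero] at h1
          have hunit : T * T ^ (h - 1) = 1 := by rw [← pow_succ', Nat.sub_add_cancel hh, hT]
          have h2 := congrArg (· * T ^ (h - 1)) h1
          simpa [mul_assoc, hunit] using h2
      refine hzero _ _ ?_ (key i _ h0)
      rw [← hbar, QuotientGroup.out_eq', QuotientGroup.out_eq', map_pow, hig]
      exact congrArg Subtype.val hg
    refine (LinearMap.finrank_le_finrank_of_injective hΦ).trans (le_of_eq ?_)
    rw [Module.finrank_prod, Module.finrank_pi_fintype, Finset.sum_const, Finset.card_univ, smul_eq_mul]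
    ring

/-- An operator of finite order coprime to the characteristic splits into eigenspaces, and its
centralizer contains the endomorphism algebra of each of them. -/
theorem exists_eigen_split [FiniteDimensional K W] (T : Module.End K W) {h : ℕ} (hh : 0 < h)
    (hT : T ^ h = 1) (hK : (h : K) ≠ 0) {ω : K} (hω : IsPrimitiveRoot ω h) :
    ∃ m : Fin h → ℕ, ∑ j, m j = Module.finrank K W ∧
      ∑ j, m j * m j ≤ Module.finrank K (centEnd T) ∧
      ((∑ i ∈ Finset.range h, T ^ i = 0) → m ⟨0, hh⟩ = 0) := by
  classical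
  let π : Fin h → Module.End K W := fun j =>
    (h : K)⁻¹ • ∑ i ∈ Finset.range h, ((ω ^ (j : ℕ))⁻¹) ^ i • T ^ i
  have hω0 : ω ≠ 0 := hω.ne_zero hh.ne'
  have hTπ : ∀ j : Fin h, T * π j = ω ^ (j : ℕ) • π j := by
    intro j
    set c := (ω ^ (j : ℕ))⁻¹ with hc
    have hc0 : c ≠ 0 := inv_ne_zero (pow_ne_zero _ hω0)
    have hch : c ^ h = 1 := by rw [hc, inv_pow, pow_right_comm, hω.pow_eq_one, one_pow, inv_one]
    have hgeom : (c • T) * (∑ i ∈ Finset.range h, (c • T) ^ i) = ∑ i ∈ Finset.range h, (c • T) ^ i := by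
      have h1 := mul_geom_sum (c • T) h
      rw [smul_pow, hch, hT, one_smul, sub_self, sub_mul, one_mul, sub_eq_zero] at h1
      exact h1
    simp only [π, ← smul_pow, ← hc, mul_smul_comm]
    rw [smul_comm (ω ^ (j : ℕ))]
    congr 1
    rw [show ω ^ (j : ℕ) = c⁻¹ by rw [hc, inv_inv]]
    conv_rhs => rw [← hgeom]
    rw [smul_mul_assoc, smul_smul, inv_mul_cancel₀ hc0, one_smul]
  have hsum : ∑ j, π j = 1 := by
    simp only [π, ← Finset.smul_sum]
    rw [Finset.sum_comm]
    simp only [← Finset.sum_smul]
    rw [Finset.sum_eq_single 0]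
    · simp [smul_smul, inv_mul_cancel₀ hK]
    · intro i hi hi0
      have hne : ω⁻¹ ^ i ≠ 1 := fun e =>
        hi0 (Nat.eq_zero_of_dvd_of_lt ((hω.inv).dvd_of_pow_eq_one i e) (Finset.mem_range.1 hi))
      have h1 : ∑ j : Fin h, ((ω ^ (j : ℕ))⁻¹) ^ i = 0 := by
        simp only [← inv_pow, pow_right_comm _ _ i]
        rw [Fin.sum_univ_eq_sum_range (fun j => (ω⁻¹ ^ i) ^ j), geom_sum_eq hne, pow_right_comm,
          hω.inv.pow_eq_one, one_pow, sub_self, zero_div]
      rw [h1, zero_smul]
    · intro h0; exact absurd (Finset.mem_range.2 hh) h0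
  have hTpow : ∀ (j : Fin h) (i : ℕ), T ^ i * π j = (ω ^ (j : ℕ)) ^ i • π j := by
    intro j i
    induction i with
    | zero => simp
    | succ i ih => rw [pow_succ, mul_assoc, hTπ, mul_smul_comm, ih, smul_smul, pow_succ']
  have hππ : ∀ j k : Fin h, π j * π k = if j = k then π k else 0 := by
    intro j k
    conv_lhs => arg 1; simp only [π]
    rw [smul_mul_assoc, Finset.sum_mul]
    simp only [smul_mul_assoc, hTpow, smul_smul, ← Finset.sum_smul, ← mul_pow]
    by_cases hjk : j = k
    · subst hjk
      rw [if_pos rfl, inv_mul_cancel₀ (pow_ne_zero _ hω0)]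
      simp [inv_mul_cancel₀ hK]
    · rw [if_neg hjk]
      have hne : (ω ^ (j : ℕ))⁻¹ * ω ^ (k : ℕ) ≠ 1 := fun e =>
        hjk (Fin.ext (hω.pow_inj j.2 k.2 (inv_mul_eq_one₀ (pow_ne_zero _ hω0) |>.1 e)))
      rw [geom_sum_eq hne, mul_pow, inv_pow, pow_right_comm ω _ h, pow_right_comm ω _ h, hω.pow_eq_one,
        one_pow, one_pow, inv_one, mul_one, sub_self, zero_div, mul_zero, zero_smul]
  set W' : Fin h → Submodule K W := fun j => LinearMap.range (π j)
  have hfix : ∀ j (w : W' j), π j w = w := by
    rintro j ⟨_, w, rfl⟩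
    show π j (π j w) = π j w
    rw [← Module.End.mul_apply, hππ, if_pos rfl]
  have hoff : ∀ j k (w : W' k), j ≠ k → π j w = 0 := by
    rintro j k ⟨_, w, rfl⟩ hjk
    show π j (π k w) = 0
    rw [← Module.End.mul_apply, hππ, if_neg hjk, LinearMap.zero_apply]
  refine ⟨fun j => Module.finrank K (W' j), ?_, ?_, ?_⟩
  · let e : W ≃ₗ[K] ((j : Fin h) → W' j) :=
      { toFun := fun w j => ⟨π j w, ⟨w, rfl⟩⟩
        map_add' := fun v w => funext fun j => Subtype.ext (map_add (π j) v w)
        map_smul' := fun c w => funext fun j => Subtype.ext (map_smul (π j) c w)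
        invFun := fun f => ∑ j, (f j : W)
        left_inv := fun w => by
          show ∑ j, π j w = w
          rw [← LinearMap.sum_apply, hsum, Module.End.one_apply]
        right_inv := fun f => funext fun j => Subtype.ext (by
          show π j (∑ k, (f k : W)) = f j
          rw [map_sum, Finset.sum_eq_single j (fun k _ hk => hoff j k (f k) (Ne.symm hk))
            (fun h => absurd (Finset.mem_univ _) h), hfix]) }
    rw [e.finrank_eq, Module.finrank_pi_fintype]
  · let L : ((j : Fin h) → Module.End K (W' j)) →ₗ[K] centEnd T :=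
      { toFun := fun g => ⟨∑ j, (W' j).subtype ∘ₗ g j ∘ₗ (π j).rangeRestrict, by
          rw [mem_centEnd]
          refine LinearMap.ext fun w => ?_
          simp only [Module.End.mul_apply, LinearMap.sum_apply, map_sum, LinearMap.comp_apply,
            Submodule.coe_subtype]
          refine Finset.sum_congr rfl fun j _ => ?_
          have h1 : ∀ x : W' j, T (x : W) = ω ^ (j : ℕ) • (x : W) := fun x => by
            rw [← hfix j x, ← Module.End.mul_apply, hTπ, LinearMap.smul_apply]
          have h2 : π j * T = ω ^ (j : ℕ) • π j := by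
            rw [← hTπ]
            simp only [π, smul_mul_assoc, mul_smul_comm, Finset.sum_mul, Finset.mul_sum, ← pow_succ,
              ← pow_succ']
          have h3 : (π j).rangeRestrict (T w) = ω ^ (j : ℕ) • (π j).rangeRestrict w := Subtype.ext (by
            show π j (T w) = ω ^ (j : ℕ) • π j w
            rw [← Module.End.mul_apply, h2, LinearMap.smul_apply])
          rw [h1, h3, map_smul, Submodule.coe_smul]⟩
        map_add' := fun g g' => Subtype.ext (by
          show _ = _ + _
          simp [LinearMap.add_comp, LinearMap.comp_add, Finset.sum_add_distrib])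
        map_smul' := fun c g => Subtype.ext (by
          show _ = c • _
          simp [LinearMap.smul_comp, LinearMap.comp_smul, Finset.smul_sum]) }
    have hL : Function.Injective L := by
      rw [injective_iff_map_eq_zero]
      intro g hg
      funext k
      refine LinearMap.ext fun w => Subtype.ext ?_
      have h1 := LinearMap.congr_fun (congrArg Subtype.val hg) (w : W)
      simp only [L, LinearMap.coe_mk, AddHom.coe_mk, LinearMap.sum_apply, LinearMap.comp_apply,
        Submodule.coe_subtype] at h1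
      rw [Finset.sum_eq_single k] at h1
      · have h2 : (π k).rangeRestrict (w : W) = w := Subtype.ext (hfix k w)
        rw [h2] at h1
        simpa using h1
      · intro j _ hj
        have h2 : (π j).rangeRestrict (w : W) = 0 := Subtype.ext (hoff j k w hj)
        rw [h2, map_zero]
        rfl
      · simp
    refine le_trans (le_of_eq ?_) (LinearMap.finrank_le_finrank_of_injective hL)
    rw [Module.finrank_pi_fintype]
    simp [Module.finrank_linearMap]
  · intro h0
    have h1 : π ⟨0, hh⟩ = 0 := by simp [π, h0]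
    show Module.finrank K (W' ⟨0, hh⟩) = 0
    rw [show W' ⟨0, hh⟩ = ⊥ by show LinearMap.range _ = ⊥; rw [h1, LinearMap.range_zero]]
    simp

end CfsgLib.Twisted
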